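import Cfsg.Agent.Mrg.Omega.S5.Def
import Cfsg.Agent.Mrg.Omega.VP
import Cfsg.Agent.ZN.ChoiceBase
import Cfsg.Agent.MinSimple.Basic
import Cfsg.Agent.ZN.Map

section


/-!
# II.c: a Sylow 2-subgroup on the even-subset module, `n = 2^m + 1`

`Fix0 ε S`: every element of `S` fixes the coordinate 0.  `EvenSet.exists_fix0`: such a labelling exists;
`EvenSet.trans`: a Sylow 2-subgroup is transitive on the other coordinates; `EvenSet.fixed`: its fixed points on `V`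
are `1` and `z_0`.
-/

set_option autoImplicit false

namespace Cfsg.Agent.Omega.S5.Syl

open Subgroup Pointwise Cfsg.Agent.Omega.S5.Def

universe u

variable {G : Type u} [Group G]

/-- `S` fixes the coordinate 0. -/
def Fix0 {n : ℕ} [NeZero n] (ε : (Fin n → ZMod 2) → G) (S : Subgroup G) : Prop :=
  ∀ s ∈ S, ∀ σ : Equiv.Perm (Fin n), Acts ε s σ → σ 0 = 0

variable {V L S : Subgroup G}

theorem three_le {m : ℕ} (hm : 1 ≤ m) : 3 ≤ 2 ^ m + 1 := by
  have : 2 ^ 1 ≤ 2 ^ m := Nat.pow_le_pow_right (by norm_num) hm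
  omega

theorem five_le {m : ℕ} (hm : 2 ≤ m) : 5 ≤ 2 ^ m + 1 := by
  have : 2 ^ 2 ≤ 2 ^ m := Nat.pow_le_pow_right (by norm_num) hm
  omega

/-- A 2-subgroup fixes a coordinate; a labelling with this coordinate called 0. -/
theorem exists_fix0 {m : ℕ} (hm : 1 ≤ m) {ε : (Fin (2 ^ m + 1) → ZMod 2) → G} (h : EvenSet (2 ^ m + 1) V L ε)
    (hS : IsPGroup 2 S) (hSL : S ≤ L) :
    ∃ ε' : (Fin (2 ^ m + 1) → ZMod 2) → G, EvenSet (2 ^ m + 1) V L ε' ∧ Fix0 ε' S := by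
  have h2 : Fact (Nat.Prime 2) := ⟨Nat.prime_two⟩
  have hn := three_le hm
  let f : S →* Equiv.Perm (Fin (2 ^ m + 1)) := (h.hom hn).comp (Subgroup.inclusion hSL)
  let act : MulAction S (Fin (2 ^ m + 1)) := MulAction.compHom _ f
  have hcard : ¬ 2 ∣ Nat.card (Fin (2 ^ m + 1)) := by
    rw [Nat.card_fin]
    intro h0
    have h1 : 2 ∣ 2 ^ m := dvd_pow_self 2 (by omega)
    omega
  obtain ⟨i, hi⟩ := hS.nonempty_fixed_point_of_prime_not_dvd_card (Fin (2 ^ m + 1)) hcard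
  refine ⟨_, h.relabel (Equiv.swap i 0), ?_⟩
  intro s hs σ hσ
  have h1 : f ⟨s, hs⟩ i = i := hi ⟨s, hs⟩
  have h3 : Acts ε s (f ⟨s, hs⟩) := h.acts_hom hn ⟨s, hSL hs⟩
  have h4 := h3.relabel (Equiv.swap i 0)
  have h5 := (h.relabel (Equiv.swap i 0)).acts_unique hn hσ h4
  rw [h5]
  simp [h1]

variable {m : ℕ} {ε : (Fin (2 ^ m + 1) → ZMod 2) → G}

/-- A Sylow 2-subgroup fixing the coordinate 0 is transitive on the others. -/
theorem trans [Finite G] (hm : 1 ≤ m) (h : EvenSet (2 ^ m + 1) V L ε) (hSL : S ≤ L)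
    (hS2 : ¬ 2 ∣ S.relIndex L) (h0 : Fix0 ε S) {i j : Fin (2 ^ m + 1)} (hi : i ≠ 0) (hj : j ≠ 0) :
    ∃ s ∈ S, ∃ σ : Equiv.Perm (Fin (2 ^ m + 1)), Acts ε s σ ∧ σ i = j := by
  have h2 : Fact (Nat.Prime 2) := ⟨Nat.prime_two⟩
  have hn := three_le hm
  let π := h.hom hn
  let actL : MulAction L (Fin (2 ^ m + 1)) := MulAction.compHom _ π
  have hact : ∀ (g : L) (k : Fin (2 ^ m + 1)), g • k = π g k := fun g k => rfl
  let H : Subgroup L := MulAction.stabilizer L (0 : Fin (2 ^ m + 1))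
  let S' : Subgroup L := S.subgroupOf L
  have hS'H : S' ≤ H := by
    intro s hs
    rw [MulAction.mem_stabilizer_iff, hact]
    exact h0 s hs _ (h.acts_hom hn s)
  -- the orbit of `i` under `H`
  let Hi : Subgroup L := H ⊓ MulAction.stabilizer L i
  let Si : Subgroup L := S' ⊓ MulAction.stabilizer L i
  have e1 : Si.relIndex S' * S'.relIndex H = Si.relIndex H :=
    relIndex_mul_relIndex _ _ _ inf_le_left hS'H
  have e2 : Si.relIndex Hi * Hi.relIndex H = Si.relIndex H :=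
    relIndex_mul_relIndex _ _ _ (inf_le_inf_right _ hS'H) inf_le_left
  have horb : ∀ (K : Subgroup L), (K ⊓ MulAction.stabilizer L i).relIndex K =
      (MulAction.orbit K i).ncard := by
    intro K
    rw [inf_relIndex_left, ← MulAction.index_stabilizer (G := K) (x := i), relIndex]
    rfl
  have hH : Hi.relIndex H = 2 ^ m := by
    rw [horb H]
    have h1 : MulAction.orbit H i = {0}ᶜ := by
      ext k
      rw [Set.mem_compl_iff, Set.mem_singleton_iff]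
      constructor
      · rintro ⟨⟨g, hg⟩, rfl⟩ hk
        have h3 : π g 0 = 0 := hg
        have h4 : π g i = 0 := hk
        exact hi ((π g).injective (h4.trans h3.symm))
      · intro hk
        obtain ⟨g, hg⟩ := h.hom_surjective hn (Equiv.swap i k)
        refine ⟨⟨g, ?_⟩, ?_⟩
        · rw [MulAction.mem_stabilizer_iff, hact]
          change h.hom hn g 0 = 0
          rw [hg, Equiv.swap_apply_of_ne_of_ne (Ne.symm hi) (Ne.symm hk)]
        · change h.hom hn g i = k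
          rw [hg, Equiv.swap_apply_left]
    rw [h1, Set.ncard_compl, Set.ncard_singleton, Nat.card_fin]
    simp
  have hodd : ¬ 2 ∣ S'.relIndex H := by
    intro h3
    apply hS2
    have h4 : S'.relIndex H * H.relIndex ⊤ = S'.relIndex ⊤ := relIndex_mul_relIndex _ _ _ hS'H le_top
    rw [relIndex_top_right (H := S')] at h4
    have h5 : S'.index = S.relIndex L := rfl
    rw [← h5, ← h4]
    exact dvd_mul_of_dvd_left h3 _
  have hdvd : 2 ^ m ∣ Si.relIndex S' := by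
    have h3 : 2 ^ m ∣ Si.relIndex S' * S'.relIndex H := by
      rw [e1, ← e2, hH]
      exact dvd_mul_left _ _
    have h4 : (2 ^ m).Coprime (S'.relIndex H) :=
      Nat.Coprime.pow_left m ((Nat.Prime.coprime_iff_not_dvd Nat.prime_two).mpr hodd)
    exact h4.dvd_of_dvd_mul_right h3
  have hle : 2 ^ m ≤ (MulAction.orbit S' i).ncard := by
    rw [← horb S']
    refine Nat.le_of_dvd (Nat.pos_of_ne_zero ?_) hdvd
    exact FiniteIndex.index_ne_zero
  have hsub : MulAction.orbit S' i ⊆ {0}ᶜ := by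
    rintro k ⟨⟨g, hg⟩, rfl⟩ hk
    have h3 : π g 0 = 0 := hS'H hg
    have h4 : π g i = 0 := hk
    exact hi ((π g).injective (h4.trans h3.symm))
  have heq : MulAction.orbit S' i = {0}ᶜ := by
    refine Set.eq_of_subset_of_ncard_le hsub ?_ (Set.toFinite _)
    rw [Set.ncard_compl, Set.ncard_singleton, Nat.card_fin]
    simpa using hle
  have hj' : j ∈ MulAction.orbit S' i := by
    rw [heq]
    exact hj
  obtain ⟨⟨g, hg⟩, hgj⟩ := hj'
  exact ⟨g, hg, π g, h.acts_hom hn g, hgj⟩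

/-- The fixed points of a Sylow 2-subgroup on `V` are `1` and `z_0`. -/
theorem fixed [Finite G] (hm : 1 ≤ m) (h : EvenSet (2 ^ m + 1) V L ε) (hSL : S ≤ L)
    (hS2 : ¬ 2 ∣ S.relIndex L) (h0 : Fix0 ε S) {v : G} (hv : v ∈ V) (hfix : ∀ s ∈ S, s * v = v * s) :
    v = 1 ∨ v = ε (Pi.single 0 1) := by
  have hn := three_le hm
  obtain ⟨x, rfl⟩ := h.surj v hv
  have hx : ∀ s ∈ S, ∀ σ, Acts ε s σ → x ∘ σ.symm = x := by
    intro s hs σ hσ
    have h1 := hσ x
    rw [hfix s hs, mul_inv_cancel_right] at h1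
    rcases h.eq_iff.mp h1 with h3 | h3
    · exact h3.symm
    · exfalso
      have h4 := congrFun h3 0
      have h5 : σ.symm 0 = 0 := by rw [Equiv.symm_apply_eq]; exact (h0 s hs σ hσ).symm
      rw [Pi.add_apply, Function.comp_apply, h5, Pi.one_apply] at h4
      have h6 : (0 : ZMod 2) = 1 := by
        calc (0 : ZMod 2) = x 0 + x 0 := (CharTwo.add_self_eq_zero _).symm
          _ = x 0 + (x 0 + 1) := by rw [← h4]
          _ = x 0 + x 0 + 1 := (add_assoc _ _ _).symm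
          _ = 1 := by rw [CharTwo.add_self_eq_zero, zero_add]
      exact zero_ne_one h6
  have hconst : ∀ i j, i ≠ 0 → j ≠ 0 → x i = x j := by
    intro i j hi hj
    obtain ⟨s, hs, σ, hσ, hij⟩ := trans hm h hSL hS2 h0 hi hj
    have h1 := congrFun (hx s hs σ hσ) j
    rw [Function.comp_apply] at h1
    rw [← h1, ← hij, Equiv.symm_apply_apply]
  have h1 : (1 : Fin (2 ^ m + 1)) ≠ 0 := by
    intro h3
    have h4 := congrArg Fin.val h3
    rw [Fin.val_one', Fin.val_zero, Nat.mod_eq_of_lt (by omega)] at h4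
    exact one_ne_zero h4
  have h01 : ∀ a : ZMod 2, a = 0 ∨ a = 1 := by decide
  have hx' : x = x 1 • (1 : Fin (2 ^ m + 1) → ZMod 2) + (x 0 + x 1) • Pi.single 0 1 := by
    funext i
    by_cases hi : i = 0
    · subst hi
      simp only [Pi.add_apply, Pi.smul_apply, Pi.one_apply, smul_eq_mul, mul_one, Pi.single_eq_same]
      rw [add_comm (x 0), ← add_assoc, CharTwo.add_self_eq_zero, zero_add]
    · simp only [Pi.add_apply, Pi.smul_apply, Pi.one_apply, smul_eq_mul, mul_one]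
      rw [Pi.single_eq_of_ne hi, mul_zero, add_zero]
      exact hconst _ _ hi h1
  rw [hx', h.add]
  rcases h01 (x 1) with h3 | h3 <;> rcases h01 (x 0 + x 1) with h4 | h4
  · left; rw [h4, h3, zero_smul, zero_smul, h.zero, mul_one]
  · right; rw [h4, h3, zero_smul, one_smul, h.zero, one_mul]
  · left; rw [h4, h3, one_smul, zero_smul, h.one, h.zero, mul_one]
  · right; rw [h4, h3, one_smul, one_smul, h.one, one_mul]

end Cfsg.Agent.Omega.S5.Syl

end

section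


/-!
# II.c: from `FFThm.SymK` with one summand and `C_V(O²(P)) = 1` to `EvenSet`
-/

set_option autoImplicit false

namespace Cfsg.Agent.Omega.S5.Of

open Subgroup Pointwise Cfsg.Agent.Omega.S5.Def Cfsg.Agent.Omega.S5.Syl Cfsg.Agent.Omega.FFThm

universe u

variable {G : Type u} [Group G]

/-- the even representative -/
def hat {n : ℕ} (x : Fin n → ZMod 2) : Fin n → ZMod 2 := fun i => x i + ∑ j, x j

theorem hat_add {n : ℕ} (x y : Fin n → ZMod 2) : hat (x + y) = hat x + hat y := by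
  funext i
  simp only [hat, Pi.add_apply, Finset.sum_add_distrib]
  ring

theorem hat_comp {n : ℕ} (x : Fin n → ZMod 2) (σ : Equiv.Perm (Fin n)) : hat (x ∘ σ) = hat x ∘ σ := by
  funext i
  simp only [hat, Function.comp_apply]
  rw [Equiv.sum_comp σ x]

theorem cast_odd {m : ℕ} (hm : 1 ≤ m) : ((2 ^ m + 1 : ℕ) : ZMod 2) = 1 := by
  obtain ⟨k, rfl⟩ : ∃ k, m = k + 1 := ⟨m - 1, by omega⟩
  rw [Nat.cast_add, Nat.cast_pow, pow_succ]
  have : ((2 : ℕ) : ZMod 2) = 0 := by decide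
  rw [this, mul_zero, zero_add, Nat.cast_one]

theorem sum_hat {m : ℕ} (hm : 1 ≤ m) (x : Fin (2 ^ m + 1) → ZMod 2) : ∑ i, hat x i = 0 := by
  simp only [hat, Finset.sum_add_distrib]
  rw [Finset.sum_const, Finset.card_univ, Fintype.card_fin, nsmul_eq_mul, cast_odd hm, one_mul,
    CharTwo.add_self_eq_zero]

theorem hat_eq_zero_iff {m : ℕ} (hm : 1 ≤ m) (x : Fin (2 ^ m + 1) → ZMod 2) : hat x = 0 ↔ x = 0 ∨ x = 1 := by
  have h01 : ∀ a : ZMod 2, a = 0 ∨ a = 1 := by decide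
  constructor
  · intro h
    have h1 : ∀ i, x i = ∑ j, x j := by
      intro i
      have h2 := congrFun h i
      rw [hat, Pi.zero_apply] at h2
      rw [← CharTwo.add_eq_zero]
      exact h2
    rcases h01 (∑ j, x j) with h3 | h3
    · left
      funext i
      rw [h1, h3]
      rfl
    · right
      funext i
      rw [h1, h3]
      rfl
  · rintro (rfl | rfl)
    · funext i
      simp [hat]
    · funext i
      simp only [hat, Pi.one_apply, Finset.sum_const, Finset.card_univ, Fintype.card_fin, nsmul_eq_mul, mul_one,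
        Pi.zero_apply]
      rw [cast_odd hm, CharTwo.add_self_eq_zero]

section

variable {T H V D : Subgroup G} {m : ℕ}

/-- the label map -/
noncomputable def lab (h : SymK T H V D 1 m) (hm : 1 ≤ m) (x : Fin (2 ^ m + 1) → ZMod 2) : G :=
  (h.surj (fun _ => hat x) fun _ => sum_hat hm x).choose

theorem lab_mem (h : SymK T H V D 1 m) (hm : 1 ≤ m) (x : Fin (2 ^ m + 1) → ZMod 2) : lab h hm x ∈ V :=
  (h.surj (fun _ => hat x) fun _ => sum_hat hm x).choose_spec.1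

theorem e_lab (h : SymK T H V D 1 m) (hm : 1 ≤ m) (x : Fin (2 ^ m + 1) → ZMod 2) :
    h.e (lab h hm x) = fun _ => hat x :=
  (h.surj (fun _ => hat x) fun _ => sum_hat hm x).choose_spec.2

theorem e_one (h : SymK T H V D 1 m) : h.e 1 = 0 := by
  have h1 := h.mul 1 V.one_mem 1 V.one_mem
  rw [mul_one] at h1
  exact left_eq_add.mp h1

theorem e_inv (h : SymK T H V D 1 m) {v : G} (hv : v ∈ V) : h.e v⁻¹ = h.e v := by
  have h1 := h.mul v hv v⁻¹ (V.inv_mem hv)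
  rw [mul_inv_cancel, e_one h] at h1
  funext i x
  have h2 := congrFun (congrFun h1 i) x
  rw [Pi.zero_apply, Pi.zero_apply, Pi.add_apply, Pi.add_apply] at h2
  have h3 : h.e v i x = h.e v⁻¹ i x := CharTwo.add_eq_zero.mp h2.symm
  exact h3.symm

theorem e_inj (h : SymK T H V D 1 m) (hD : D = ⊥) {v w : G} (hv : v ∈ V) (hw : w ∈ V) (hvw : h.e v = h.e w) :
    v = w := by
  have h1 := h.mul v hv w⁻¹ (V.inv_mem hw)
  rw [e_inv h hw, hvw] at h1
  have h2 : h.e (v * w⁻¹) = 0 := by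
    rw [h1]
    funext i x
    exact CharTwo.add_self_eq_zero _
  have h3 := (h.ker _ (V.mul_mem hv (V.inv_mem hw))).mp h2
  rw [hD, mem_bot, mul_inv_eq_one] at h3
  exact h3

theorem acts_iff (h : SymK T H V D 1 m) (hD : D = ⊥) (hm : 1 ≤ m) {g : G} (hg : g ∈ normalizer (V : Set G))
    (τ : Fin 1 → Equiv.Perm (Fin (2 ^ m + 1))) (σ : Equiv.Perm (Fin 1)) :
    ActsSym h.e V g σ τ ↔ Acts (lab h hm) g (τ 0) := by
  have hσ : ∀ i, σ i = 0 := fun i => Subsingleton.elim _ _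
  have hi0 : ∀ i : Fin 1, i = 0 := fun i => Subsingleton.elim _ _
  constructor
  · intro h1 x
    refine e_inj h hD ((mem_normalizer_iff.mp hg _).mp (lab_mem h hm x)) (lab_mem h hm _) ?_
    rw [e_lab]
    funext i y
    rw [hi0 i]
    have h2 := h1 _ (lab_mem h hm x) 0 ((τ 0).symm y)
    rw [hσ, Equiv.apply_symm_apply, e_lab] at h2
    rw [h2]
    change hat x ((τ 0).symm y) = hat (x ∘ (τ 0).symm) y
    rw [hat_comp]
    rfl
  · intro h1 v hv i y
    rw [hσ, hi0 i]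
    have h01 : ∑ x, h.e v 0 x = 0 := h.even v hv 0
    have h2 : lab h hm (h.e v 0) = v := by
      refine e_inj h hD (lab_mem h hm _) hv ?_
      rw [e_lab]
      funext i z
      rw [hi0 i]
      change h.e v 0 z + ∑ j, h.e v 0 j = h.e v 0 z
      rw [h01, add_zero]
    have h3 := h1 (h.e v 0)
    rw [h2] at h3
    rw [h3, e_lab]
    change hat (h.e v 0 ∘ (τ 0).symm) (τ 0 y) = h.e v 0 y
    rw [hat_comp]
    change hat (h.e v 0) ((τ 0).symm (τ 0 y)) = _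
    rw [Equiv.symm_apply_apply]
    change h.e v 0 y + ∑ j, h.e v 0 j = h.e v 0 y
    rw [h01, add_zero]

/-- **One summand, `D = 1`**: `V` is the even-subset module. -/
theorem evenSet (h : SymK T H V D 1 m) (hD : D = ⊥) (hm : 1 ≤ m) (hH : H ≤ normalizer (V : Set G)) :
    EvenSet (2 ^ m + 1) V H (lab h hm) where
  add x y := by
    refine e_inj h hD (lab_mem h hm _) (V.mul_mem (lab_mem h hm _) (lab_mem h hm _)) ?_
    rw [h.mul _ (lab_mem h hm _) _ (lab_mem h hm _), e_lab, e_lab, e_lab, hat_add]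
    rfl
  mem := lab_mem h hm
  surj v hv := by
    refine ⟨h.e v 0, e_inj h hD (lab_mem h hm _) hv ?_⟩
    rw [e_lab]
    funext i z
    rw [Subsingleton.elim i 0]
    change h.e v 0 z + ∑ j, h.e v 0 j = h.e v 0 z
    rw [h.even v hv 0, add_zero]
  ker x := by
    rw [← hat_eq_zero_iff hm]
    constructor
    · intro h1
      have h2 := e_lab h hm x
      rw [h1, e_one h] at h2
      exact (congrFun h2 0).symm
    · intro h1
      refine e_inj h hD (lab_mem h hm _) V.one_mem ?_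
      rw [e_lab, e_one h, h1]
      rfl
  perm g hg := by
    obtain ⟨σ, τ, h1⟩ := h.perm g hg
    exact ⟨_, (acts_iff h hD hm (hH hg) τ σ).mp h1⟩
  full σ := by
    obtain ⟨g, hg, h1, -⟩ := h.lift fun _ => σ
    exact ⟨g, hg, (acts_iff h hD hm (hH hg) _ _).mp h1⟩

theorem fix0 (h : SymK T H V D 1 m) (hD : D = ⊥) (hm : 1 ≤ m) (hH : H ≤ normalizer (V : Set G)) (hTH : T ≤ H) :
    Fix0 (lab h hm) T := by
  intro s hs σ hσ
  exact h.fix0 s hs 1 (fun _ => σ) ((acts_iff h hD hm (hH (hTH hs)) (fun _ => σ) 1).mpr hσ) 0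

/-- offenders are generated by transpositions -/
theorem off (h : SymK T H V D 1 m) (hD : D = ⊥) (hm : 1 ≤ m) (hH : H ≤ normalizer (V : Set G)) (hTH : T ≤ H)
    {A : Subgroup G} (hA : A ≤ T) (hoff : Off V A) {a : G} (ha : a ∈ A) :
    ∃ τ : Equiv.Perm (Fin (2 ^ m + 1)), Acts (lab h hm) a τ ∧ ∀ x, τ x ≠ x → τ (τ x) = x ∧
      ∃ b ∈ A, Acts (lab h hm) b (Equiv.swap x (τ x)) := by
  obtain ⟨τ, h1, h2⟩ := (h.off A hA hoff).2 a ha
  refine ⟨τ 0, (acts_iff h hD hm (hH (hTH (hA ha))) τ 1).mp h1, fun x hx => ?_⟩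
  obtain ⟨h3, b, hb, h4⟩ := h2 0 x hx
  refine ⟨h3, b, hb, ?_⟩
  have h5 := (acts_iff h hD hm (hH (hTH (hA hb))) _ 1).mp h4
  rwa [Function.update_self] at h5

end

end Cfsg.Agent.Omega.S5.Of

end

section


/-!
# Natural `O₄⁻(2)`-modules (`S₅` on `F₂⁵ / ⟨1⟩`) as subgroups of a group

`FiveMod V L`: the subgroup `V` of `G` is identified with `F₂⁵ / ⟨(1,1,1,1,1)⟩` (= the even subsets of
`{0,..,4}`) in such a way that `L` induces exactly `S₅` on `V`.

* `M.e x`, `x : Fin 5 → ZMod 2`; `M.e x = M.e y ↔ x = y ∨ x = y + 1`; the singular vectors are the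
  `M.e (Pi.single i 1)`;
* `M.Ind g p` : `g` acts as the permutation `p`; `M.pi : L →* Perm (Fin 5)`, surjective;
* `M.cj g : FiveMod (cj g V) (cj g L)`, `M.relabel σ : FiveMod V L`;
* `le_o2_of_comm` : `x ∈ C = C_G(z)`, `[x, O₂(C)] ≤ ⟨z⟩` ⟹ `x ∈ O₂(C)` (characteristic 2).
-/

set_option autoImplicit false

namespace Cfsg.Agent.Omega.S5.Mod

open Subgroup Cfsg Cfsg.Agent.ZN Cfsg.Agent.ZN.ChoiceBase

universe u

variable {G : Type u} [Group G]

/-- `F₂⁵` -/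
abbrev Vec := Fin 5 → ZMod 2

/-- `V` is the module `F₂⁵ / ⟨1⟩` for `L`, which induces `S₅` on it. -/
structure FiveMod (V L : Subgroup G) where
  e : Vec → G
  e_add : ∀ x y, e (x + y) = e x * e y
  ker : ∀ x, e x = 1 ↔ x = 0 ∨ x = 1
  mem_iff : ∀ g, g ∈ V ↔ ∃ x, e x = g
  act : ∀ g ∈ L, ∃ p : Equiv.Perm (Fin 5), ∀ x, g * e x * g⁻¹ = e (x ∘ p.symm)
  lift : ∀ p : Equiv.Perm (Fin 5), ∃ g ∈ L, ∀ x, g * e x * g⁻¹ = e (x ∘ p.symm)

theorem add_self (x : Vec) : x + x = 0 := funext fun i => CharTwo.add_self_eq_zero (x i)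

theorem sub_eq (x y : Vec) : x - y = x + y := by
  funext i
  exact CharTwo.sub_eq_add (x i) (y i)

theorem add_add_cancel' (x y : Vec) : x + y + y = x := by rw [add_assoc, add_self, add_zero]

namespace FiveMod

variable {V L : Subgroup G} (M : FiveMod V L)

theorem e_zero : M.e 0 = 1 := (M.ker 0).2 (Or.inl rfl)

theorem e_one : M.e 1 = 1 := (M.ker 1).2 (Or.inr rfl)

theorem e_mem (x : Vec) : M.e x ∈ V := (M.mem_iff _).2 ⟨x, rfl⟩

theorem e_sq (x : Vec) : M.e x * M.e x = 1 := by rw [← M.e_add, add_self, M.e_zero]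

theorem e_inv (x : Vec) : (M.e x)⁻¹ = M.e x := inv_eq_of_mul_eq_one_left (M.e_sq x)

theorem e_comm (x y : Vec) : M.e x * M.e y = M.e y * M.e x := by
  rw [← M.e_add, ← M.e_add, add_comm]

theorem e_eq_iff {x y : Vec} : M.e x = M.e y ↔ x = y ∨ x = y + 1 := by
  have h : M.e x = M.e y ↔ M.e (x + y) = 1 := by
    rw [M.e_add]
    constructor
    · intro h; rw [h, M.e_sq]
    · intro h
      have := congrArg (· * M.e y) h
      simpa [mul_assoc, M.e_sq] using this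
  rw [h, M.ker]
  constructor
  · rintro (h1 | h1)
    · left
      rw [← add_add_cancel' x y, h1, zero_add]
    · right
      rw [← add_add_cancel' x y, h1, add_comm]
  · rintro (h1 | h1)
    · left; rw [h1, add_self]
    · right
      rw [h1, add_assoc, add_comm 1 y, ← add_assoc, add_self, zero_add]

include M in
theorem comm {v w : G} (hv : v ∈ V) (hw : w ∈ V) : v * w = w * v := by
  obtain ⟨x, rfl⟩ := (M.mem_iff v).1 hv
  obtain ⟨y, rfl⟩ := (M.mem_iff w).1 hw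
  exact M.e_comm x y

include M in
theorem sq {v : G} (hv : v ∈ V) : v * v = 1 := by
  obtain ⟨x, rfl⟩ := (M.mem_iff v).1 hv
  exact M.e_sq x

include M in
theorem isPGroup : IsPGroup 2 V := by
  rintro ⟨v, hv⟩
  refine ⟨1, Subtype.ext ?_⟩
  change v ^ (2 ^ 1) = 1
  rw [pow_one, pow_two]
  exact M.sq hv

/-- `g` acts on `V` as the permutation `p` -/
def Ind (g : G) (p : Equiv.Perm (Fin 5)) : Prop := ∀ x, g * M.e x * g⁻¹ = M.e (x ∘ p.symm)

variable {M}

theorem Ind.mul {g h : G} {p q : Equiv.Perm (Fin 5)} (hg : M.Ind g p) (hh : M.Ind h q) :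
    M.Ind (g * h) (p * q) := by
  intro x
  have h1 : g * h * M.e x * (g * h)⁻¹ = g * (h * M.e x * h⁻¹) * g⁻¹ := by group
  rw [h1, hh, hg]
  rfl

theorem Ind.inv {g : G} {p : Equiv.Perm (Fin 5)} (hg : M.Ind g p) : M.Ind g⁻¹ p⁻¹ := by
  intro x
  have h1 := hg (x ∘ p)
  have h2 : (x ∘ p) ∘ p.symm = x := by
    funext i; simp
  rw [h2] at h1
  rw [← h1, inv_inv]
  have h3 : g⁻¹ * (g * M.e (x ∘ p) * g⁻¹) * g = M.e (x ∘ p) := by group
  rw [h3]
  rfl

theorem Ind.mem_normalizer {g : G} {p : Equiv.Perm (Fin 5)} (hg : M.Ind g p) :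
    g ∈ normalizer (V : Set G) := by
  rw [mem_normalizer_iff]
  intro v
  constructor
  · intro hv
    obtain ⟨x, rfl⟩ := (M.mem_iff v).1 hv
    rw [hg]
    exact M.e_mem _
  · intro hv
    obtain ⟨x, hx⟩ := (M.mem_iff _).1 hv
    refine (M.mem_iff _).2 ⟨x ∘ p, ?_⟩
    have h1 := hg.inv x
    rw [hx] at h1
    have h2 : g⁻¹ * (g * v * g⁻¹) * g⁻¹⁻¹ = v := by group
    rw [h2] at h1
    rw [h1]
    rfl

theorem single_inj : ∀ j k : Fin 5, (Pi.single j 1 : Vec) = Pi.single k 1 ∨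
    (Pi.single j 1 : Vec) = Pi.single k 1 + 1 → j = k := by decide

theorem single_comp (p : Equiv.Perm (Fin 5)) (i : Fin 5) :
    (Pi.single i 1 : Vec) ∘ p.symm = Pi.single (p i) 1 := by
  funext j
  simp only [Function.comp_apply, Pi.single_apply, Equiv.symm_apply_eq]

theorem Ind.unique {g : G} {p q : Equiv.Perm (Fin 5)} (h1 : M.Ind g p) (h2 : M.Ind g q) :
    p = q := by
  ext i
  have h3 := (h1 (Pi.single i 1)).symm.trans (h2 (Pi.single i 1))
  rw [single_comp, single_comp, M.e_eq_iff] at h3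
  exact congrArg _ (single_inj _ _ h3)

theorem ind_one_iff {g : G} : M.Ind g 1 ↔ g ∈ centralizer (V : Set G) := by
  rw [mem_centralizer_iff]
  constructor
  · intro h v hv
    obtain ⟨x, rfl⟩ := (M.mem_iff v).1 hv
    have h1 := h x
    rw [mul_inv_eq_iff_eq_mul] at h1
    exact h1.symm
  · intro h x
    rw [mul_inv_eq_iff_eq_mul]
    exact (h _ (M.e_mem x)).symm

/-- `e x` is fixed by `g` iff `x` is fixed by `p` modulo `⟨1⟩`. -/
theorem Ind.commute_iff {g : G} {p : Equiv.Perm (Fin 5)} (h : M.Ind g p) (x : Vec) :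
    g * M.e x = M.e x * g ↔ x ∘ p.symm = x ∨ x ∘ p.symm = x + 1 := by
  rw [← M.e_eq_iff, ← h, mul_inv_eq_iff_eq_mul]

theorem Ind.comm_eq {g : G} {p : Equiv.Perm (Fin 5)} (h : M.Ind g p) (x : Vec) :
    g * M.e x * g⁻¹ * (M.e x)⁻¹ = M.e (x ∘ p.symm + x) := by
  rw [h, M.e_inv, M.e_add]

variable (M)

theorem ind_one : M.Ind 1 1 := ind_one_iff.2 (one_mem _)

/-- The permutation induced by an element of `L`. -/
noncomputable def pi : L →* Equiv.Perm (Fin 5) where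
  toFun g := (M.act g g.2).choose
  map_one' := Ind.unique (M := M) (g := 1) (M.act ((1 : L) : G) (1 : L).2).choose_spec M.ind_one
  map_mul' g h := Ind.unique (M := M) (g := (g : G) * h)
    (M.act ((g * h : L) : G) (g * h : L).2).choose_spec
    (Ind.mul (M := M) (M.act g g.2).choose_spec (M.act h h.2).choose_spec)

theorem pi_spec (g : L) : M.Ind (g : G) (M.pi g) := by
  intro x
  exact (M.act g g.2).choose_spec x

theorem pi_eq {g : L} {p : Equiv.Perm (Fin 5)} (h : M.Ind (g : G) p) :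
    M.pi g = p := Ind.unique (M.pi_spec g) h

theorem exists_ind {g : G} (hg : g ∈ L) : ∃ p, M.Ind g p := M.act g hg

theorem exists_lift (p : Equiv.Perm (Fin 5)) : ∃ g ∈ L, M.Ind g p := M.lift p

include M in
theorem le_normalizer : L ≤ normalizer (V : Set G) := fun _ hg =>
  (M.exists_ind hg).choose_spec.mem_normalizer

theorem pi_surjective : Function.Surjective M.pi := by
  intro p
  obtain ⟨g, hg, hi⟩ := M.exists_lift p
  exact ⟨⟨g, hg⟩, M.pi_eq hi⟩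

/-- The conjugate module. -/
def cj (g : G) : FiveMod (ChoiceBase.cj g V) (ChoiceBase.cj g L) where
  e x := g * M.e x * g⁻¹
  e_add x y := by rw [M.e_add]; group
  ker x := by
    rw [← M.ker, mul_inv_eq_iff_eq_mul, one_mul, mul_eq_left]
  mem_iff v := by
    rw [mem_cj, M.mem_iff]
    constructor
    · rintro ⟨x, hx⟩
      exact ⟨x, by rw [hx]; group⟩
    · rintro ⟨x, hx⟩
      exact ⟨x, by rw [← hx]; group⟩
  act h hh := by
    rw [mem_cj] at hh
    obtain ⟨p, hp⟩ := M.act _ hh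
    refine ⟨p, fun x => ?_⟩
    rw [← hp]; group
  lift p := by
    obtain ⟨h, hL, hh⟩ := M.lift p
    refine ⟨g * h * g⁻¹, ⟨h, hL, rfl⟩, fun x => ?_⟩
    rw [← hh]; group

theorem cj_e (g : G) (x : Vec) : (M.cj g).e x = g * M.e x * g⁻¹ := rfl

theorem cj_ind {g h : G} {p : Equiv.Perm (Fin 5)} (hh : M.Ind h p) :
    (M.cj g).Ind (g * h * g⁻¹) p := by
  intro x
  rw [cj_e, cj_e, ← hh]; group

theorem ind_of_cj {g h : G} {p : Equiv.Perm (Fin 5)} (hh : (M.cj g).Ind h p) :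
    M.Ind (g⁻¹ * h * g) p := by
  intro x
  have h1 := hh x
  rw [cj_e, cj_e] at h1
  calc g⁻¹ * h * g * M.e x * (g⁻¹ * h * g)⁻¹ = g⁻¹ * (h * (g * M.e x * g⁻¹) * h⁻¹) * g := by group
    _ = M.e (x ∘ p.symm) := by rw [h1]; group

/-- Changing the labels. -/
def relabel (σ : Equiv.Perm (Fin 5)) : FiveMod V L where
  e x := M.e (x ∘ σ.symm)
  e_add x y := by rw [← M.e_add]; rfl
  ker x := by
    rw [M.ker]
    constructor
    · rintro (h | h)
      · left
        funext i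
        have := congrFun h (σ i)
        simpa using this
      · right
        funext i
        have := congrFun h (σ i)
        simpa using this
    · rintro (rfl | rfl)
      · left; rfl
      · right; rfl
  mem_iff v := by
    rw [M.mem_iff]
    constructor
    · rintro ⟨x, rfl⟩
      refine ⟨x ∘ σ, ?_⟩
      congr 1
      funext i; simp
    · rintro ⟨x, rfl⟩
      exact ⟨_, rfl⟩
  act g hg := by
    obtain ⟨p, hp⟩ := M.act g hg
    refine ⟨σ⁻¹ * p * σ, fun x => ?_⟩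
    rw [hp]
    congr 1
    funext i
    change x (σ⁻¹ (p⁻¹ i)) = x ((σ⁻¹ * p * σ)⁻¹ (σ⁻¹ i))
    rw [← Equiv.Perm.mul_apply, ← Equiv.Perm.mul_apply]
    congr 2
    group
  lift p := by
    obtain ⟨g, hL, hg⟩ := M.lift (σ * p * σ⁻¹)
    refine ⟨g, hL, fun x => ?_⟩
    rw [hg]
    congr 1
    funext i
    change x (σ⁻¹ ((σ * p * σ⁻¹)⁻¹ i)) = x (p⁻¹ (σ⁻¹ i))
    rw [← Equiv.Perm.mul_apply, ← Equiv.Perm.mul_apply]
    congr 2
    group

theorem relabel_e (σ : Equiv.Perm (Fin 5)) (x : Vec) : (M.relabel σ).e x = M.e (x ∘ σ.symm) := rfl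

variable {M} in
theorem relabel_ind (σ : Equiv.Perm (Fin 5)) {g : G} {p : Equiv.Perm (Fin 5)} (h : M.Ind g p) :
    (M.relabel σ).Ind g (σ⁻¹ * p * σ) := by
  intro x
  rw [relabel_e, relabel_e, h]
  congr 1
  funext i
  change x (σ⁻¹ (p⁻¹ i)) = x ((σ⁻¹ * p * σ)⁻¹ (σ⁻¹ i))
  rw [← Equiv.Perm.mul_apply, ← Equiv.Perm.mul_apply]
  congr 2
  group

variable {M} in
theorem ind_of_relabel (σ : Equiv.Perm (Fin 5)) {g : G} {p : Equiv.Perm (Fin 5)}
    (h : (M.relabel σ).Ind g p) : M.Ind g (σ * p * σ⁻¹) := by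
  intro x
  have h1 := h (x ∘ σ)
  rw [relabel_e, relabel_e] at h1
  have e1 : (x ∘ σ) ∘ σ.symm = x := by funext i; simp
  rw [e1] at h1
  rw [h1]
  rfl

variable {M} in
/-- `x` acts on `V ^ (g l)` as on `V ^ g`, up to the permutation induced by `l`. -/
theorem cj_mul_ind {g l : G} {σ : Equiv.Perm (Fin 5)} (hl : M.Ind l σ) {x : G}
    {p : Equiv.Perm (Fin 5)} (hx : (M.cj g).Ind x p) : (M.cj (g * l)).Ind x (σ⁻¹ * p * σ) := by
  intro y
  have e : ∀ z, (M.cj (g * l)).e z = (M.cj g).e (z ∘ σ.symm) := by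
    intro z
    rw [M.cj_e, M.cj_e, ← hl]
    group
  rw [e, e, hx]
  congr 1
  funext i
  change y (σ⁻¹ (p⁻¹ i)) = y ((σ⁻¹ * p * σ)⁻¹ (σ⁻¹ i))
  rw [← Equiv.Perm.mul_apply, ← Equiv.Perm.mul_apply]
  congr 2
  group

end FiveMod

/-! ### Characteristic 2 -/

/-- In a group of characteristic 2 type: `x ∈ C = C_G(z)`, `z` an involution, `[x, O₂(C)] ≤ ⟨z⟩`
imply `x ∈ O₂(C)`. -/
theorem le_o2_of_comm [Finite G] (hG : IsCharacteristicTwoType G) {z : G} (hz : z ^ 2 = 1)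
    (hz1 : z ≠ 1) {x : G} (hx : x * z = z * x)
    (h : ∀ q ∈ o2 (centralizer ({z} : Set G)), x * q * x⁻¹ * q⁻¹ = 1 ∨ x * q * x⁻¹ * q⁻¹ = z) :
    x ∈ o2 (centralizer ({z} : Set G)) := by
  set C := centralizer ({z} : Set G) with hC
  set Q := o2 C with hQ
  have hzz : z * z = 1 := by rw [← pow_two]; exact hz
  have hmC : ∀ {y : G}, y ∈ C ↔ y * z = z * y := by
    intro y; rw [hC, mem_centralizer_singleton_iff]
  have hQC : Q ≤ C := MinSimple.VModule.o2_le C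
  have hn : ∀ {c q : G}, c ∈ C → q ∈ Q → c * q * c⁻¹ ∈ Q := fun hc hq =>
    (mem_normalizer_iff.1 (MinSimple.VModule.le_normalizer_o2 C hc) _).1 hq
  let D : Subgroup G :=
    { carrier := {y | y ∈ C ∧ ∀ q ∈ Q, y * q * y⁻¹ * q⁻¹ = 1 ∨ y * q * y⁻¹ * q⁻¹ = z}
      one_mem' := ⟨one_mem _, fun q _ => Or.inl (by group)⟩
      mul_mem' := by
        rintro a b ⟨ha, ha'⟩ ⟨hb, hb'⟩
        refine ⟨mul_mem ha hb, fun q hq => ?_⟩
        have h1 : a * b * q * (a * b)⁻¹ * q⁻¹ =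
            (a * (b * q * b⁻¹) * a⁻¹ * (b * q * b⁻¹)⁻¹) * (b * q * b⁻¹ * q⁻¹) := by group
        rw [h1]
        rcases ha' _ (hn hb hq) with h2 | h2 <;> rcases hb' q hq with h3 | h3 <;>
          rw [h2, h3] <;> simp [hzz]
      inv_mem' := by
        rintro a ⟨ha, ha'⟩
        refine ⟨inv_mem ha, fun q hq => ?_⟩
        have h1 : a⁻¹ * q * a⁻¹⁻¹ * q⁻¹ = (a * (a⁻¹ * q * a⁻¹⁻¹) * a⁻¹ * (a⁻¹ * q * a⁻¹⁻¹)⁻¹)⁻¹ := by
          group
        rw [h1]
        rcases ha' _ (hn (inv_mem ha) hq) with h2 | h2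
        · left; rw [h2, inv_one]
        · right; rw [h2]; exact inv_eq_of_mul_eq_one_left hzz }
  have hD : D ≤ C := fun y hy => hy.1
  -- `D` is a 2-group
  have hcent : ∀ y ∈ D, y * y ∈ Q := by
    rintro y ⟨hy, hy'⟩
    refine MinSimple.Basic.char2_centralizer hG hz hz1
      (mem_inf.2 ⟨mul_mem hy hy, mem_centralizer_iff.2 ?_⟩)
    intro q hq
    have h1 : y * y * q * (y * y)⁻¹ * q⁻¹ = y * (y * q * y⁻¹ * q⁻¹) * y⁻¹ * (y * q * y⁻¹ * q⁻¹) := by
      group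
    have h2 : y * y * q * (y * y)⁻¹ * q⁻¹ = 1 := by
      rw [h1]
      rcases hy' q hq with h3 | h3
      · rw [h3]; group
      · rw [h3, hmC.1 hy]
        have : z * y * y⁻¹ * z = z * z := by group
        rw [this, hzz]
    have h4 : y * y * q = (y * y * q * (y * y)⁻¹ * q⁻¹) * (q * (y * y)) := by
      simp only [mul_assoc, mul_inv_rev, inv_mul_cancel_left, inv_mul_cancel, mul_one]
    rw [h4, h2, one_mul]
  have hDp : IsPGroup 2 D := by
    rintro ⟨y, hy⟩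
    obtain ⟨k, hk⟩ := MinSimple.VModule.o2_isPGroup C ⟨y * y, hcent y hy⟩
    refine ⟨k + 1, Subtype.ext ?_⟩
    have h1 := congrArg Subtype.val hk
    change (y * y) ^ 2 ^ k = 1 at h1
    change y ^ 2 ^ (k + 1) = 1
    rw [pow_succ', pow_mul, pow_two]
    exact h1
  have hDn : C ≤ normalizer (D : Set G) := by
    intro c hc
    refine mem_normalizer_of_cj_le ?_
    rintro _ ⟨y, ⟨hy, hy'⟩, rfl⟩
    refine ⟨mul_mem (mul_mem hc hy) (inv_mem hc), fun q hq => ?_⟩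
    have h1 := hn (inv_mem hc) hq
    have h2 : c * y * c⁻¹ * q * (c * y * c⁻¹)⁻¹ * q⁻¹ =
        c * (y * (c⁻¹ * q * c⁻¹⁻¹) * y⁻¹ * (c⁻¹ * q * c⁻¹⁻¹)⁻¹) * c⁻¹ := by group
    change c * y * c⁻¹ * q * (c * y * c⁻¹)⁻¹ * q⁻¹ = 1 ∨ c * y * c⁻¹ * q * (c * y * c⁻¹)⁻¹ * q⁻¹ = z
    rw [h2]
    rcases hy' _ h1 with h3 | h3
    · left; rw [h3]; group
    · right; rw [h3, hmC.1 hc]; group
  exact MinSimple.VModule.le_o2 hD hDp hDn ⟨hmC.2 hx, h⟩

end Cfsg.Agent.Omega.S5.Mod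

end

section


/-!
# OMEGA II.c: there is no mutual pair of type TT-TT (helper615, #12314), the core

`Pos S M M₂ h`: `V`, `V₂` are natural `O₄⁻(2)`-modules (of `L`, `L₂ ≥ S`) normalised by the Sylow
2-subgroup `S`, `Ω₁(Z(S)) ≤ V`, `V' = V₂ ^ h` and `V` act on each other as `⟨(0 1), (2 3)⟩`, where
`V` and `V₂` have the same `R = {1, n, a, s}`, `n = {0 1}`, `a = {2 3}`, `s = n a` and `h` centralises
`R`. In a group of characteristic 2 type this is impossible (`Pos.false`).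
-/

set_option autoImplicit false

namespace Cfsg.Agent.Omega.S5.TT

open Subgroup Cfsg Cfsg.Agent.ZN Cfsg.Agent.ZN.ChoiceBase
open Cfsg.Agent.Omega.S5.Mod
open Cfsg.Agent.MinSimple.VModule (o2_isPGroup le_o2 o2_le le_normalizer_o2 o2_le_of_sylow
  normalizer_le_normalizer_zc)

universe u

variable {G : Type u} [Group G]

def nn : Vec := ![1, 1, 0, 0, 0]
def aa : Vec := ![0, 0, 1, 1, 0]
def ss : Vec := ![0, 0, 0, 0, 1]
/-- `(0 1)(2 3)` -/
def dd : Equiv.Perm (Fin 5) := Equiv.swap 0 1 * Equiv.swap 2 3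
/-- `(0 2)(1 3)` -/
def tt : Equiv.Perm (Fin 5) := Equiv.swap 0 2 * Equiv.swap 1 3

/-- `p ∈ ⟨(0 1), (2 3)⟩` -/
def TTp (p : Equiv.Perm (Fin 5)) : Prop :=
  p = 1 ∨ p = Equiv.swap 0 1 ∨ p = Equiv.swap 2 3 ∨ p = dd

/-- `p ∈ V₄` -/
def V4p (p : Equiv.Perm (Fin 5)) : Prop :=
  p = 1 ∨ p = dd ∨ p = tt ∨ p = dd * tt

/-- the even subsets of `{0, 1, 2, 3}` -/
def InE (x : Vec) : Prop := x 4 = 0 ∧ x 0 + x 1 + x 2 + x 3 = 0

instance : DecidablePred TTp := fun _ => by unfold TTp; infer_instance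
instance : DecidablePred V4p := fun _ => by unfold V4p; infer_instance
instance : DecidablePred InE := fun _ => by unfold InE; infer_instance

theorem fix_ss : ∀ p : Equiv.Perm (Fin 5), p * dd = dd * p → ss ∘ p.symm = ss := by
  decide +kernel

theorem ttp_of : ∀ p : Equiv.Perm (Fin 5), p * dd = dd * p →
    (nn ∘ p.symm = nn ∨ nn ∘ p.symm = nn + 1) → TTp p := by
  decide +kernel

theorem ttp_or : ∀ p : Equiv.Perm (Fin 5), p * dd = dd * p → TTp p ∨ TTp (p * tt) := by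
  decide +kernel

theorem v4_of : ∀ p : Equiv.Perm (Fin 5), p * dd = dd * p →
    Equiv.swap 1 2 * p * (Equiv.swap 1 2)⁻¹ * dd = dd * (Equiv.swap 1 2 * p * (Equiv.swap 1 2)⁻¹) →
    V4p p := by
  decide +kernel

theorem v4_comm : ∀ p : Equiv.Perm (Fin 5), V4p p → ∀ x : Vec, InE x →
    (x ∘ p.symm + x = 0 ∨ x ∘ p.symm + x = 1) ∨ (x ∘ p.symm + x = ss ∨ x ∘ p.symm + x = ss + 1) := by
  intro p hp
  rcases hp with rfl | rfl | rfl | rfl <;> decide +kernel

theorem v4_tt : ∀ p : Equiv.Perm (Fin 5), V4p p → TTp p → p = 1 ∨ p = dd := by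
  intro p h1 h2
  rcases h1 with rfl | rfl | rfl | rfl
  · exact Or.inl rfl
  · exact Or.inr rfl
  · revert h2; decide
  · revert h2; decide

theorem ttp_dd : ∀ p : Equiv.Perm (Fin 5), TTp p → p * dd = dd * p := by
  intro p hp
  rcases hp with rfl | rfl | rfl | rfl <;> decide

theorem ttp_nn : ∀ p : Equiv.Perm (Fin 5), TTp p → nn ∘ p.symm = nn := by
  intro p hp
  rcases hp with rfl | rfl | rfl | rfl <;> decide

theorem ttp_aa : ∀ p : Equiv.Perm (Fin 5), TTp p → aa ∘ p.symm = aa := by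
  intro p hp
  rcases hp with rfl | rfl | rfl | rfl <;> decide

theorem fix_all : ∀ x : Vec, (x ∘ (Equiv.swap 0 1 : Equiv.Perm (Fin 5)).symm = x ∨
    x ∘ (Equiv.swap 0 1 : Equiv.Perm (Fin 5)).symm = x + 1) →
    (x ∘ (Equiv.swap 2 3 : Equiv.Perm (Fin 5)).symm = x ∨
    x ∘ (Equiv.swap 2 3 : Equiv.Perm (Fin 5)).symm = x + 1) →
    (x ∘ tt.symm = x ∨ x ∘ tt.symm = x + 1) → (x = 0 ∨ x = 1) ∨ (x = ss ∨ x = ss + 1) := by
  decide +kernel

theorem ttp_fix : ∀ p : Equiv.Perm (Fin 5), TTp p →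
    ((![0, 0, 0, 1, 1] : Vec) ∘ p.symm = ![0, 0, 0, 1, 1] ∨
      (![0, 0, 0, 1, 1] : Vec) ∘ p.symm = ![0, 0, 0, 1, 1] + 1) → p = 1 ∨ p = Equiv.swap 0 1 := by
  intro p hp
  rcases hp with rfl | rfl | rfl | rfl <;> decide

theorem swap_comm : ∀ x : Vec, (x ∘ (Equiv.swap 0 1 : Equiv.Perm (Fin 5)).symm + x = 0 ∨
      x ∘ (Equiv.swap 0 1 : Equiv.Perm (Fin 5)).symm + x = 1) ∨
    (x ∘ (Equiv.swap 0 1 : Equiv.Perm (Fin 5)).symm + x = nn ∨
      x ∘ (Equiv.swap 0 1 : Equiv.Perm (Fin 5)).symm + x = nn + 1) := by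
  decide +kernel

section tools

/-- Sylow's theorem in the subgroup `C ≥ S`. -/
theorem exists_conj_le_sylow [Finite G] (S : Sylow 2 G) (C X : Subgroup G)
    (hSC : (S : Subgroup G) ≤ C) (hX : IsPGroup 2 X) (hXC : X ≤ C) :
    ∃ c ∈ C, ∀ x ∈ X, c * x * c⁻¹ ∈ (S : Subgroup G) := by
  have : Fact (Nat.Prime 2) := ⟨Nat.prime_two⟩
  have hX' : IsPGroup 2 (X.subgroupOf C) := hX.comap_subtype
  obtain ⟨S2, hS2⟩ := hX'.exists_le_sylow
  have hsy : ¬ 2 ∣ ((S : Subgroup G).subgroupOf C).index := MinSimple.Basic.not_dvd_relIndex S hSC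
  obtain ⟨c, hc⟩ := MulAction.exists_smul_eq C S2
    ((S.isPGroup'.comap_of_injective _ C.subtype_injective).toSylow hsy)
  refine ⟨c, c.2, fun x hx => ?_⟩
  have h1 : (⟨x, hXC hx⟩ : C) ∈ (S2 : Subgroup C) := hS2 (Subgroup.mem_subgroupOf.mpr hx)
  have h2 : c * ⟨x, hXC hx⟩ * c⁻¹ ∈ ((c • S2 : Sylow 2 C) : Subgroup C) := by
    rw [Sylow.coe_subgroup_smul]
    exact Subgroup.smul_mem_pointwise_smul _ (MulAut.conj c) _ h1
  rw [hc] at h2
  exact mem_subgroupOf.1 h2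

/-- The normaliser condition. -/
theorem exists_mem_normalizer [Finite G] {A B : Subgroup G} (hA : IsPGroup 2 A) (hBA : B ≤ A)
    (hAB : ¬ A ≤ B) : ∃ r ∈ A, r ∉ B ∧ r ∈ normalizer (B : Set G) := by
  have hlt : B.subgroupOf A < ⊤ := by
    rw [lt_top_iff_ne_top, Ne, subgroupOf_eq_top]
    exact hAB
  have : Fact (Nat.Prime 2) := ⟨Nat.prime_two⟩
  have hnc : NormalizerCondition A := by
    have := hA.isNilpotent
    exact Group.normalizerCondition_of_isNilpotent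
  obtain ⟨x, hx, hxB⟩ := SetLike.exists_of_lt (hnc _ hlt)
  refine ⟨x, x.2, fun h => hxB (mem_subgroupOf.2 h), ?_⟩
  refine mem_normalizer_of_cj_le ?_
  rintro _ ⟨y, hy, rfl⟩
  exact mem_subgroupOf.1 ((mem_normalizer_iff.1 hx ⟨y, hBA hy⟩).1 (mem_subgroupOf.2 hy))

/-- Conjugation by `d` maps `O₂(C(s))` to `O₂(C(d s d⁻¹))`. -/
theorem o2_conj (d s : G) :
    cj d (o2 (centralizer ({s} : Set G))) = o2 (centralizer ({d * s * d⁻¹} : Set G)) := by
  rw [← pCore_cj]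
  congr 1
  ext y
  rw [mem_cj, mem_centralizer_singleton_iff, mem_centralizer_singleton_iff]
  constructor
  · intro h1
    have := congrArg (fun w => d * w * d⁻¹) h1
    calc y * (d * s * d⁻¹) = d * (d⁻¹ * y * d * s) * d⁻¹ := by group
      _ = d * (s * (d⁻¹ * y * d)) * d⁻¹ := by rw [h1]
      _ = d * s * d⁻¹ * y := by group
  · intro h1
    calc d⁻¹ * y * d * s = d⁻¹ * (y * (d * s * d⁻¹)) * d := by group
      _ = d⁻¹ * (d * s * d⁻¹ * y) * d := by rw [h1]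
      _ = s * (d⁻¹ * y * d) := by group

end tools

/-- The configuration TT-TT. -/
structure Pos (S : Sylow 2 G) {V L V₂ L₂ : Subgroup G} (M : FiveMod V L) (M₂ : FiveMod V₂ L₂)
    (h : G) : Prop where
  two : IsCharacteristicTwoType G
  S_le : (S : Subgroup G) ≤ L
  S_le₂ : (S : Subgroup G) ≤ L₂
  zS : zc (S : Subgroup G) ≤ V
  d8 : ∀ g ∈ (S : Subgroup G), ∀ p, M.Ind g p → p * dd = dd * p
  d8' : ∀ p, p * dd = dd * p → ∃ g ∈ (S : Subgroup G), M.Ind g p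
  d8₂ : ∀ g ∈ (S : Subgroup G), ∀ p, M₂.Ind g p → p * dd = dd * p
  en : M₂.e nn = M.e nn
  ea : M₂.e aa = M.e aa
  hn : h * M.e nn = M.e nn * h
  ha : h * M.e aa = M.e aa * h
  act : ∀ v ∈ cj h V₂, ∃ p, TTp p ∧ M.Ind v p
  act' : ∀ v ∈ V, ∃ p, TTp p ∧ (M₂.cj h).Ind v p
  sur' : ∀ p, TTp p → ∃ v ∈ V, (M₂.cj h).Ind v p

namespace Pos

variable {S : Sylow 2 G} {V L V₂ L₂ : Subgroup G} {M : FiveMod V L} {M₂ : FiveMod V₂ L₂} {h : G}

theorem mem_C {x y : G} : x ∈ centralizer ({y} : Set G) ↔ x * y = y * x :=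
  mem_centralizer_singleton_iff

variable (M)

theorem na : M.e nn * M.e aa = M.e ss := by
  rw [← M.e_add, M.e_eq_iff]; decide

theorem ns : M.e nn * M.e ss = M.e aa := by
  rw [← M.e_add, M.e_eq_iff]; decide

theorem as : M.e aa * M.e ss = M.e nn := by
  rw [← M.e_add, M.e_eq_iff]; decide

theorem sn : M.e ss * M.e nn = M.e aa := by
  rw [← M.e_add, M.e_eq_iff]; decide

theorem n_ne : M.e nn ≠ 1 := by
  rw [Ne, M.ker]; decide

theorem s_ne : M.e ss ≠ 1 := by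
  rw [Ne, M.ker]; decide

theorem a_ne : M.e aa ≠ 1 := by
  rw [Ne, M.ker]; decide

theorem n_ne_a : M.e nn ≠ M.e aa := by
  rw [Ne, M.e_eq_iff]; decide

theorem n_ne_s : M.e nn ≠ M.e ss := by
  rw [Ne, M.e_eq_iff]; decide

theorem a_ne_s : M.e aa ≠ M.e ss := by
  rw [Ne, M.e_eq_iff]; decide

theorem e_sq' (x : Vec) : M.e x ^ 2 = 1 := by rw [pow_two, M.e_sq]

variable {M}

section

variable (t : Pos S M M₂ h)
include t

theorem hs : h * M.e ss = M.e ss * h := by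
  rw [← na M]
  calc h * (M.e nn * M.e aa) = (h * M.e nn) * M.e aa := by group
    _ = M.e nn * (h * M.e aa) := by rw [t.hn]; group
    _ = M.e nn * M.e aa * h := by rw [t.ha]; group

theorem S_comm {g : G} (hg : g ∈ (S : Subgroup G)) : g * M.e ss = M.e ss * g := by
  obtain ⟨p, hp⟩ := M.exists_ind (t.S_le hg)
  exact (hp.commute_iff _).2 (Or.inl (fix_ss p (t.d8 g hg p hp)))

variable [Finite G]

theorem Q_le_S : o2 (centralizer ({M.e ss} : Set G)) ≤ (S : Subgroup G) :=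
  o2_le_of_sylow S.isPGroup' (MinSimple.Basic.not_dvd_relIndex S fun _ hg => mem_C.2 (t.S_comm hg))

omit t [Finite G] in
/-- `O₂(C(s))` acts inside `V₄`. -/
theorem Q_ind_aux {V L : Subgroup G} {M : FiveMod V L} (hSL : (S : Subgroup G) ≤ L)
    (hd : ∀ g ∈ (S : Subgroup G), ∀ p, M.Ind g p → p * dd = dd * p)
    (hQS : o2 (centralizer ({M.e ss} : Set G)) ≤ (S : Subgroup G)) {q : G}
    (hq : q ∈ o2 (centralizer ({M.e ss} : Set G))) : ∃ p, V4p p ∧ M.Ind q p := by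
  have hqS := hQS hq
  obtain ⟨p, hp⟩ := M.exists_ind (hSL hqS)
  refine ⟨p, v4_of p (hd q hqS p hp) ?_, hp⟩
  obtain ⟨g, -, hg⟩ := M.exists_lift (Equiv.swap 1 2)
  have hg : M.Ind g (Equiv.swap 1 2) := hg
  have hgC : g ∈ centralizer ({M.e ss} : Set G) :=
    mem_C.2 ((hg.commute_iff _).2 (Or.inl (by decide)))
  have h1 : g * q * g⁻¹ ∈ o2 (centralizer ({M.e ss} : Set G)) :=
    (mem_normalizer_iff.1 (le_normalizer_o2 _ hgC) _).1 hq
  exact hd _ (hQS h1) _ ((hg.mul hp).mul hg.inv)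

omit t [Finite G] in
theorem comm_E_aux {V L : Subgroup G} {M : FiveMod V L} {q : G} {p : Equiv.Perm (Fin 5)}
    (hp : V4p p) (hi : M.Ind q p) {x : Vec} (hx : InE x) :
    q * M.e x * q⁻¹ * (M.e x)⁻¹ = 1 ∨ q * M.e x * q⁻¹ * (M.e x)⁻¹ = M.e ss := by
  rw [hi.comm_eq]
  rcases v4_comm p hp x hx with h1 | h1
  · exact Or.inl ((M.ker _).2 h1)
  · exact Or.inr (M.e_eq_iff.2 h1)

omit [Finite G] in
theorem es : M₂.e ss = M.e ss := by
  rw [← na M, ← na M₂, t.en, t.ea]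

theorem Q_ind {q : G} (hq : q ∈ o2 (centralizer ({M.e ss} : Set G))) : ∃ p, V4p p ∧ M.Ind q p :=
  Q_ind_aux t.S_le t.d8 t.Q_le_S hq

theorem Q_ind₂ {q : G} (hq : q ∈ o2 (centralizer ({M.e ss} : Set G))) : ∃ p, V4p p ∧ M₂.Ind q p := by
  have h1 := t.Q_le_S
  rw [← t.es] at h1 hq
  exact Q_ind_aux t.S_le₂ t.d8₂ h1 hq

theorem comm_E {q : G} (hq : q ∈ o2 (centralizer ({M.e ss} : Set G))) {x : Vec} (hx : InE x) :
    q * M.e x * q⁻¹ * (M.e x)⁻¹ = 1 ∨ q * M.e x * q⁻¹ * (M.e x)⁻¹ = M.e ss := by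
  obtain ⟨p, hp, hi⟩ := t.Q_ind hq
  exact comm_E_aux hp hi hx

theorem comm_E₂ {q : G} (hq : q ∈ o2 (centralizer ({M.e ss} : Set G))) {x : Vec} (hx : InE x) :
    q * M₂.e x * q⁻¹ * (M₂.e x)⁻¹ = 1 ∨ q * M₂.e x * q⁻¹ * (M₂.e x)⁻¹ = M.e ss := by
  obtain ⟨p, hp, hi⟩ := t.Q_ind₂ hq
  rw [← t.es]
  exact comm_E_aux hp hi hx

theorem E_le {x : Vec} (hx : InE x) : M.e x ∈ o2 (centralizer ({M.e ss} : Set G)) := by
  refine le_o2_of_comm t.two (e_sq' M ss) (s_ne M) (M.e_comm x ss) fun q hq => ?_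
  have h1 : M.e x * q * (M.e x)⁻¹ * q⁻¹ = (q * M.e x * q⁻¹ * (M.e x)⁻¹)⁻¹ := by group
  rw [h1]
  rcases t.comm_E hq hx with h2 | h2
  · left; rw [h2, inv_one]
  · right; rw [h2, M.e_inv]

theorem E_le₂ {x : Vec} (hx : InE x) : M₂.e x ∈ o2 (centralizer ({M.e ss} : Set G)) := by
  refine le_o2_of_comm t.two (e_sq' M ss) (s_ne M) ?_ fun q hq => ?_
  · rw [← t.es]; exact M₂.e_comm x ss
  have h1 : M₂.e x * q * (M₂.e x)⁻¹ * q⁻¹ = (q * M₂.e x * q⁻¹ * (M₂.e x)⁻¹)⁻¹ := by group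
  rw [h1]
  rcases t.comm_E₂ hq hx with h2 | h2
  · left; rw [h2, inv_one]
  · right; rw [h2, M.e_inv]

omit t [Finite G] in
/-- The commutators of `Q` centralise the conjugates of `E`. -/
theorem claimX_aux {u : G} (hu : ∀ q ∈ o2 (centralizer ({M.e ss} : Set G)),
      q * u * q⁻¹ * u⁻¹ = 1 ∨ q * u * q⁻¹ * u⁻¹ = M.e ss)
    {c : G} (hc : c ∈ centralizer ({M.e ss} : Set G)) {q r : G}
    (hq : q ∈ o2 (centralizer ({M.e ss} : Set G))) (hr : r ∈ o2 (centralizer ({M.e ss} : Set G))) :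
    (q * r * q⁻¹ * r⁻¹) * (c * u * c⁻¹) = (c * u * c⁻¹) * (q * r * q⁻¹ * r⁻¹) := by
  set y := c * u * c⁻¹ with hy
  have hcs := mem_C.1 hc
  have key : ∀ w ∈ o2 (centralizer ({M.e ss} : Set G)),
      w * y * w⁻¹ = y ∨ w * y * w⁻¹ = M.e ss * y := by
    intro w hw
    have h1 : c⁻¹ * w * c ∈ o2 (centralizer ({M.e ss} : Set G)) := by
      have := (mem_normalizer_iff.1 (le_normalizer_o2 _ (inv_mem hc)) _).1 hw
      rwa [inv_inv] at this
    have h2 : w * y * w⁻¹ =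
        c * ((c⁻¹ * w * c) * u * (c⁻¹ * w * c)⁻¹ * u⁻¹) * c⁻¹ * y := by
      rw [hy]; group
    rcases hu _ h1 with h3 | h3
    · left; rw [h2, h3]; group
    · right; rw [h2, h3, hcs]; group
  have hws : ∀ w ∈ o2 (centralizer ({M.e ss} : Set G)), w * M.e ss = M.e ss * w :=
    fun w hw => mem_C.1 (o2_le _ hw)
  -- conjugation by `q r` and `r q`
  have h1 : ∀ w ∈ o2 (centralizer ({M.e ss} : Set G)),
      ∀ v ∈ o2 (centralizer ({M.e ss} : Set G)),
        w * v * y * (w * v)⁻¹ = v * w * y * (v * w)⁻¹ := by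
    intro w hw v hv
    have e1 : w * v * y * (w * v)⁻¹ = w * (v * y * v⁻¹) * w⁻¹ := by group
    have e2 : v * w * y * (v * w)⁻¹ = v * (w * y * w⁻¹) * v⁻¹ := by group
    rw [e1, e2]
    rcases key w hw with h2 | h2 <;> rcases key v hv with h3 | h3
    · rw [h3, h2, h3]
    · rw [h3, h2, h3]
      calc w * (M.e ss * y) * w⁻¹ = (w * M.e ss) * y * w⁻¹ := by group
        _ = M.e ss * (w * y * w⁻¹) := by rw [hws w hw]; group
        _ = M.e ss * y := by rw [h2]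
    · rw [h3, h2]
      calc M.e ss * y = M.e ss * (v * y * v⁻¹) := by rw [h3]
        _ = (M.e ss * v) * y * v⁻¹ := by group
        _ = v * (M.e ss * y) * v⁻¹ := by rw [← hws v hv]; group
    · rw [h3, h2]
      calc w * (M.e ss * y) * w⁻¹ = (w * M.e ss) * y * w⁻¹ := by group
        _ = M.e ss * (w * y * w⁻¹) := by rw [hws w hw]; group
        _ = M.e ss * (v * y * v⁻¹) := by rw [h2, h3]
        _ = (M.e ss * v) * y * v⁻¹ := by group
        _ = v * (M.e ss * y) * v⁻¹ := by rw [← hws v hv]; group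
  have h2 := h1 q⁻¹ (inv_mem hq) r⁻¹ (inv_mem hr)
  -- `(r q) (q⁻¹ ... )`
  have h3 : (q * r * q⁻¹ * r⁻¹) * y * (q * r * q⁻¹ * r⁻¹)⁻¹ =
      q * r * (q⁻¹ * r⁻¹ * y * (q⁻¹ * r⁻¹)⁻¹) * (q * r)⁻¹ := by group
  have h4 : (q * r * q⁻¹ * r⁻¹) * y * (q * r * q⁻¹ * r⁻¹)⁻¹ = y := by
    rw [h3, h2]; group
  rw [mul_inv_eq_iff_eq_mul] at h4
  exact h4

theorem claimX {c : G} (hc : c ∈ centralizer ({M.e ss} : Set G)) {x : Vec} (hx : InE x) {q r : G}
    (hq : q ∈ o2 (centralizer ({M.e ss} : Set G))) (hr : r ∈ o2 (centralizer ({M.e ss} : Set G))) :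
    (q * r * q⁻¹ * r⁻¹) * (c * M.e x * c⁻¹) = (c * M.e x * c⁻¹) * (q * r * q⁻¹ * r⁻¹) :=
  claimX_aux (fun _ hw => t.comm_E hw hx) hc hq hr

theorem claimX₂ {c : G} (hc : c ∈ centralizer ({M.e ss} : Set G)) {x : Vec} (hx : InE x) {q r : G}
    (hq : q ∈ o2 (centralizer ({M.e ss} : Set G))) (hr : r ∈ o2 (centralizer ({M.e ss} : Set G))) :
    (q * r * q⁻¹ * r⁻¹) * (c * M₂.e x * c⁻¹) = (c * M₂.e x * c⁻¹) * (q * r * q⁻¹ * r⁻¹) :=
  claimX_aux (fun _ hw => t.comm_E₂ hw hx) hc hq hr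

/-- `n` does not centralise all the conjugates of `E`. -/
theorem claimY : ∃ c ∈ centralizer ({M.e ss} : Set G), ∃ x, InE x ∧
    M.e nn * (c * M₂.e x * c⁻¹) ≠ (c * M₂.e x * c⁻¹) * M.e nn := by
  have hC : h ∈ centralizer ({M.e ss} : Set G) := mem_C.2 t.hs
  set x : Vec := ![1, 0, 1, 0, 0] with hx
  have hxE : InE x := by decide
  set u := h * M₂.e x * h⁻¹ with hu
  have huQ : u ∈ o2 (centralizer ({M.e ss} : Set G)) :=
    (mem_normalizer_iff.1 (le_normalizer_o2 _ hC) _).1 (t.E_le₂ hxE)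
  have huV : u ∈ cj h V₂ := ⟨M₂.e x, M₂.e_mem x, rfl⟩
  obtain ⟨p, hp, hpi⟩ := t.act u huV
  obtain ⟨p', hp', hpi'⟩ := t.Q_ind huQ
  have e1 : p' = p := hpi'.unique hpi
  subst e1
  rcases v4_tt _ hp' hp with rfl | rfl
  · exfalso
    obtain ⟨v, hv, hvi⟩ := t.sur' dd (by decide)
    have h1 := hvi x
    rw [M₂.cj_e, M₂.cj_e] at h1
    have h2 := mem_centralizer_iff.1 (FiveMod.ind_one_iff.1 hpi) v hv
    have h3 : v * (h * M₂.e x * h⁻¹) * v⁻¹ = h * M₂.e x * h⁻¹ := by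
      rw [mul_inv_eq_iff_eq_mul]; exact h2
    rw [h3] at h1
    have h4 : M₂.e x = M₂.e (x ∘ dd.symm) := by
      have := congrArg (fun y => h⁻¹ * y * h) h1
      simpa [mul_assoc] using this
    rw [M₂.e_eq_iff] at h4
    revert h4
    rw [hx]
    decide
  · obtain ⟨g, -, hg⟩ := M.exists_lift (Equiv.swap 1 2)
    have hgC : g ∈ centralizer ({M.e ss} : Set G) :=
      mem_C.2 ((hg.commute_iff _).2 (Or.inl (by decide)))
    refine ⟨g⁻¹ * h, mul_mem (inv_mem hgC) hC, x, hxE, fun h1 => ?_⟩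
    -- conjugate by `g`
    have h2 : g * M.e nn * g⁻¹ = M.e x := by
      rw [hg, M.e_eq_iff]; left; decide
    have h3 : M.e x * u = u * M.e x := by
      have h4 := congrArg (fun y => g * y * g⁻¹) h1
      have e1 : g * (M.e nn * (g⁻¹ * h * M₂.e x * (g⁻¹ * h)⁻¹)) * g⁻¹ =
          (g * M.e nn * g⁻¹) * (h * M₂.e x * h⁻¹) := by group
      have e2 : g * (g⁻¹ * h * M₂.e x * (g⁻¹ * h)⁻¹ * M.e nn) * g⁻¹ =
          (h * M₂.e x * h⁻¹) * (g * M.e nn * g⁻¹) := by group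
      change g * (M.e nn * (g⁻¹ * h * M₂.e x * (g⁻¹ * h)⁻¹)) * g⁻¹ =
        g * (g⁻¹ * h * M₂.e x * (g⁻¹ * h)⁻¹ * M.e nn) * g⁻¹ at h4
      rw [e1, e2, h2] at h4
      exact h4
    have h5 := (hpi.commute_iff x).1 h3.symm
    revert h5
    rw [hx]
    decide

omit [Finite G] in
/-- `u = h e(2) h⁻¹` acts on `V` as `(2 3)`. -/
theorem u_ind : M.Ind (h * M₂.e ![0, 0, 1, 0, 0] * h⁻¹) (Equiv.swap 2 3) := by
  set x : Vec := ![0, 0, 1, 0, 0] with hx
  set u := h * M₂.e x * h⁻¹ with hu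
  have huV : u ∈ cj h V₂ := ⟨M₂.e x, M₂.e_mem x, rfl⟩
  have hu2 : u * u = 1 := by
    rw [hu]
    calc h * M₂.e x * h⁻¹ * (h * M₂.e x * h⁻¹) = h * (M₂.e x * M₂.e x) * h⁻¹ := by group
      _ = 1 := by rw [M₂.e_sq]; group
  -- `[v, u] ∈ {1, a}` for `v ∈ V`
  have key : ∀ v ∈ V, v * u * v⁻¹ = u ∨ v * u * v⁻¹ = M.e aa * u := by
    intro v hv
    obtain ⟨p, hp, hpi⟩ := t.act' v hv
    have h1 := hpi x
    rw [M₂.cj_e, M₂.cj_e] at h1
    have h2 : M₂.e (x ∘ p.symm) = M₂.e x ∨ M₂.e (x ∘ p.symm) = M₂.e aa * M₂.e x := by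
      rw [← M₂.e_add, M₂.e_eq_iff, M₂.e_eq_iff, hx]
      rcases hp with rfl | rfl | rfl | rfl <;> decide
    rcases h2 with h2 | h2
    · left
      rw [h2] at h1
      exact h1
    · right
      rw [h2] at h1
      rw [← hu] at h1
      rw [h1, hu, t.ea]
      calc h * (M.e aa * M₂.e x) * h⁻¹ = (h * M.e aa) * M₂.e x * h⁻¹ := by group
        _ = M.e aa * (h * M₂.e x * h⁻¹) := by rw [t.ha]; group
  obtain ⟨p, hp, hpi⟩ := t.act u huV
  -- `e (y + y ∘ p) ∈ {1, a}`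
  have key2 : ∀ y : Vec, M.e (y ∘ p.symm + y) = 1 ∨ M.e (y ∘ p.symm + y) = M.e aa := by
    intro y
    rw [← hpi.comm_eq]
    have h1 : u * M.e y * u⁻¹ * (M.e y)⁻¹ = u * (M.e y * u * (M.e y)⁻¹)⁻¹ := by group
    rw [h1]
    rcases key _ (M.e_mem y) with h2 | h2
    · left; rw [h2, mul_inv_cancel]
    · right; rw [h2, mul_inv_rev, mul_inv_cancel_left, M.e_inv]
  rcases hp with rfl | rfl | rfl | rfl
  · exfalso
    obtain ⟨v, hv, hvi⟩ := t.sur' (Equiv.swap 2 3) (by decide)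
    have h1 := hvi x
    rw [M₂.cj_e, M₂.cj_e] at h1
    have h2 := mem_centralizer_iff.1 (FiveMod.ind_one_iff.1 hpi) v hv
    have h3 : v * (h * M₂.e x * h⁻¹) * v⁻¹ = h * M₂.e x * h⁻¹ := by
      rw [mul_inv_eq_iff_eq_mul]; exact h2
    rw [h3] at h1
    have h4 : M₂.e x = M₂.e (x ∘ (Equiv.swap 2 3).symm) := by
      have := congrArg (fun y => h⁻¹ * y * h) h1
      simpa [mul_assoc] using this
    rw [M₂.e_eq_iff] at h4
    revert h4
    rw [hx]
    decide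
  · exfalso
    have := key2 ![1, 0, 0, 0, 0]
    rw [M.ker, M.e_eq_iff] at this
    revert this
    decide
  · exact hpi
  · exfalso
    have := key2 ![1, 0, 0, 0, 0]
    rw [M.ker, M.e_eq_iff] at this
    revert this
    decide

/-! ### Case (ii): `N_G(T)` moves `s` -/

theorem case_two {d : G} (h1 : d * M.e ss * d⁻¹ = M.e nn) (h2 : d * M.e nn * d⁻¹ = M.e aa) :
    False := by
  have hO := o2_conj d (M.e ss)
  rw [h1] at hO
  have hn : ∀ {c q : G}, c ∈ centralizer ({M.e nn} : Set G) →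
      q ∈ o2 (centralizer ({M.e nn} : Set G)) → c * q * c⁻¹ ∈ o2 (centralizer ({M.e nn} : Set G)) :=
    fun hc hq => (mem_normalizer_iff.1 (le_normalizer_o2 _ hc) _).1 hq
  have hd : ∀ q ∈ o2 (centralizer ({M.e ss} : Set G)),
      d * q * d⁻¹ ∈ o2 (centralizer ({M.e nn} : Set G)) := by
    intro q hq
    rw [← hO]
    exact ⟨q, hq, rfl⟩
  -- `R ≤ Q_n`
  have hnQ : M.e nn ∈ o2 (centralizer ({M.e nn} : Set G)) := by
    have := hd _ (t.E_le (x := ss + 1) (by decide))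
    have e : M.e (ss + 1) = M.e ss := by rw [M.e_eq_iff]; right; rfl
    rwa [e, h1] at this
  have haQ : M.e aa ∈ o2 (centralizer ({M.e nn} : Set G)) := by
    have := hd _ (t.E_le (x := nn) (by decide))
    rwa [h2] at this
  have hs2 : M.e ![0, 0, 1, 0, 0] ∈ o2 (centralizer ({M.e nn} : Set G)) := by
    obtain ⟨l, -, hl⟩ := M.exists_lift (Equiv.swap 2 4)
    have hlC : l ∈ centralizer ({M.e nn} : Set G) :=
      mem_C.2 ((hl.commute_iff _).2 (Or.inl (by decide)))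
    have h3 := hn hlC haQ
    rw [hl] at h3
    have h4 := mul_mem hnQ h3
    rw [← M.e_add] at h4
    have e : M.e (nn + aa ∘ (Equiv.swap 2 4).symm) = M.e ![0, 0, 1, 0, 0] := by
      rw [M.e_eq_iff]; right; decide
    rwa [e] at h4
  have hs2' : M₂.e ![0, 0, 1, 0, 0] ∈ o2 (centralizer ({M.e nn} : Set G)) := by
    obtain ⟨l, -, hl⟩ := M₂.exists_lift (Equiv.swap 2 4)
    have hlC : l ∈ centralizer ({M.e nn} : Set G) := by
      rw [← t.en]
      exact mem_C.2 ((hl.commute_iff _).2 (Or.inl (by decide)))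
    rw [← t.ea] at haQ
    have h3 := hn hlC haQ
    rw [hl] at h3
    rw [← t.en] at hnQ h3
    have h4 := mul_mem hnQ h3
    rw [← M₂.e_add] at h4
    have e : M₂.e (nn + aa ∘ (Equiv.swap 2 4).symm) = M₂.e ![0, 0, 1, 0, 0] := by
      rw [M₂.e_eq_iff]; right; decide
    rw [e, t.en] at h4
    exact h4
  have hu : h * M₂.e ![0, 0, 1, 0, 0] * h⁻¹ ∈ o2 (centralizer ({M.e nn} : Set G)) :=
    hn (mem_C.2 t.hn) hs2'
  have hc := t.u_ind.comm_eq ![0, 0, 1, 0, 0]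
  have e : M.e (![0, 0, 1, 0, 0] ∘ (Equiv.swap 2 3).symm + ![0, 0, 1, 0, 0]) = M.e aa := by
    rw [M.e_eq_iff]; left; decide
  rw [e] at hc
  -- pull back by `d`
  have hback : ∀ q ∈ o2 (centralizer ({M.e nn} : Set G)),
      d⁻¹ * q * d ∈ o2 (centralizer ({M.e ss} : Set G)) := by
    intro q hq
    rw [← hO, mem_cj] at hq
    exact hq
  obtain ⟨c, hcC, x, hx, hne⟩ := t.claimY
  apply hne
  have h3 := t.claimX₂ hcC hx (hback _ hu) (hback _ hs2)
  have h4 : d⁻¹ * (h * M₂.e ![0, 0, 1, 0, 0] * h⁻¹) * d * (d⁻¹ * M.e ![0, 0, 1, 0, 0] * d) *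
      (d⁻¹ * (h * M₂.e ![0, 0, 1, 0, 0] * h⁻¹) * d)⁻¹ * (d⁻¹ * M.e ![0, 0, 1, 0, 0] * d)⁻¹ =
      M.e nn := by
    have e1 : d⁻¹ * (h * M₂.e ![0, 0, 1, 0, 0] * h⁻¹) * d * (d⁻¹ * M.e ![0, 0, 1, 0, 0] * d) *
        (d⁻¹ * (h * M₂.e ![0, 0, 1, 0, 0] * h⁻¹) * d)⁻¹ * (d⁻¹ * M.e ![0, 0, 1, 0, 0] * d)⁻¹ =
        d⁻¹ * (h * M₂.e ![0, 0, 1, 0, 0] * h⁻¹ * M.e ![0, 0, 1, 0, 0] *
          (h * M₂.e ![0, 0, 1, 0, 0] * h⁻¹)⁻¹ * (M.e ![0, 0, 1, 0, 0])⁻¹) * d := by group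
    rw [e1, hc, ← h2]
    group
  rw [h4] at h3
  exact h3

/-! ### The group `T = C_S(R)` -/

omit [Finite G] in
theorem T_ind {g : G} (hg : g ∈ (S : Subgroup G) ⊓ centralizer ({M.e nn} : Set G)) :
    ∃ p, TTp p ∧ M.Ind g p := by
  obtain ⟨p, hp⟩ := M.exists_ind (t.S_le hg.1)
  exact ⟨p, ttp_of p (t.d8 g hg.1 p hp) ((hp.commute_iff _).1 (mem_C.1 hg.2)), hp⟩

omit [Finite G] in
theorem T_ind₂ {g : G} (hg : g ∈ (S : Subgroup G) ⊓ centralizer ({M.e nn} : Set G)) :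
    ∃ p, TTp p ∧ M₂.Ind g p := by
  obtain ⟨p, hp⟩ := M₂.exists_ind (t.S_le₂ hg.1)
  refine ⟨p, ttp_of p (t.d8₂ g hg.1 p hp) ((hp.commute_iff _).1 ?_), hp⟩
  rw [t.en]
  exact mem_C.1 hg.2

omit [Finite G] in
/-- an element of `S` swapping `n` and `a` -/
theorem exists_swap : ∃ g ∈ (S : Subgroup G), M.Ind g tt := t.d8' tt (by decide)

omit t [Finite G] in
theorem tt_n {g : G} (hg : M.Ind g tt) : g * M.e nn * g⁻¹ = M.e aa := by
  rw [hg, M.e_eq_iff]; decide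

omit t [Finite G] in
theorem tt_a {g : G} (hg : M.Ind g tt) : g * M.e aa * g⁻¹ = M.e nn := by
  rw [hg, M.e_eq_iff]; decide

omit t [Finite G] in
theorem tt_s {g : G} (hg : M.Ind g tt) : g * M.e ss * g⁻¹ = M.e ss := by
  rw [hg, M.e_eq_iff]; decide

omit [Finite G] in
theorem T_comm_a {g : G} (hg : g ∈ (S : Subgroup G) ⊓ centralizer ({M.e nn} : Set G)) :
    g * M.e aa = M.e aa * g := by
  obtain ⟨p, hp, hi⟩ := t.T_ind hg
  exact (hi.commute_iff _).2 (Or.inl (ttp_aa p hp))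

omit [Finite G] in
/-- `g ∈ S` swapping `n`, `a` normalises `T`. -/
theorem conj_T {g : G} (hgS : g ∈ (S : Subgroup G)) (hg : M.Ind g tt) {x : G}
    (hx : x ∈ (S : Subgroup G) ⊓ centralizer ({M.e nn} : Set G)) :
    g * x * g⁻¹ ∈ (S : Subgroup G) ⊓ centralizer ({M.e nn} : Set G) := by
  refine mem_inf.2 ⟨mul_mem (mul_mem hgS hx.1) (inv_mem hgS), mem_C.2 ?_⟩
  rw [← tt_a hg]
  calc g * x * g⁻¹ * (g * M.e aa * g⁻¹) = g * (x * M.e aa) * g⁻¹ := by group
    _ = g * (M.e aa * x) * g⁻¹ := by rw [t.T_comm_a hx]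
    _ = g * M.e aa * g⁻¹ * (g * x * g⁻¹) := by group

omit t [Finite G] in
theorem mem_T_of_ind {g : G} (hg : g ∈ (S : Subgroup G)) {p : Equiv.Perm (Fin 5)} (hp : TTp p)
    (hi : M.Ind g p) : g ∈ (S : Subgroup G) ⊓ centralizer ({M.e nn} : Set G) :=
  ⟨hg, mem_C.2 ((hi.commute_iff _).2 (Or.inl (ttp_nn p hp)))⟩

omit [Finite G] in
/-- `S = T ∪ T g`. -/
theorem mem_or {g : G} (hgS : g ∈ (S : Subgroup G)) (hg : M.Ind g tt) {x : G}
    (hx : x ∈ (S : Subgroup G)) : x ∈ (S : Subgroup G) ⊓ centralizer ({M.e nn} : Set G) ∨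
      x * g ∈ (S : Subgroup G) ⊓ centralizer ({M.e nn} : Set G) := by
  obtain ⟨p, hp⟩ := M.exists_ind (t.S_le hx)
  rcases ttp_or p (t.d8 x hx p hp) with h1 | h1
  · exact Or.inl (mem_T_of_ind hx h1 hp)
  · exact Or.inr (mem_T_of_ind (mul_mem hx hgS) h1 (hp.mul hg))

omit [Finite G] in
/-- `Ω₁(Z(S)) ≤ ⟨s⟩`. -/
theorem zS_le {x : G} (hx : x ∈ zc (S : Subgroup G)) : x = 1 ∨ x = M.e ss := by
  obtain ⟨y, rfl⟩ := (M.mem_iff x).1 (t.zS hx)
  have h1 : ∀ p, p * dd = dd * p → y ∘ p.symm = y ∨ y ∘ p.symm = y + 1 := by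
    intro p hp
    obtain ⟨g, hg, hi⟩ := t.d8' p hp
    exact (hi.commute_iff y).1 ((MinSimple.VModule.mem_zc.1 hx).2.1 g hg)
  rcases fix_all y (h1 _ (by decide)) (h1 _ (by decide)) (h1 _ (by decide)) with h2 | h2
  · exact Or.inl ((M.ker y).2 h2)
  · exact Or.inr (M.e_eq_iff.2 h2)

omit [Finite G] in
theorem V_le_S : V ≤ (S : Subgroup G) := by
  have h1 : IsPGroup 2 ((S : Subgroup G) ⊔ V : Subgroup G) :=
    IsPGroup.to_sup_of_normal_right' S.isPGroup' M.isPGroup (t.S_le.trans M.le_normalizer)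
  have h2 := S.is_maximal' h1 le_sup_left
  rw [← h2]
  exact le_sup_right

omit [Finite G] in
/-- `x ∈ zc T`, `x x^g = 1`, then `x ∈ zc S`. -/
theorem zT_aux {g : G} (hgS : g ∈ (S : Subgroup G)) (hg : M.Ind g tt) {x : G}
    (hx : x ∈ zc ((S : Subgroup G) ⊓ centralizer ({M.e nn} : Set G)))
    (h1 : x * (g * x * g⁻¹) = 1) : x ∈ zc (S : Subgroup G) := by
  obtain ⟨hxT, hxc, hx2⟩ := MinSimple.VModule.mem_zc.1 hx
  have hxx : x * x = 1 := by rw [← pow_two]; exact hx2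
  have h2 : g * x * g⁻¹ = x := by
    have h3 := eq_inv_of_mul_eq_one_right h1
    rw [h3]
    exact inv_eq_of_mul_eq_one_left hxx
  have h3 : g * x = x * g := by rwa [mul_inv_eq_iff_eq_mul] at h2
  refine MinSimple.VModule.mem_zc.2 ⟨hxT.1, fun b hb => ?_, hx2⟩
  rcases t.mem_or hgS hg hb with h4 | h4
  · exact hxc b h4
  · have h5 := hxc _ h4
    have h6 : b * x * g = x * b * g := by
      calc b * x * g = b * (x * g) := by group
        _ = b * (g * x) := by rw [h3]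
        _ = b * g * x := by group
        _ = x * (b * g) := h5
        _ = x * b * g := by group
    exact mul_right_cancel h6

omit [Finite G] in
/-- `Ω₁(Z(T)) ≤ R = {1, n, a, s}`. -/
theorem zT_le {x : G} (hx : x ∈ zc ((S : Subgroup G) ⊓ centralizer ({M.e nn} : Set G))) :
    x = 1 ∨ x = M.e nn ∨ x = M.e aa ∨ x = M.e ss := by
  obtain ⟨g, hgS, hg⟩ := t.exists_swap
  obtain ⟨hxT, hxc, hx2⟩ := MinSimple.VModule.mem_zc.1 hx
  have hxx : x * x = 1 := by rw [← pow_two]; exact hx2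
  have hgg : g * g ∈ (S : Subgroup G) ⊓ centralizer ({M.e nn} : Set G) := by
    refine mem_T_of_ind (mul_mem hgS hgS) (p := tt * tt) (by decide) (hg.mul hg)
  have hxg := t.conj_T hgS hg hxT
  -- `y = x x^g ∈ zc S`
  set y := x * (g * x * g⁻¹) with hy
  have hcomm : x * (g * x * g⁻¹) = g * x * g⁻¹ * x := (hxc _ hxg).symm
  have hgy : g * y = y * g := by
    have h1 : g * g * x = x * (g * g) := hxc _ hgg
    calc g * y = (g * x * g⁻¹) * (g * g * x) * g⁻¹ := by rw [hy]; group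
      _ = (g * x * g⁻¹) * (x * (g * g)) * g⁻¹ := by rw [h1]
      _ = ((g * x * g⁻¹) * x) * g := by group
      _ = y * g := by rw [← hcomm]
  have hyS : y ∈ (S : Subgroup G) := mul_mem hxT.1 hxg.1
  have hyc : ∀ b ∈ (S : Subgroup G) ⊓ centralizer ({M.e nn} : Set G), b * y = y * b := by
    intro b hb
    have h1 := hxc b hb
    have h2 : g⁻¹ * b * g ∈ (S : Subgroup G) ⊓ centralizer ({M.e nn} : Set G) := by
      -- `g⁻¹ = g⁻² g`
      have h3 := t.conj_T hgS hg hb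
      have h4 := mul_mem (mul_mem (inv_mem hgg) h3) hgg
      have e : (g * g)⁻¹ * (g * b * g⁻¹) * (g * g) = g⁻¹ * b * g := by group
      rwa [e] at h4
    have h3 := hxc _ h2
    have h4 : b * (g * x * g⁻¹) = g * x * g⁻¹ * b := by
      calc b * (g * x * g⁻¹) = g * (g⁻¹ * b * g * x) * g⁻¹ := by group
        _ = g * (x * (g⁻¹ * b * g)) * g⁻¹ := by rw [h3]
        _ = g * x * g⁻¹ * b := by group
    calc b * y = (b * x) * (g * x * g⁻¹) := by rw [hy]; group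
      _ = x * (b * (g * x * g⁻¹)) := by rw [h1]; group
      _ = y * b := by rw [h4, hy]; group
  have hyz : y ∈ zc (S : Subgroup G) := by
    refine MinSimple.VModule.mem_zc.2 ⟨hyS, fun b hb => ?_, ?_⟩
    · rcases t.mem_or hgS hg hb with h4 | h4
      · exact hyc b h4
      · have h5 := hyc _ h4
        have h6 : b * y * g = y * b * g := by
          calc b * y * g = b * (y * g) := by group
            _ = b * (g * y) := by rw [hgy]
            _ = b * g * y := by group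
            _ = y * (b * g) := h5
            _ = y * b * g := by group
        exact mul_right_cancel h6
    · rw [pow_two]
      calc y * y = x * ((g * x * g⁻¹) * x) * (g * x * g⁻¹) := by rw [hy]; group
        _ = x * (x * (g * x * g⁻¹)) * (g * x * g⁻¹) := by rw [← hcomm]
        _ = (x * x) * (g * (x * x) * g⁻¹) := by group
        _ = 1 := by rw [hxx]; group
  rcases t.zS_le hyz with h1 | h1
  · rcases t.zS_le (t.zT_aux hgS hg hx h1) with h2 | h2
    · exact Or.inl h2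
    · exact Or.inr (Or.inr (Or.inr h2))
  · -- `x n`
    have hnT : M.e nn ∈ zc ((S : Subgroup G) ⊓ centralizer ({M.e nn} : Set G)) := by
      have hnS : M.e nn ∈ (S : Subgroup G) := t.V_le_S (M.e_mem nn)
      exact MinSimple.VModule.mem_zc.2 ⟨⟨hnS, mem_C.2 rfl⟩, fun _ hb => mem_C.1 hb.2, e_sq' M nn⟩
    have h2 : x * M.e nn * (g * (x * M.e nn) * g⁻¹) = 1 := by
      have h3 : x * M.e nn = M.e nn * x := mem_C.1 hxT.2
      have h4 : M.e nn * (g * x * g⁻¹) = g * x * g⁻¹ * M.e nn := (mem_C.1 hxg.2).symm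
      calc x * M.e nn * (g * (x * M.e nn) * g⁻¹) =
            x * (M.e nn * (g * x * g⁻¹)) * (g * M.e nn * g⁻¹) := by group
        _ = x * (g * x * g⁻¹) * (M.e nn * M.e aa) := by rw [h4, tt_n hg]; group
        _ = 1 := by rw [na, ← hy, h1, M.e_sq]
    rcases t.zS_le (t.zT_aux hgS hg (mul_mem hx hnT) h2) with h3 | h3
    · right; left
      have := congrArg (· * M.e nn) h3
      simpa [mul_assoc, M.e_sq] using this
    · right; right; left
      have := congrArg (· * M.e nn) h3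
      simpa [mul_assoc, M.e_sq, sn] using this

theorem S_le_normalizer_T : (S : Subgroup G) ≤
    normalizer (((S : Subgroup G) ⊓ centralizer ({M.e nn} : Set G) : Subgroup G) : Set G) := by
  obtain ⟨g, hgS, hg⟩ := t.exists_swap
  have h1 : g ∈ normalizer
      (((S : Subgroup G) ⊓ centralizer ({M.e nn} : Set G) : Subgroup G) : Set G) := by
    refine mem_normalizer_of_cj_le ?_
    rintro _ ⟨x, hx, rfl⟩
    exact t.conj_T hgS hg hx
  intro x hx
  rcases t.mem_or hgS hg hx with h2 | h2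
  · exact Subgroup.le_normalizer h2
  · have h3 := mul_mem (Subgroup.le_normalizer h2) (inv_mem h1)
    have e : x * g * g⁻¹ = x := by group
    rwa [e] at h3

omit [Finite G] in
theorem n_mem_zT : M.e nn ∈ zc ((S : Subgroup G) ⊓ centralizer ({M.e nn} : Set G)) :=
  MinSimple.VModule.mem_zc.2 ⟨⟨t.V_le_S (M.e_mem nn), mem_C.2 rfl⟩, fun _ hb => mem_C.1 hb.2,
    e_sq' M nn⟩

omit [Finite G] in
theorem s_mem_zT : M.e ss ∈ zc ((S : Subgroup G) ⊓ centralizer ({M.e nn} : Set G)) :=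
  MinSimple.VModule.mem_zc.2 ⟨⟨t.V_le_S (M.e_mem ss), mem_C.2 (M.e_comm _ _)⟩,
    fun _ hb => t.S_comm hb.1, e_sq' M ss⟩

omit [Finite G] in
theorem a_mem_zT : M.e aa ∈ zc ((S : Subgroup G) ⊓ centralizer ({M.e nn} : Set G)) := by
  rw [← ns M]
  exact mul_mem t.n_mem_zT t.s_mem_zT

omit [Finite G] in
/-- the elements of `N_G(T)` permute `n, a, s` -/
theorem conj_R {y : G} (hy : y ∈ normalizer
      (((S : Subgroup G) ⊓ centralizer ({M.e nn} : Set G) : Subgroup G) : Set G)) {x : G}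
    (hx : x ∈ zc ((S : Subgroup G) ⊓ centralizer ({M.e nn} : Set G))) (hx1 : x ≠ 1) :
    y * x * y⁻¹ = M.e nn ∨ y * x * y⁻¹ = M.e aa ∨ y * x * y⁻¹ = M.e ss := by
  have h1 := (mem_normalizer_iff.1 (normalizer_le_normalizer_zc _ hy) x).1 hx
  rcases t.zT_le h1 with h2 | h2
  · exfalso
    apply hx1
    have := congrArg (fun w => y⁻¹ * w * y) h2
    simpa [mul_assoc] using this
  · exact h2

/-- Case (i): `N_G(T)` fixes `s`. Then `T` is a maximal 2-subgroup of `C_G(n)`. -/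
theorem max_T (hN : ∀ y ∈ normalizer
      (((S : Subgroup G) ⊓ centralizer ({M.e nn} : Set G) : Subgroup G) : Set G),
      y * M.e ss = M.e ss * y) {U : Subgroup G} (hU : IsPGroup 2 U)
    (hTU : (S : Subgroup G) ⊓ centralizer ({M.e nn} : Set G) ≤ U)
    (hUn : U ≤ centralizer ({M.e nn} : Set G)) :
    U ≤ (S : Subgroup G) ⊓ centralizer ({M.e nn} : Set G) := by
  set T := (S : Subgroup G) ⊓ centralizer ({M.e nn} : Set G) with hT
  by_contra hne
  obtain ⟨r, hrU, hrT, hrN⟩ := exists_mem_normalizer hU hTU hne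
  have hU1U : T ⊔ zpowers r ≤ U := sup_le hTU (by rwa [zpowers_le])
  have hU1 : IsPGroup 2 (T ⊔ zpowers r : Subgroup G) := hU.to_le hU1U
  have hU1N : T ⊔ zpowers r ≤ normalizer (T : Set G) :=
    sup_le Subgroup.le_normalizer (by rwa [zpowers_le])
  obtain ⟨c, hc, hcS⟩ := exists_conj_le_sylow S _ _ t.S_le_normalizer_T hU1 hU1N
  have hcs := hN c hc
  have hcn : c * M.e nn * c⁻¹ = M.e nn ∨ c * M.e nn * c⁻¹ = M.e aa := by
    rcases t.conj_R hc t.n_mem_zT (n_ne M) with h1 | h1 | h1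
    · exact Or.inl h1
    · exact Or.inr h1
    · exfalso
      have h2 : c * M.e ss * c⁻¹ = M.e ss := by rw [mul_inv_eq_iff_eq_mul]; exact hcs
      rw [← h2] at h1
      exact n_ne_s M (mul_left_cancel (mul_right_cancel h1))
  have hle : cj c (T ⊔ zpowers r) ≤ T := by
    rintro _ ⟨x, hx, rfl⟩
    change c * x * c⁻¹ ∈ T
    have hxs : x * M.e ss = M.e ss * x := hN x (hU1N hx)
    have hxn : x * M.e nn = M.e nn * x := mem_C.1 (hUn (hU1U hx))
    have h1 : (c * x * c⁻¹) * M.e ss = M.e ss * (c * x * c⁻¹) := by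
      have h2 : c⁻¹ * M.e ss = M.e ss * c⁻¹ := by
        calc c⁻¹ * M.e ss = c⁻¹ * (M.e ss * c) * c⁻¹ := by group
          _ = c⁻¹ * (c * M.e ss) * c⁻¹ := by rw [hcs]
          _ = M.e ss * c⁻¹ := by group
      calc (c * x * c⁻¹) * M.e ss = c * x * (c⁻¹ * M.e ss) := by group
        _ = c * (x * M.e ss) * c⁻¹ := by rw [h2]; group
        _ = (c * M.e ss) * x * c⁻¹ := by rw [hxs]; group
        _ = M.e ss * (c * x * c⁻¹) := by rw [hcs]; group
    have h2 : (c * x * c⁻¹) * (c * M.e nn * c⁻¹) = (c * M.e nn * c⁻¹) * (c * x * c⁻¹) := by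
      calc (c * x * c⁻¹) * (c * M.e nn * c⁻¹) = c * (x * M.e nn) * c⁻¹ := by group
        _ = c * (M.e nn * x) * c⁻¹ := by rw [hxn]
        _ = (c * M.e nn * c⁻¹) * (c * x * c⁻¹) := by group
    refine mem_inf.2 ⟨hcS x hx, mem_C.2 ?_⟩
    rcases hcn with h3 | h3
    · rw [h3] at h2
      exact h2
    · rw [h3] at h2
      rw [← as M]
      calc (c * x * c⁻¹) * (M.e aa * M.e ss) = ((c * x * c⁻¹) * M.e aa) * M.e ss := by group
        _ = M.e aa * ((c * x * c⁻¹) * M.e ss) := by rw [h2]; group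
        _ = M.e aa * M.e ss * (c * x * c⁻¹) := by rw [h1]; group
  have hcard : Nat.card (T ⊔ zpowers r : Subgroup G) ≤ Nat.card T := by
    rw [← card_cj c]
    exact Subgroup.card_le_of_le hle
  have heq := Subgroup.eq_of_le_of_card_ge (le_sup_left : T ≤ T ⊔ zpowers r) hcard
  apply hrT
  rw [heq]
  exact mem_sup_right (mem_zpowers r)

theorem case_one (hN : ∀ y ∈ normalizer
      (((S : Subgroup G) ⊓ centralizer ({M.e nn} : Set G) : Subgroup G) : Set G),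
      y * M.e ss = M.e ss * y) : False := by
  have hPT : o2 (centralizer ({M.e nn} : Set G)) ≤
      (S : Subgroup G) ⊓ centralizer ({M.e nn} : Set G) := by
    have h1 : IsPGroup 2 ((S : Subgroup G) ⊓ centralizer ({M.e nn} : Set G) : Subgroup G) :=
      S.isPGroup'.to_le inf_le_left
    have h2 : IsPGroup 2 (((S : Subgroup G) ⊓ centralizer ({M.e nn} : Set G)) ⊔
        o2 (centralizer ({M.e nn} : Set G)) : Subgroup G) :=
      IsPGroup.to_sup_of_normal_right' h1 (o2_isPGroup _) (inf_le_right.trans (le_normalizer_o2 _))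
    exact le_sup_right.trans (t.max_T hN h2 le_sup_left (sup_le inf_le_right (o2_le _)))
  have hn : ∀ {c q : G}, c ∈ centralizer ({M.e nn} : Set G) →
      q ∈ o2 (centralizer ({M.e nn} : Set G)) → c * q * c⁻¹ ∈ o2 (centralizer ({M.e nn} : Set G)) :=
    fun hc hq => (mem_normalizer_iff.1 (le_normalizer_o2 _ hc) _).1 hq
  have hP : ∀ q ∈ o2 (centralizer ({M.e nn} : Set G)), M.Ind q 1 ∨ M.Ind q (Equiv.swap 0 1) := by
    obtain ⟨l, -, hl⟩ := M.exists_lift (Equiv.swap 2 4)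
    have hlC : l ∈ centralizer ({M.e nn} : Set G) :=
      mem_C.2 ((hl.commute_iff _).2 (Or.inl (by decide)))
    have hla : l * M.e aa * l⁻¹ = M.e ![0, 0, 0, 1, 1] := by
      rw [hl, M.e_eq_iff]; left; decide
    intro q hq
    obtain ⟨p, hp, hi⟩ := t.T_ind (hPT hq)
    have h1 : q * M.e ![0, 0, 0, 1, 1] = M.e ![0, 0, 0, 1, 1] * q := by
      have h2 := hn (inv_mem hlC) hq
      rw [inv_inv] at h2
      have h3 := t.T_comm_a (hPT h2)
      rw [← hla]
      calc q * (l * M.e aa * l⁻¹) = l * (l⁻¹ * q * l * M.e aa) * l⁻¹ := by group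
        _ = l * (M.e aa * (l⁻¹ * q * l)) * l⁻¹ := by rw [h3]
        _ = l * M.e aa * l⁻¹ * q := by group
    rcases ttp_fix p hp ((hi.commute_iff _).1 h1) with rfl | rfl
    · exact Or.inl hi
    · exact Or.inr hi
  have hP₂ : ∀ q ∈ o2 (centralizer ({M.e nn} : Set G)), M₂.Ind q 1 ∨ M₂.Ind q (Equiv.swap 0 1) := by
    obtain ⟨l, -, hl⟩ := M₂.exists_lift (Equiv.swap 2 4)
    have hlC : l ∈ centralizer ({M.e nn} : Set G) := by
      rw [← t.en]
      exact mem_C.2 ((hl.commute_iff _).2 (Or.inl (by decide)))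
    have hla : l * M.e aa * l⁻¹ = M₂.e ![0, 0, 0, 1, 1] := by
      rw [← t.ea, hl, M₂.e_eq_iff]; left; decide
    intro q hq
    obtain ⟨p, hp, hi⟩ := t.T_ind₂ (hPT hq)
    have h1 : q * M₂.e ![0, 0, 0, 1, 1] = M₂.e ![0, 0, 0, 1, 1] * q := by
      have h2 := hn (inv_mem hlC) hq
      rw [inv_inv] at h2
      have h3 := t.T_comm_a (hPT h2)
      rw [← hla]
      calc q * (l * M.e aa * l⁻¹) = l * (l⁻¹ * q * l * M.e aa) * l⁻¹ := by group
        _ = l * (M.e aa * (l⁻¹ * q * l)) * l⁻¹ := by rw [h3]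
        _ = l * M.e aa * l⁻¹ * q := by group
    rcases ttp_fix p hp ((hi.commute_iff _).1 h1) with rfl | rfl
    · exact Or.inl hi
    · exact Or.inr hi
  have hVP : M₂.e ![0, 0, 1, 0, 0] ∈ o2 (centralizer ({M.e nn} : Set G)) := by
    refine le_o2_of_comm t.two (e_sq' M nn) (n_ne M) (by rw [← t.en]; exact M₂.e_comm _ nn)
      fun q hq => ?_
    set x : Vec := ![0, 0, 1, 0, 0]
    have h1 : M₂.e x * q * (M₂.e x)⁻¹ * q⁻¹ = (q * M₂.e x * q⁻¹ * (M₂.e x)⁻¹)⁻¹ := by group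
    rw [h1]
    rcases hP₂ q hq with h2 | h2
    · left
      rw [h2.comm_eq]
      have e : M₂.e (x ∘ (1 : Equiv.Perm (Fin 5)).symm + x) = 1 := by
        rw [M₂.ker]; left; exact add_self x
      rw [e, inv_one]
    · rw [h2.comm_eq, M₂.e_inv]
      rcases swap_comm x with h3 | h3
      · exact Or.inl ((M₂.ker _).2 h3)
      · rw [← t.en]; exact Or.inr (M₂.e_eq_iff.2 h3)
  have hu := hn (mem_C.2 t.hn) hVP
  rcases hP _ hu with h1 | h1
  · have := t.u_ind.unique h1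
    revert this
    decide
  · have := t.u_ind.unique h1
    revert this
    decide

/-- **There is no mutual pair of type TT-TT** (positional form). -/
theorem false : False := by
  by_cases hN : ∀ y ∈ normalizer
      (((S : Subgroup G) ⊓ centralizer ({M.e nn} : Set G) : Subgroup G) : Set G),
      y * M.e ss = M.e ss * y
  · exact t.case_one hN
  push Not at hN
  obtain ⟨y, hy, hys⟩ := hN
  obtain ⟨g, hgS, hg⟩ := t.exists_swap
  -- an element `w` with `w s w⁻¹ = n`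
  have h1 : ∃ w ∈ normalizer
      (((S : Subgroup G) ⊓ centralizer ({M.e nn} : Set G) : Subgroup G) : Set G),
      w * M.e ss * w⁻¹ = M.e nn := by
    rcases t.conj_R hy t.s_mem_zT (s_ne M) with h2 | h2 | h2
    · exact ⟨y, hy, h2⟩
    · refine ⟨g * y, mul_mem (t.S_le_normalizer_T hgS) hy, ?_⟩
      calc g * y * M.e ss * (g * y)⁻¹ = g * (y * M.e ss * y⁻¹) * g⁻¹ := by group
        _ = M.e nn := by rw [h2, tt_a hg]
    · exact absurd (by rwa [mul_inv_eq_iff_eq_mul] at h2) hys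
  obtain ⟨w, hw, hws⟩ := h1
  have hwinj : ∀ {x z : G}, w * x * w⁻¹ = w * z * w⁻¹ → x = z := fun h =>
    mul_left_cancel (mul_right_cancel h)
  rcases t.conj_R hw t.n_mem_zT (n_ne M) with h2 | h2 | h2
  · exact n_ne_s M (hwinj (h2.trans hws.symm))
  · exact t.case_two hws h2
  · -- `w n w⁻¹ = s`, so `w a w⁻¹ = a`
    have h3 : w * M.e aa * w⁻¹ = M.e aa := by
      calc w * M.e aa * w⁻¹ = (w * M.e nn * w⁻¹) * (w * M.e ss * w⁻¹) := by rw [← ns M]; group
        _ = M.e aa := by rw [h2, hws, sn]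
    refine t.case_two (d := w * g) ?_ ?_
    · calc w * g * M.e ss * (w * g)⁻¹ = w * (g * M.e ss * g⁻¹) * w⁻¹ := by group
        _ = M.e nn := by rw [tt_s hg, hws]
    · calc w * g * M.e nn * (w * g)⁻¹ = w * (g * M.e nn * g⁻¹) * w⁻¹ := by group
        _ = M.e aa := by rw [tt_n hg, h3]

end

end Pos

end Cfsg.Agent.Omega.S5.TT

end

section


/-!
# OMEGA II.c: a mutual pair of natural `O₄⁻(2)`-modules `V`, `V₂ ^ g` is of type T-T

`swap_of_pair` : `G` of characteristic 2 type, `V`, `V₂` natural `O₄⁻(2)`-modules for `L`, `L₂`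
(`FiveMod V L`, `FiveMod V₂ L₂`), `S ≤ L ∩ L₂` a Sylow 2-subgroup of `G`, `Ω₁(Z(S)) ≤ V`; if
`V₂ ^ g ≤ L` and `V ≤ L₂ ^ g`, then every element of `V₂ ^ g` acts on `V` trivially or as a
transposition.

`index_le_two` : the same for a mutual pair (`V`, `V₂ ^ g` normalise each other):
`|V : C_V(V₂ ^ g)| ≤ 2`, `|V₂ ^ g : C(V)| ≤ 2`.
-/

set_option autoImplicit false

namespace Cfsg.Agent.Omega.S5.Types

open Subgroup Cfsg Cfsg.Agent.ZN Cfsg.Agent.ZN.ChoiceBase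
open Cfsg.Agent.Omega.S5.Mod Cfsg.Agent.Omega.S5.TT

universe u

variable {G : Type u} [Group G]

/-! ### Permutations -/

theorem ttp_of_fix : ∀ p : Equiv.Perm (Fin 5), (nn ∘ p.symm = nn ∨ nn ∘ p.symm = nn + 1) →
    (aa ∘ p.symm = aa ∨ aa ∘ p.symm = aa + 1) → TTp p := by
  decide +kernel

theorem card_D8 : (Finset.univ.filter fun p : Equiv.Perm (Fin 5) => p * dd = dd * p).card = 8 := by
  decide +kernel

theorem d8_nn : ∀ p : Equiv.Perm (Fin 5), p * dd = dd * p →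
    (nn ∘ p.symm = nn ∨ nn ∘ p.symm = nn + 1) ∨ (nn ∘ p.symm = aa ∨ nn ∘ p.symm = aa + 1) := by
  decide +kernel

theorem d8_aa : ∀ p : Equiv.Perm (Fin 5), p * dd = dd * p →
    (aa ∘ p.symm = nn ∨ aa ∘ p.symm = nn + 1) ∨ (aa ∘ p.symm = aa ∨ aa ∘ p.symm = aa + 1) := by
  decide +kernel

theorem fix_dd : ∀ x : Vec, (x ∘ dd.symm = x ∨ x ∘ dd.symm = x + 1) →
    (x = 0 ∨ x = 1) ∨ (x = nn ∨ x = nn + 1) ∨ (x = aa ∨ x = aa + 1) ∨ (x = ss ∨ x = ss + 1) := by
  decide +kernel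

theorem isConj_dd {p : Equiv.Perm (Fin 5)} (h1 : p * p = 1) (h2 : p ≠ 1) (h3 : ¬ p.IsSwap) :
    ∃ σ : Equiv.Perm (Fin 5), σ⁻¹ * p * σ = dd := by
  have hord : orderOf p = 2 := orderOf_eq_prime (by rw [pow_two]; exact h1) h2
  obtain ⟨n, hn⟩ := Equiv.Perm.cycleType_prime_order (σ := p) (by rw [hord]; exact Nat.prime_two)
  rw [hord] at hn
  have hsum : (Multiset.replicate (n + 1) 2).sum ≤ 5 := by
    rw [← hn, Equiv.Perm.sum_cycleType]
    exact (Finset.card_le_univ _).trans (by simp)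
  rw [Multiset.sum_replicate, smul_eq_mul] at hsum
  have hn1 : n = 0 ∨ n = 1 := by omega
  rcases hn1 with rfl | rfl
  · exfalso
    apply h3
    rw [← Equiv.Perm.card_support_eq_two, ← Equiv.Perm.sum_cycleType, hn]
    rfl
  · have hdd : dd.cycleType = Multiset.replicate 2 2 := by
      have h5 : orderOf dd = 2 := orderOf_eq_prime (by decide) (by decide)
      obtain ⟨m, hm⟩ := Equiv.Perm.cycleType_prime_order (σ := dd) (by rw [h5]; exact Nat.prime_two)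
      rw [h5] at hm
      have h6 : dd.support.card = 4 := by decide
      rw [← Equiv.Perm.sum_cycleType, hm, Multiset.sum_replicate, smul_eq_mul] at h6
      have h7 : m = 1 := by omega
      rw [hm, h7]
    have hc : IsConj p dd := (Equiv.Perm.isConj_iff_cycleType_eq).2 (by rw [hn, hdd])
    obtain ⟨c, hc⟩ := isConj_iff.1 hc
    exact ⟨c⁻¹, by rw [inv_inv]; exact hc⟩

theorem swap_comm' : ∀ x : Vec, (x ∘ (Equiv.swap 2 3 : Equiv.Perm (Fin 5)).symm + x = 0 ∨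
      x ∘ (Equiv.swap 2 3 : Equiv.Perm (Fin 5)).symm + x = 1) ∨
    (x ∘ (Equiv.swap 2 3 : Equiv.Perm (Fin 5)).symm + x = aa ∨
      x ∘ (Equiv.swap 2 3 : Equiv.Perm (Fin 5)).symm + x = aa + 1) := by
  decide +kernel

theorem fix_two : ∀ x : Vec, (x ∘ (Equiv.swap 0 1 : Equiv.Perm (Fin 5)).symm + x = 0 ∨
      x ∘ (Equiv.swap 0 1 : Equiv.Perm (Fin 5)).symm + x = 1) →
    (x ∘ (Equiv.swap 2 3 : Equiv.Perm (Fin 5)).symm + x = 0 ∨
      x ∘ (Equiv.swap 2 3 : Equiv.Perm (Fin 5)).symm + x = 1) →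
    (x = 0 ∨ x = 1) ∨ (x = nn ∨ x = nn + 1) ∨ (x = aa ∨ x = aa + 1) ∨ (x = ss ∨ x = ss + 1) := by
  decide +kernel

/-- Three distinct nontrivial elements of `⟨(0 1), (2 3)⟩`. -/
theorem ttp_gen {p q : Equiv.Perm (Fin 5)} (hp : TTp p) (hq : TTp q) (hp1 : p ≠ 1) (hq1 : q ≠ 1)
    (hpq : p ≠ q) {r : Equiv.Perm (Fin 5)} (hr : TTp r) : r = 1 ∨ r = p ∨ r = q ∨ r = p * q := by
  rcases hp with rfl | rfl | rfl | rfl <;> rcases hq with rfl | rfl | rfl | rfl <;>
    rcases hr with rfl | rfl | rfl | rfl <;> revert hp1 hq1 hpq <;> decide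

/-- The product of two distinct commuting transpositions is not a transposition. -/
theorem not_swap_mul {p q : Equiv.Perm (Fin 5)} (hp : p.IsSwap) (hq : q.IsSwap)
    (hpq : p ≠ q) : p * q ≠ 1 ∧ ¬ (p * q).IsSwap := by
  constructor
  · intro h
    apply hpq
    have h1 : q * q = 1 := by
      obtain ⟨i, j, -, rfl⟩ := hq
      exact Equiv.swap_mul_self i j
    calc p = p * (q * q) := by rw [h1, mul_one]
      _ = q := by rw [← mul_assoc, h, one_mul]
  · intro h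
    have h1 := h.sign_eq
    rw [Equiv.Perm.sign_mul, hp.sign_eq, hq.sign_eq] at h1
    revert h1
    decide

/-! ### The D8-normalised labels -/

/-- Labels of `V` such that `S` induces `D₈ = C((0 1)(2 3))` on `V`. -/
theorem exists_relabel [Finite G] {V L : Subgroup G} (M : FiveMod V L) (S : Sylow 2 G)
    (hS : (S : Subgroup G) ≤ L) : ∃ σ : Equiv.Perm (Fin 5),
      (∀ g ∈ (S : Subgroup G), ∀ p, (M.relabel σ).Ind g p → p * dd = dd * p) ∧
      (∀ p, p * dd = dd * p → ∃ g ∈ (S : Subgroup G), (M.relabel σ).Ind g p) := by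
  have : Fact (Nat.Prime 2) := ⟨Nat.prime_two⟩
  have hsy : ¬ 2 ∣ ((S : Subgroup G).subgroupOf L).index := MinSimple.Basic.not_dvd_relIndex S hS
  set S1 : Sylow 2 L := (S.isPGroup'.comap_of_injective _ L.subtype_injective).toSylow hsy with hS1
  set P : Sylow 2 (Equiv.Perm (Fin 5)) := S1.mapSurjective M.pi_surjective with hP
  -- the centralizer of `dd`
  set D : Subgroup (Equiv.Perm (Fin 5)) := centralizer ({dd} : Set (Equiv.Perm (Fin 5))) with hD
  have hDcard : Nat.card D = 8 := by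
    have h1 : Nat.card D = (Finset.univ.filter fun p : Equiv.Perm (Fin 5) => p * dd = dd * p).card := by
      rw [← Fintype.card_subtype, ← Nat.card_eq_fintype_card]
      refine Nat.card_congr (Equiv.subtypeEquivRight fun p => ?_)
      exact mem_centralizer_singleton_iff
    rw [h1, card_D8]
  have hDp : IsPGroup 2 D := IsPGroup.of_card (n := 3) (by rw [hDcard]; norm_num)
  obtain ⟨Q, hQ⟩ := hDp.exists_le_sylow
  obtain ⟨τ, hτ⟩ := MulAction.exists_smul_eq (Equiv.Perm (Fin 5)) P Q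
  have hQcard : Nat.card Q = 8 := by
    have h1 : Nat.card Q = 2 ^ (Nat.card (Equiv.Perm (Fin 5))).factorization 2 :=
      Q.card_eq_multiplicity
    have h2 : Nat.card (Equiv.Perm (Fin 5)) = 120 := by
      rw [Nat.card_eq_fintype_card, Fintype.card_perm, Fintype.card_fin]; rfl
    have h3 : (120 : ℕ).factorization 2 = 3 := by
      have : (120 : ℕ) = 2 ^ 3 * 15 := by norm_num
      rw [this, Nat.factorization_mul (by norm_num) (by norm_num),
        Nat.Prime.factorization_pow Nat.prime_two]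
      simp [Nat.factorization_eq_zero_of_not_dvd (show ¬ 2 ∣ 15 by norm_num)]
    rw [h1, h2, h3]; norm_num
  have hQD : (Q : Subgroup (Equiv.Perm (Fin 5))) = D :=
    (Subgroup.eq_of_le_of_card_ge hQ (by rw [hDcard]; exact hQcard.le)).symm
  have hPmem : ∀ p, p ∈ (P : Subgroup (Equiv.Perm (Fin 5))) ↔
      ∃ g ∈ (S : Subgroup G), M.Ind g p := by
    intro p
    constructor
    · intro hp
      have hp' : p ∈ (S1 : Subgroup L).map M.pi := hp
      obtain ⟨g, hg, rfl⟩ := hp'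
      exact ⟨g, mem_subgroupOf.1 hg, M.pi_spec g⟩
    · rintro ⟨g, hg, hi⟩
      have h1 : M.pi ⟨g, hS hg⟩ ∈ (S1 : Subgroup L).map M.pi :=
        ⟨⟨g, hS hg⟩, mem_subgroupOf.2 hg, rfl⟩
      rw [M.pi_eq (g := ⟨g, hS hg⟩) hi] at h1
      exact h1
  have hQmem : ∀ p, p * dd = dd * p ↔ τ⁻¹ * p * τ ∈ (P : Subgroup (Equiv.Perm (Fin 5))) := by
    intro p
    have h0 : p * dd = dd * p ↔ p ∈ D := mem_centralizer_singleton_iff.symm
    rw [h0, ← hQD, ← hτ, Sylow.coe_subgroup_smul]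
    change p ∈ (P : Subgroup (Equiv.Perm (Fin 5))).map (MulAut.conj τ).toMonoidHom ↔ _
    exact mem_cj
  refine ⟨τ⁻¹, ?_, ?_⟩
  · intro g hg p hp
    have h1 := FiveMod.ind_of_relabel τ⁻¹ hp
    rw [inv_inv] at h1
    rw [hQmem, hPmem]
    exact ⟨g, hg, h1⟩
  · intro p hp
    rw [hQmem, hPmem] at hp
    obtain ⟨g, hg, hi⟩ := hp
    refine ⟨g, hg, ?_⟩
    have h1 := FiveMod.relabel_ind τ⁻¹ hi
    have e : τ⁻¹⁻¹ * (τ⁻¹ * p * τ) * τ⁻¹ = p := by group
    rwa [e] at h1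

/-! ### Pairs -/

/-- `V` normalises `W`, `W ≤ L` and some element of `W` acts on `V` as `(0 1)(2 3)`. -/
structure Side (V W : Subgroup G) {L : Subgroup G} (M : FiveMod V L) : Prop where
  VW : V ≤ normalizer (W : Set G)
  WV : W ≤ L
  comm : ∀ w ∈ W, ∀ w' ∈ W, w * w' = w' * w
  dd : ∃ w ∈ W, M.Ind w dd

namespace Side

variable {V W L K : Subgroup G} {M : FiveMod V L} (t : Side V W M)
include t

theorem comm_mem {w : G} (hw : w ∈ W) {p : Equiv.Perm (Fin 5)} (hp : M.Ind w p) (x : Vec) :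
    M.e (x ∘ p.symm + x) ∈ W := by
  rw [← hp.comm_eq]
  have h1 : w * M.e x * w⁻¹ * (M.e x)⁻¹ = w * (M.e x * w⁻¹ * (M.e x)⁻¹) := by group
  rw [h1]
  exact mul_mem hw ((mem_normalizer_iff.1 (t.VW (M.e_mem x)) _).1 (inv_mem hw))

theorem n_mem : M.e nn ∈ W := by
  obtain ⟨w, hw, hi⟩ := t.dd
  have h1 := t.comm_mem hw hi ![1, 0, 0, 0, 0]
  have e : M.e ((![1, 0, 0, 0, 0] : Vec) ∘ TT.dd.symm + ![1, 0, 0, 0, 0]) = M.e nn := by
    rw [M.e_eq_iff]; left; decide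
  rwa [e] at h1

theorem a_mem : M.e aa ∈ W := by
  obtain ⟨w, hw, hi⟩ := t.dd
  have h1 := t.comm_mem hw hi ![0, 0, 1, 0, 0]
  have e : M.e ((![0, 0, 1, 0, 0] : Vec) ∘ TT.dd.symm + ![0, 0, 1, 0, 0]) = M.e aa := by
    rw [M.e_eq_iff]; left; decide
  rwa [e] at h1

theorem s_mem : M.e ss ∈ W := by
  rw [← Pos.na M]
  exact mul_mem t.n_mem t.a_mem

theorem act {w : G} (hw : w ∈ W) : ∃ p, TTp p ∧ M.Ind w p := by
  obtain ⟨p, hp⟩ := M.exists_ind (t.WV hw)
  refine ⟨p, ttp_of_fix p ?_ ?_, hp⟩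
  · exact (hp.commute_iff _).1 (t.comm _ hw _ t.n_mem)
  · exact (hp.commute_iff _).1 (t.comm _ hw _ t.a_mem)

/-- `C_V(W) ≤ {1, n, a, s}` -/
theorem cent {x : Vec} (h : ∀ w ∈ W, w * M.e x = M.e x * w) :
    (x = 0 ∨ x = 1) ∨ (x = nn ∨ x = nn + 1) ∨ (x = aa ∨ x = aa + 1) ∨ (x = ss ∨ x = ss + 1) := by
  obtain ⟨w, hw, hi⟩ := t.dd
  exact fix_dd x ((hi.commute_iff x).1 (h w hw))

theorem cent' {x : Vec} (h : ∀ w ∈ W, w * M.e x = M.e x * w) : M.e x ∈ W := by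
  rcases t.cent h with h1 | h1 | h1 | h1
  · rw [(M.ker x).2 h1]; exact one_mem _
  · rw [M.e_eq_iff.2 h1]; exact t.n_mem
  · rw [M.e_eq_iff.2 h1]; exact t.a_mem
  · rw [M.e_eq_iff.2 h1]; exact t.s_mem

/-- an element of `V` outside of `{1, n, a, s}` acts nontrivially on `W` -/
theorem act_ne {N : FiveMod W K} {x : Vec} {q : Equiv.Perm (Fin 5)} (hq : N.Ind (M.e x) q)
    (hx : ¬ ((x = 0 ∨ x = 1) ∨ (x = nn ∨ x = nn + 1) ∨ (x = aa ∨ x = aa + 1) ∨
      (x = ss ∨ x = ss + 1))) : q ≠ 1 := by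
  rintro rfl
  apply hx
  refine t.cent fun w hw => ?_
  exact mem_centralizer_iff.1 (FiveMod.ind_one_iff.1 hq) w hw

/-- The permutations induced on `W` by `e(0)`, `e(2)`. -/
theorem exists_two (N : FiveMod W K) (hVK : V ≤ K) : ∃ q r : Equiv.Perm (Fin 5), N.Ind (M.e ![1, 0, 0, 0, 0]) q ∧
    N.Ind (M.e ![0, 0, 1, 0, 0]) r ∧ q ≠ 1 ∧ r ≠ 1 ∧ q ≠ r ∧ q * q = 1 ∧ r * r = 1 := by
  obtain ⟨q, hq⟩ := N.exists_ind (hVK (M.e_mem ![1, 0, 0, 0, 0]))
  obtain ⟨r, hr⟩ := N.exists_ind (hVK (M.e_mem ![0, 0, 1, 0, 0]))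
  have hqq : q * q = 1 := by
    have h1 := hq.mul hq
    rw [M.e_sq] at h1
    exact h1.unique N.ind_one
  have hrr : r * r = 1 := by
    have h1 := hr.mul hr
    rw [M.e_sq] at h1
    exact h1.unique N.ind_one
  refine ⟨q, r, hq, hr, t.act_ne hq (by decide), t.act_ne hr (by decide), ?_, hqq, hrr⟩
  rintro rfl
  have h1 := hq.mul hr
  rw [← M.e_add] at h1
  exact t.act_ne h1 (by decide) hqq

/-- every element of `⟨(0 1), (2 3)⟩` is induced -/
theorem sur {N : FiveMod W K} (t' : Side W V N) {p : Equiv.Perm (Fin 5)} (hp : TTp p) :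
    ∃ v ∈ V, N.Ind v p := by
  obtain ⟨q, r, hq, hr, hq1, hr1, hqr, -, -⟩ := t.exists_two N t'.WV
  obtain ⟨q', hq', hiq⟩ := t'.act (M.e_mem ![1, 0, 0, 0, 0])
  obtain ⟨r', hr', hir⟩ := t'.act (M.e_mem ![0, 0, 1, 0, 0])
  have e1 := hiq.unique hq
  have e2 := hir.unique hr
  subst e1
  subst e2
  rcases ttp_gen hq' hr' hq1 hr1 hqr hp with rfl | rfl | rfl | rfl
  · exact ⟨1, one_mem _, N.ind_one⟩
  · exact ⟨_, M.e_mem _, hq⟩
  · exact ⟨_, M.e_mem _, hr⟩
  · exact ⟨_, mul_mem (M.e_mem _) (M.e_mem _), hq.mul hr⟩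

end Side

theorem comm_pair {V W L K : Subgroup G} {M : FiveMod V L} {N : FiveMod W K} {x y : Vec}
    {p q : Equiv.Perm (Fin 5)} (h1 : N.Ind (M.e x) p) (h2 : M.Ind (N.e y) q) :
    N.e (y ∘ p.symm + y) = M.e (x ∘ q.symm + x) := by
  rw [← h1.comm_eq, ← h2.comm_eq, M.e_inv, N.e_inv]
  have h3 : (N.e y * M.e x * N.e y * M.e x) * (N.e y * M.e x * N.e y * M.e x) = 1 := by
    have h4 := h2.comm_eq x
    rw [M.e_inv, N.e_inv] at h4
    rw [h4]
    exact M.e_sq _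
  have h4 : (M.e x * N.e y * M.e x * N.e y) * (N.e y * M.e x * N.e y * M.e x) = 1 := by
    have e1 : (M.e x * N.e y * M.e x * N.e y) * (N.e y * M.e x * N.e y * M.e x) =
        M.e x * N.e y * M.e x * (N.e y * N.e y) * M.e x * N.e y * M.e x := by group
    rw [e1, N.e_sq, mul_one]
    have e2 : M.e x * N.e y * M.e x * M.e x * N.e y * M.e x =
        M.e x * N.e y * (M.e x * M.e x) * N.e y * M.e x := by group
    rw [e2, M.e_sq, mul_one]
    have e3 : M.e x * N.e y * N.e y * M.e x = M.e x * (N.e y * N.e y) * M.e x := by group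
    rw [e3, N.e_sq, mul_one, M.e_sq]
  exact mul_right_cancel (h4.trans h3.symm)

/-- `n`, `a` seen from the two sides. -/
theorem same_R {V W L K : Subgroup G} {M : FiveMod V L} {N : FiveMod W K} (t : Side V W M)
    (t' : Side W V N) : (N.e nn = M.e nn ∧ N.e aa = M.e aa) ∨
      (N.e nn = M.e aa ∧ N.e aa = M.e nn) := by
  obtain ⟨v1, hv1, hi1⟩ := t.sur t' (p := Equiv.swap 0 1) (by decide)
  obtain ⟨v2, hv2, hi2⟩ := t.sur t' (p := Equiv.swap 2 3) (by decide)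
  obtain ⟨w1, hw1, hj1⟩ := t'.sur t (p := Equiv.swap 0 1) (by decide)
  obtain ⟨w2, hw2, hj2⟩ := t'.sur t (p := Equiv.swap 2 3) (by decide)
  obtain ⟨x1, rfl⟩ := (M.mem_iff _).1 hv1
  obtain ⟨x2, rfl⟩ := (M.mem_iff _).1 hv2
  obtain ⟨y1, rfl⟩ := (N.mem_iff _).1 hw1
  obtain ⟨y2, rfl⟩ := (N.mem_iff _).1 hw2
  -- an element `N.e y` acting nontrivially on `V`
  have key : ∀ y : Vec, ∀ q : Equiv.Perm (Fin 5), M.Ind (N.e y) q → q ≠ 1 →
      N.e nn = N.e (y ∘ (Equiv.swap 0 1 : Equiv.Perm (Fin 5)).symm + y) ∨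
      N.e aa = N.e (y ∘ (Equiv.swap 2 3 : Equiv.Perm (Fin 5)).symm + y) := by
    intro y q hq hq1
    rcases swap_comm y with h1 | h1
    · rcases swap_comm' y with h2 | h2
      · exfalso
        have h3 : N.e y ∈ V := by
          rcases fix_two y h1 h2 with h4 | h4 | h4 | h4
          · rw [(N.ker y).2 h4]; exact one_mem _
          · rw [N.e_eq_iff.2 h4]; exact t'.n_mem
          · rw [N.e_eq_iff.2 h4]; exact t'.a_mem
          · rw [N.e_eq_iff.2 h4]; exact t'.s_mem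
        apply hq1
        exact hq.unique (FiveMod.ind_one_iff.2 (mem_centralizer_iff.2 fun v hv => M.comm hv h3))
      · right; exact (N.e_eq_iff.2 h2).symm
    · left; exact (N.e_eq_iff.2 h1).symm
  have hM1 : ∀ x : Vec, M.e (x ∘ (Equiv.swap 0 1 : Equiv.Perm (Fin 5)).symm + x) = 1 ∨
      M.e (x ∘ (Equiv.swap 0 1 : Equiv.Perm (Fin 5)).symm + x) = M.e nn := by
    intro x
    rcases swap_comm x with h1 | h1
    · exact Or.inl ((M.ker _).2 h1)
    · exact Or.inr (M.e_eq_iff.2 h1)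
  have hM2 : ∀ x : Vec, M.e (x ∘ (Equiv.swap 2 3 : Equiv.Perm (Fin 5)).symm + x) = 1 ∨
      M.e (x ∘ (Equiv.swap 2 3 : Equiv.Perm (Fin 5)).symm + x) = M.e aa := by
    intro x
    rcases swap_comm' x with h1 | h1
    · exact Or.inl ((M.ker _).2 h1)
    · exact Or.inr (M.e_eq_iff.2 h1)
  have h1 : N.e nn = M.e nn ∨ N.e aa = M.e nn := by
    rcases key y1 _ hj1 (by decide) with h2 | h2
    · left
      rw [comm_pair hi1 hj1] at h2
      rcases hM1 x1 with h3 | h3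
      · exact absurd (h2.trans h3) (Pos.n_ne N)
      · exact h2.trans h3
    · right
      rw [comm_pair hi2 hj1] at h2
      rcases hM1 x2 with h3 | h3
      · exact absurd (h2.trans h3) (Pos.a_ne N)
      · exact h2.trans h3
  have h2 : N.e nn = M.e aa ∨ N.e aa = M.e aa := by
    rcases key y2 _ hj2 (by decide) with h2 | h2
    · left
      rw [comm_pair hi1 hj2] at h2
      rcases hM2 x1 with h3 | h3
      · exact absurd (h2.trans h3) (Pos.n_ne N)
      · exact h2.trans h3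
    · right
      rw [comm_pair hi2 hj2] at h2
      rcases hM2 x2 with h3 | h3
      · exact absurd (h2.trans h3) (Pos.a_ne N)
      · exact h2.trans h3
  rcases h1 with h1 | h1 <;> rcases h2 with h2 | h2
  · exact absurd (h1.symm.trans h2) (Pos.n_ne_a M)
  · exact Or.inl ⟨h1, h2⟩
  · exact Or.inr ⟨h2, h1⟩
  · exact absurd (h1.symm.trans h2) (Pos.n_ne_a M)

/-! ### Positions -/

section

variable {V L V₂ L₂ : Subgroup G} {M : FiveMod V L} {M₂ : FiveMod V₂ L₂}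

theorem side_congr {V W W' L : Subgroup G} {M : FiveMod V L} (h : W = W') (t : Side V W M) :
    Side V W' M := h ▸ t

/-- Choosing `h`, `V₂ ^ h = V₂ ^ g`, with `(0 1)(2 3)` induced by `V` on `V₂ ^ h`. -/
theorem exists_side {g : G} (hV : V ≤ cj g L₂) (t : Side V (cj g V₂) M) : ∃ h,
    cj h V₂ = cj g V₂ ∧ cj h L₂ = cj g L₂ ∧ Side V (cj h V₂) M ∧
      Side (cj h V₂) V (M₂.cj h) := by
  obtain ⟨q, r, hq, hr, hq1, hr1, hqr, hqq, hrr⟩ := t.exists_two (M₂.cj g) hV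
  -- an element of `V` inducing a double transposition
  have h1 : ∃ v ∈ V, ∃ p, (M₂.cj g).Ind v p ∧ p ≠ 1 ∧ ¬ p.IsSwap ∧ p * p = 1 := by
    by_cases h2 : q.IsSwap
    · by_cases h3 : r.IsSwap
      · obtain ⟨h4, h5⟩ := not_swap_mul h2 h3 hqr
        refine ⟨_, mul_mem (M.e_mem ![1, 0, 0, 0, 0]) (M.e_mem ![0, 0, 1, 0, 0]), q * r,
          hq.mul hr, h4, h5, ?_⟩
        have h6 : q * r = r * q := by
          have h7 := hr.mul hq
          rw [M.e_comm] at h7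
          exact (hq.mul hr).unique h7
        calc q * r * (q * r) = q * r * (r * q) := by rw [h6]
          _ = q * (r * r) * q := by group
          _ = 1 := by rw [hrr, mul_one, hqq]
      · exact ⟨_, M.e_mem _, r, hr, hr1, h3, hrr⟩
    · exact ⟨_, M.e_mem _, q, hq, hq1, h2, hqq⟩
  obtain ⟨v, hv, p, hp, hp1, hps, hpp⟩ := h1
  obtain ⟨σ, hσ⟩ := isConj_dd hpp hp1 hps
  obtain ⟨l, hlL, hl⟩ := M₂.exists_lift σ
  have hV' : cj (g * l) V₂ = cj g V₂ := by
    rw [← cj_cj, cj_eq_of_mem_normalizer (M₂.le_normalizer hlL)]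
  have hL' : cj (g * l) L₂ = cj g L₂ := by
    rw [← cj_cj, cj_eq_of_mem_normalizer (Subgroup.le_normalizer hlL)]
  have hi := FiveMod.cj_mul_ind hl hp
  rw [hσ] at hi
  refine ⟨g * l, hV', hL', side_congr hV'.symm t, ?_, ?_, ?_, v, hv, hi⟩
  · rw [hV']; exact t.WV.trans M.le_normalizer
  · rw [hL']; exact hV
  · exact fun w hw w' hw' => M.comm hw hw'

/-- Choosing `h` with `h n₂ h⁻¹ = n`, `h a₂ h⁻¹ = a`. -/
theorem exists_pos {g : G} (hV : V ≤ cj g L₂) (t : Side V (cj g V₂) M) : ∃ h,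
    cj h V₂ = cj g V₂ ∧ Side V (cj h V₂) M ∧ Side (cj h V₂) V (M₂.cj h) ∧
      h * M₂.e nn * h⁻¹ = M.e nn ∧ h * M₂.e aa * h⁻¹ = M.e aa := by
  obtain ⟨h, hVh, hLh, t1, t2⟩ := exists_side (M₂ := M₂) hV t
  rcases same_R t1 t2 with ⟨h1, h2⟩ | ⟨h1, h2⟩
  · rw [M₂.cj_e] at h1 h2
    exact ⟨h, hVh, t1, t2, h1, h2⟩
  · obtain ⟨l, hlL, hl⟩ := M₂.exists_lift tt
    have hV' : cj (h * l) V₂ = cj h V₂ := by
      rw [← cj_cj, cj_eq_of_mem_normalizer (M₂.le_normalizer hlL)]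
    have hL' : cj (h * l) L₂ = cj h L₂ := by
      rw [← cj_cj, cj_eq_of_mem_normalizer (Subgroup.le_normalizer hlL)]
    obtain ⟨v, hv, hi⟩ := t2.dd
    have hi' := FiveMod.cj_mul_ind hl hi
    have e : tt⁻¹ * TT.dd * tt = TT.dd := by decide
    rw [e] at hi'
    rw [M₂.cj_e] at h1 h2
    refine ⟨h * l, hV'.trans hVh, side_congr hV'.symm t1, ⟨?_, ?_, ?_, v, hv, hi'⟩, ?_, ?_⟩
    · rw [hV']; exact t1.WV.trans M.le_normalizer
    · rw [hL', hLh]; exact hV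
    · exact fun w hw w' hw' => M.comm hw hw'
    · calc h * l * M₂.e nn * (h * l)⁻¹ = h * (l * M₂.e nn * l⁻¹) * h⁻¹ := by group
        _ = M.e nn := by rw [Pos.tt_n hl, h2]
    · calc h * l * M₂.e aa * (h * l)⁻¹ = h * (l * M₂.e aa * l⁻¹) * h⁻¹ := by group
        _ = M.e aa := by rw [Pos.tt_a hl, h1]

end

theorem conj_n_or {V L : Subgroup G} {M : FiveMod V L} {x : G} {p : Equiv.Perm (Fin 5)}
    (h : M.Ind x p) (hp : p * dd = dd * p) :
    (x * M.e nn * x⁻¹ = M.e nn ∨ x * M.e nn * x⁻¹ = M.e aa) ∧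
      (x * M.e aa * x⁻¹ = M.e nn ∨ x * M.e aa * x⁻¹ = M.e aa) := by
  rw [h, h, M.e_eq_iff, M.e_eq_iff, M.e_eq_iff, M.e_eq_iff]
  exact ⟨d8_nn p hp, d8_aa p hp⟩

theorem V_le_S {V L : Subgroup G} (M : FiveMod V L) (S : Sylow 2 G) (hS : (S : Subgroup G) ≤ L) :
    V ≤ (S : Subgroup G) := by
  have h1 : IsPGroup 2 ((S : Subgroup G) ⊔ V : Subgroup G) :=
    IsPGroup.to_sup_of_normal_right' S.isPGroup' M.isPGroup (hS.trans M.le_normalizer)
  have h2 := S.is_maximal' h1 le_sup_left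
  rw [← h2]
  exact le_sup_right

theorem s_mem_zc {V L : Subgroup G} (M : FiveMod V L) (S : Sylow 2 G) (hS : (S : Subgroup G) ≤ L)
    (hd : ∀ g ∈ (S : Subgroup G), ∀ p, M.Ind g p → p * dd = dd * p) :
    M.e ss ∈ zc (S : Subgroup G) := by
  refine MinSimple.VModule.mem_zc.2 ⟨V_le_S M S hS (M.e_mem ss), fun b hb => ?_, Pos.e_sq' M ss⟩
  obtain ⟨p, hp⟩ := M.exists_ind (hS hb)
  exact (hp.commute_iff _).2 (Or.inl (fix_ss p (hd b hb p hp)))

theorem zc_le_of {V L : Subgroup G} (M : FiveMod V L) (S : Sylow 2 G)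
    (hz : zc (S : Subgroup G) ≤ V)
    (hd' : ∀ p, p * dd = dd * p → ∃ g ∈ (S : Subgroup G), M.Ind g p) {x : G}
    (hx : x ∈ zc (S : Subgroup G)) : x = 1 ∨ x = M.e ss := by
  obtain ⟨y, rfl⟩ := (M.mem_iff x).1 (hz hx)
  have h1 : ∀ p, p * dd = dd * p → y ∘ p.symm = y ∨ y ∘ p.symm = y + 1 := by
    intro p hp
    obtain ⟨g, hg, hi⟩ := hd' p hp
    exact (hi.commute_iff y).1 ((MinSimple.VModule.mem_zc.1 hx).2.1 g hg)
  rcases fix_all y (h1 _ (by decide)) (h1 _ (by decide)) (h1 _ (by decide)) with h2 | h2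
  · exact Or.inl ((M.ker y).2 h2)
  · exact Or.inr (M.e_eq_iff.2 h2)

/-- The case where the labels are adapted to `S`. -/
theorem false_of_dd [Finite G] (hG : IsCharacteristicTwoType G) (S : Sylow 2 G)
    {V L V₂ L₂ : Subgroup G} (M : FiveMod V L) (M₂ : FiveMod V₂ L₂)
    (hS : (S : Subgroup G) ≤ L) (hS₂ : (S : Subgroup G) ≤ L₂) (hz : zc (S : Subgroup G) ≤ V)
    (hd : ∀ g ∈ (S : Subgroup G), ∀ p, M.Ind g p → p * dd = dd * p)
    (hd' : ∀ p, p * dd = dd * p → ∃ g ∈ (S : Subgroup G), M.Ind g p)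
    (hd₂ : ∀ g ∈ (S : Subgroup G), ∀ p, M₂.Ind g p → p * dd = dd * p)
    {g : G} (hV : V ≤ cj g L₂) (t : Side V (cj g V₂) M) : False := by
  obtain ⟨k, hVk, t1, t2, hn, ha⟩ := exists_pos (M₂ := M₂) hV t
  -- `R = {1, n, a, s}`
  set R : Subgroup G := closure {M.e nn, M.e aa} with hR
  have hRmem : ∀ x, x ∈ R ↔ x = 1 ∨ x = M.e nn ∨ x = M.e aa ∨ x = M.e ss := by
    intro x
    constructor
    · intro hx
      have key : ∀ y ∈ R, ∃ i j : ZMod 2, y = M.e (i • nn + j • aa) := by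
        intro y hy
        refine closure_induction (p := fun y _ => ∃ i j : ZMod 2, y = M.e (i • nn + j • aa))
          ?_ ?_ ?_ ?_ hy
        · rintro z (rfl | rfl)
          · exact ⟨1, 0, by simp⟩
          · exact ⟨0, 1, by simp⟩
        · exact ⟨0, 0, by simp [M.e_zero]⟩
        · rintro a b - - ⟨i, j, rfl⟩ ⟨i', j', rfl⟩
          refine ⟨i + i', j + j', ?_⟩
          rw [← M.e_add]
          congr 1
          rw [add_smul, add_smul]
          abel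
        · rintro a - ⟨i, j, rfl⟩
          exact ⟨i, j, M.e_inv _⟩
      obtain ⟨i, j, rfl⟩ := key x hx
      have h01 : ∀ i : ZMod 2, i = 0 ∨ i = 1 := by decide
      rcases h01 i with rfl | rfl <;> rcases h01 j with rfl | rfl
      · left; simp [M.e_zero]
      · right; right; left; simp
      · right; left; simp
      · right; right; right
        rw [M.e_eq_iff]; decide
    · rintro (rfl | rfl | rfl | rfl)
      · exact one_mem _
      · exact subset_closure (Or.inl rfl)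
      · exact subset_closure (Or.inr rfl)
      · rw [← Pos.na M]
        exact mul_mem (subset_closure (Or.inl rfl)) (subset_closure (Or.inr rfl))
  have hRn : ∀ x : G, (x * M.e nn * x⁻¹ = M.e nn ∨ x * M.e nn * x⁻¹ = M.e aa) ∧
      (x * M.e aa * x⁻¹ = M.e nn ∨ x * M.e aa * x⁻¹ = M.e aa) → x ∈ normalizer (R : Set G) := by
    rintro x ⟨h1, h2⟩
    refine mem_normalizer_of_cj_le ?_
    change (closure {M.e nn, M.e aa}).map (MulAut.conj x).toMonoidHom ≤ R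
    rw [MonoidHom.map_closure, closure_le]
    rintro _ ⟨z, rfl | rfl, rfl⟩
    · change x * M.e nn * x⁻¹ ∈ R
      rw [hRmem]
      rcases h1 with h1 | h1
      · exact Or.inr (Or.inl h1)
      · exact Or.inr (Or.inr (Or.inl h1))
    · change x * M.e aa * x⁻¹ ∈ R
      rw [hRmem]
      rcases h2 with h2 | h2
      · exact Or.inr (Or.inl h2)
      · exact Or.inr (Or.inr (Or.inl h2))
  have hSR : (S : Subgroup G) ≤ normalizer (R : Set G) := by
    intro x hx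
    obtain ⟨p, hp⟩ := M.exists_ind (hS hx)
    exact hRn x (conj_n_or hp (hd x hx p hp))
  have hkS : cj k (S : Subgroup G) ≤ normalizer (R : Set G) := by
    rintro _ ⟨x, hx, rfl⟩
    obtain ⟨p, hp⟩ := M₂.exists_ind (hS₂ hx)
    obtain ⟨h1, h2⟩ := conj_n_or hp (hd₂ x hx p hp)
    refine hRn _ ⟨?_, ?_⟩
    · change k * x * k⁻¹ * M.e nn * (k * x * k⁻¹)⁻¹ = M.e nn ∨
        k * x * k⁻¹ * M.e nn * (k * x * k⁻¹)⁻¹ = M.e aa
      have e : k * x * k⁻¹ * M.e nn * (k * x * k⁻¹)⁻¹ = k * (x * M₂.e nn * x⁻¹) * k⁻¹ := by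
        rw [← hn]; group
      rw [e]
      rcases h1 with h1 | h1
      · left; rw [h1, hn]
      · right; rw [h1, ha]
    · change k * x * k⁻¹ * M.e aa * (k * x * k⁻¹)⁻¹ = M.e nn ∨
        k * x * k⁻¹ * M.e aa * (k * x * k⁻¹)⁻¹ = M.e aa
      have e : k * x * k⁻¹ * M.e aa * (k * x * k⁻¹)⁻¹ = k * (x * M₂.e aa * x⁻¹) * k⁻¹ := by
        rw [← ha]; group
      rw [e]
      rcases h2 with h2 | h2
      · left; rw [h2, hn]
      · right; rw [h2, ha]
  obtain ⟨y, hy, hyS⟩ := exists_conj_le_sylow S _ _ hSR (isPGroup_cj k S.isPGroup') hkS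
  -- `m = y k` normalises `S`
  have hm : y * k ∈ normalizer ((S : Subgroup G) : Set G) := by
    refine mem_normalizer_of_cj_le ?_
    rintro _ ⟨x, hx, rfl⟩
    have h1 := hyS _ ⟨x, hx, rfl⟩
    change y * k * x * (y * k)⁻¹ ∈ (S : Subgroup G)
    have e : y * k * x * (y * k)⁻¹ = y * (k * x * k⁻¹) * y⁻¹ := by group
    rw [e]
    exact h1
  have hs2 : M₂.e ss = M.e ss := by
    rcases zc_le_of M S hz hd' (s_mem_zc M₂ S hS₂ hd₂) with h1 | h1
    · exact absurd h1 (Pos.s_ne M₂)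
    · exact h1
  have hks : k * M.e ss * k⁻¹ = M.e ss := by
    rw [← hs2, ← Pos.na M₂]
    calc k * (M₂.e nn * M₂.e aa) * k⁻¹ = (k * M₂.e nn * k⁻¹) * (k * M₂.e aa * k⁻¹) := by group
      _ = M₂.e ss := by rw [hn, ha, Pos.na M, hs2]
      _ = M₂.e nn * M₂.e aa := (Pos.na M₂).symm
  have hms : (y * k) * M.e ss * (y * k)⁻¹ = M.e ss := by
    have h1 := (mem_normalizer_iff.1 (MinSimple.VModule.normalizer_le_normalizer_zc _ hm) _).1
      (s_mem_zc M S hS hd)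
    rcases zc_le_of M S hz hd' h1 with h2 | h2
    · exfalso
      apply Pos.s_ne M
      have := congrArg (fun w => (y * k)⁻¹ * w * (y * k)) h2
      simpa [mul_assoc] using this
    · exact h2
  have hys : y * M.e ss * y⁻¹ = M.e ss := by
    calc y * M.e ss * y⁻¹ = y * (k * M.e ss * k⁻¹) * y⁻¹ := by rw [hks]
      _ = (y * k) * M.e ss * (y * k)⁻¹ := by group
      _ = M.e ss := hms
  have hyn : y * M.e nn * y⁻¹ = M.e nn ∨ y * M.e nn * y⁻¹ = M.e aa := by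
    have h1 := (mem_normalizer_iff.1 hy (M.e nn)).1 ((hRmem _).2 (Or.inr (Or.inl rfl)))
    rcases (hRmem _).1 h1 with h2 | h2 | h2 | h2
    · exfalso
      apply Pos.n_ne M
      have := congrArg (fun w => y⁻¹ * w * y) h2
      simpa [mul_assoc] using this
    · exact Or.inl h2
    · exact Or.inr h2
    · exfalso
      rw [← hys] at h2
      exact Pos.n_ne_s M (mul_left_cancel (mul_right_cancel h2))
  -- the element `m`
  have hmex : ∃ m ∈ normalizer ((S : Subgroup G) : Set G), m * M₂.e nn * m⁻¹ = M.e nn ∧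
      m * M₂.e aa * m⁻¹ = M.e aa := by
    have hyk : ∀ z w : G, k * z * k⁻¹ = w → y * k * z * (y * k)⁻¹ = y * w * y⁻¹ := by
      intro z w h
      rw [← h]; group
    rcases hyn with h1 | h1
    · refine ⟨y * k, hm, ?_, ?_⟩
      · rw [hyk _ _ hn, h1]
      · rw [hyk _ _ ha, ← Pos.ns M]
        calc y * (M.e nn * M.e ss) * y⁻¹ = (y * M.e nn * y⁻¹) * (y * M.e ss * y⁻¹) := by group
          _ = M.e nn * M.e ss := by rw [h1, hys]
    · obtain ⟨g0, hg0, hi0⟩ := hd' tt (by decide)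
      refine ⟨g0 * (y * k), mul_mem (Subgroup.le_normalizer hg0) hm, ?_, ?_⟩
      · have e : g0 * (y * k) * M₂.e nn * (g0 * (y * k))⁻¹ =
            g0 * (y * k * M₂.e nn * (y * k)⁻¹) * g0⁻¹ := by group
        rw [e, hyk _ _ hn, h1, Pos.tt_a hi0]
      · have e : g0 * (y * k) * M₂.e aa * (g0 * (y * k))⁻¹ =
            g0 * (y * k * M₂.e aa * (y * k)⁻¹) * g0⁻¹ := by group
        have e2 : y * M.e aa * y⁻¹ = M.e nn := by
          rw [← Pos.ns M]
          calc y * (M.e nn * M.e ss) * y⁻¹ = (y * M.e nn * y⁻¹) * (y * M.e ss * y⁻¹) := by group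
            _ = M.e nn := by rw [h1, hys, Pos.as]
        rw [e, hyk _ _ ha, e2, Pos.tt_n hi0]
  obtain ⟨m, hmN, hmn, hma⟩ := hmex
  have hmS : ∀ x ∈ (S : Subgroup G), m⁻¹ * x * m ∈ (S : Subgroup G) := by
    intro x hx
    have h1 := (mem_normalizer_iff.1 (inv_mem hmN) x).1 hx
    rwa [inv_inv] at h1
  have hcjm : ∀ X : Subgroup G, cj (k * m⁻¹) (cj m X) = cj k X := by
    intro X
    rw [cj_cj]
    congr 2
    group
  have hind : ∀ {v : G} {p : Equiv.Perm (Fin 5)}, (M₂.cj k).Ind v p →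
      ((M₂.cj m).cj (k * m⁻¹)).Ind v p := by
    intro v p hp x
    have h1 := hp x
    rw [M₂.cj_e, M₂.cj_e] at h1
    change v * (k * m⁻¹ * (m * M₂.e x * m⁻¹) * (k * m⁻¹)⁻¹) * v⁻¹ =
      k * m⁻¹ * (m * M₂.e (x ∘ p.symm) * m⁻¹) * (k * m⁻¹)⁻¹
    have e : ∀ z : G, k * m⁻¹ * (m * z * m⁻¹) * (k * m⁻¹)⁻¹ = k * z * k⁻¹ := by
      intro z; group
    rw [e, e]
    exact h1
  refine Pos.false (S := S) (M := M) (M₂ := M₂.cj m) (h := k * m⁻¹)
    ⟨hG, hS, ?_, hz, hd, hd', ?_, hmn, hma, ?_, ?_, ?_, ?_, ?_⟩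
  · intro x hx
    rw [mem_cj]
    exact hS₂ (hmS x hx)
  · intro x hx p hp
    exact hd₂ _ (hmS x hx) p (FiveMod.ind_of_cj M₂ hp)
  · rw [← mul_inv_eq_iff_eq_mul]
    calc k * m⁻¹ * M.e nn * (k * m⁻¹)⁻¹ = k * (m⁻¹ * M.e nn * m) * k⁻¹ := by group
      _ = k * M₂.e nn * k⁻¹ := by rw [← hmn]; group
      _ = M.e nn := hn
  · rw [← mul_inv_eq_iff_eq_mul]
    calc k * m⁻¹ * M.e aa * (k * m⁻¹)⁻¹ = k * (m⁻¹ * M.e aa * m) * k⁻¹ := by group
      _ = k * M₂.e aa * k⁻¹ := by rw [← hma]; group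
      _ = M.e aa := ha
  · intro v hv
    rw [hcjm] at hv
    exact t1.act hv
  · intro v hv
    obtain ⟨p, hp, hi⟩ := t2.act hv
    exact ⟨p, hp, hind hi⟩
  · intro p hp
    obtain ⟨v, hv, hi⟩ := t1.sur t2 hp
    exact ⟨v, hv, hind hi⟩

/-- **A mutual pair `V`, `V₂ ^ g` of natural `O₄⁻(2)`-modules is of type T-T**: the elements of
`V₂ ^ g` act on `V` trivially or as transpositions. -/
theorem swap_of_pair [Finite G] (hG : IsCharacteristicTwoType G) (S : Sylow 2 G)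
    {V L V₂ L₂ : Subgroup G} (M : FiveMod V L) (M₂ : FiveMod V₂ L₂)
    (hS : (S : Subgroup G) ≤ L) (hS₂ : (S : Subgroup G) ≤ L₂) (hz : zc (S : Subgroup G) ≤ V)
    {g : G} (h1 : cj g V₂ ≤ L) (h2 : V ≤ cj g L₂) {w : G} (hw : w ∈ cj g V₂)
    {p : Equiv.Perm (Fin 5)} (hp : M.Ind w p) : p = 1 ∨ p.IsSwap := by
  by_contra hcon
  push Not at hcon
  obtain ⟨τ, hd, hd'⟩ := exists_relabel M S hS
  obtain ⟨τ₂, hd₂, -⟩ := exists_relabel M₂ S hS₂
  have hp' := FiveMod.relabel_ind τ hp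
  have hww : w * w = 1 := (M₂.cj g).sq hw
  have hpp : p * p = 1 := by
    have h3 := hp.mul hp
    rw [hww] at h3
    exact h3.unique M.ind_one
  have hpp' : (τ⁻¹ * p * τ) * (τ⁻¹ * p * τ) = 1 := by
    calc (τ⁻¹ * p * τ) * (τ⁻¹ * p * τ) = τ⁻¹ * (p * p) * τ := by group
      _ = 1 := by rw [hpp]; group
  have hp1' : τ⁻¹ * p * τ ≠ 1 := by
    intro h
    apply hcon.1
    have := congrArg (fun x => τ * x * τ⁻¹) h
    simpa [mul_assoc] using this
  have hps' : ¬ (τ⁻¹ * p * τ).IsSwap := by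
    intro h
    apply hcon.2
    obtain ⟨i, j, hij, hsw⟩ := h
    refine ⟨τ i, τ j, fun h => hij (τ.injective h), ?_⟩
    have e : p = τ * (τ⁻¹ * p * τ) * τ⁻¹ := by group
    rw [e, hsw, Equiv.swap_apply_apply]
  obtain ⟨σ, hσ⟩ := isConj_dd hpp' hp1' hps'
  -- replace `g` by `l g`
  obtain ⟨l, hlL, hl⟩ := (M.relabel τ).exists_lift σ⁻¹
  have hl' : (M.relabel τ).Ind l σ⁻¹ := hl
  have hlV := (M.relabel τ).le_normalizer hlL
  have hcjl : ∀ X : Subgroup G, cj (l * g) X = cj l (cj g X) := fun X => (cj_cj l g X).symm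
  have hVL : V ≤ cj (l * g) L₂ := by
    rw [hcjl, ← cj_eq_of_mem_normalizer hlV]
    exact cj_mono l h2
  have hV₂L : cj (l * g) V₂ ≤ L := by
    rw [hcjl, ← cj_eq_of_mem_normalizer (Subgroup.le_normalizer hlL : l ∈ normalizer (L : Set G))]
    exact cj_mono l h1
  have hind := (hl'.mul hp').mul hl'.inv
  rw [inv_inv, hσ] at hind
  refine false_of_dd hG S (M.relabel τ) (M₂.relabel τ₂) hS hS₂ hz hd hd' hd₂ (g := l * g) hVL
    ⟨?_, hV₂L, fun x hx y hy => (M₂.cj (l * g)).comm hx hy, l * w * l⁻¹, ?_, hind⟩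
  · exact hVL.trans (M₂.cj (l * g)).le_normalizer
  · rw [hcjl]
    exact ⟨w, hw, rfl⟩

/-! ### The index form -/

/-- `|W : C_W(X)| ≤ 2` -/
def TwoAct (W X : Subgroup G) : Prop := ∀ w ∈ W, ∀ w' ∈ W, w ∉ centralizer (X : Set G) →
  w' ∉ centralizer (X : Set G) → w⁻¹ * w' ∈ centralizer (X : Set G)

theorem TwoAct.relIndex_le [Finite G] {W X : Subgroup G} (h : TwoAct W X) :
    (centralizer (X : Set G)).relIndex W ≤ 2 := by
  by_cases h1 : ∃ w ∈ W, w ∉ centralizer (X : Set G)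
  · obtain ⟨w, hw, hwX⟩ := h1
    refine le_of_eq ?_
    rw [relIndex, index_eq_two_iff]
    refine ⟨(⟨w, hw⟩ : W)⁻¹, fun b => ?_⟩
    rw [mem_subgroupOf, mem_subgroupOf]
    change Xor ((b : G) * w⁻¹ ∈ centralizer (X : Set G)) ((b : G) ∈ centralizer (X : Set G))
    by_cases hb : (b : G) ∈ centralizer (X : Set G)
    · refine Or.inr ⟨hb, fun h2 => hwX ?_⟩
      have h3 := mul_mem (inv_mem h2) hb
      have e : ((b : G) * w⁻¹)⁻¹ * b = w := by group
      rwa [e] at h3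
    · refine Or.inl ⟨?_, hb⟩
      have h2 := h _ (inv_mem b.2) _ (inv_mem hw) (fun h3 => hb (inv_mem_iff.1 h3))
        (fun h3 => hwX (inv_mem_iff.1 h3))
      rwa [inv_inv] at h2
  · push Not at h1
    have h2 : (centralizer (X : Set G)).relIndex W = 1 := by
      rw [relIndex_eq_one]
      exact h1
    rw [h2]; norm_num

theorem TwoAct.cj {W X : Subgroup G} (h : TwoAct W X) (y : G) : TwoAct (cj y W) (cj y X) := by
  rintro _ ⟨w, hw, rfl⟩ _ ⟨w', hw', rfl⟩ h1 h2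
  have key : ∀ z : G, y * z * y⁻¹ ∈ centralizer ((ChoiceBase.cj y X : Subgroup G) : Set G) ↔
      z ∈ centralizer (X : Set G) := by
    intro z
    rw [← cj_centralizer, mem_cj]
    have e : y⁻¹ * (y * z * y⁻¹) * y = z := by group
    rw [e]
  change y * w * y⁻¹ ∉ _ at h1
  change y * w' * y⁻¹ ∉ _ at h2
  rw [key] at h1 h2
  have h3 := h w hw w' hw' h1 h2
  change (y * w * y⁻¹)⁻¹ * (y * w' * y⁻¹) ∈ _
  have e : (y * w * y⁻¹)⁻¹ * (y * w' * y⁻¹) = y * (w⁻¹ * w') * y⁻¹ := by group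
  rw [e, key]
  exact h3

/-- If all elements of `W` act on `V` as `1` or as transpositions, then `|W : C_W(V)| ≤ 2`. -/
theorem twoAct_of_swap {V W L : Subgroup G} (M : FiveMod V L) (hWL : W ≤ L)
    (hW : ∀ w ∈ W, ∀ p, M.Ind w p → p = 1 ∨ p.IsSwap) : TwoAct W V := by
  intro w hw w' hw' h1 h2
  obtain ⟨p, hp⟩ := M.exists_ind (hWL hw)
  obtain ⟨p', hp'⟩ := M.exists_ind (hWL hw')
  have hi : M.Ind (w⁻¹ * w') (p⁻¹ * p') := hp.inv.mul hp'
  have hs : p.IsSwap := by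
    rcases hW w hw p hp with rfl | h
    · exact absurd (FiveMod.ind_one_iff.1 hp) h1
    · exact h
  have hs' : p'.IsSwap := by
    rcases hW w' hw' p' hp' with rfl | h
    · exact absurd (FiveMod.ind_one_iff.1 hp') h2
    · exact h
  have hinv : p⁻¹ = p := by
    obtain ⟨i, j, -, rfl⟩ := hs
    exact Equiv.swap_inv i j
  rw [hinv] at hi
  by_cases hpp : p = p'
  · have e : p * p' = 1 := by rw [← hpp, mul_eq_one_iff_eq_inv, hinv]
    rw [e] at hi
    exact FiveMod.ind_one_iff.1 hi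
  · exfalso
    obtain ⟨h3, h4⟩ := not_swap_mul hs hs' hpp
    rcases hW _ (mul_mem (inv_mem hw) hw') _ hi with h5 | h5
    · exact h3 h5
    · exact h4 h5

/-- Moving a mutual pair into `S`, `S ^ g`. -/
theorem exists_good [Finite G] (S : Sylow 2 G) {V V₂ : Subgroup G}
    (hV : IsPGroup 2 V) (hV₂ : IsPGroup 2 V₂) (hS : (S : Subgroup G) ≤ normalizer (V : Set G))
    (hS₂ : (S : Subgroup G) ≤ normalizer (V₂ : Set G)) {g : G}
    (h1 : cj g V₂ ≤ normalizer (V : Set G)) (h2 : V ≤ normalizer ((cj g V₂ : Subgroup G) : Set G)) :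
    ∃ y ∈ normalizer (V : Set G), ∃ k : G, cj k V₂ = cj y (cj g V₂) ∧
      cj k V₂ ≤ (S : Subgroup G) ∧ V ≤ cj k (S : Subgroup G) := by
  obtain ⟨y, hy, hyS⟩ := exists_conj_le_sylow S _ _ hS (isPGroup_cj g hV₂) h1
  have h3 : cj (y * g) V₂ ≤ (S : Subgroup G) := by
    rw [← cj_cj]
    rintro _ ⟨x, hx, rfl⟩
    exact hyS x hx
  have h4 : V ≤ normalizer ((cj (y * g) V₂ : Subgroup G) : Set G) := by
    rw [← cj_cj, ← cj_normalizer, ← cj_eq_of_mem_normalizer hy]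
    exact cj_mono y h2
  have h5 : (((y * g) • S : Sylow 2 G) : Subgroup G) = cj (y * g) (S : Subgroup G) := by
    rw [Sylow.coe_subgroup_smul]; rfl
  have h6 : (((y * g) • S : Sylow 2 G) : Subgroup G) ≤
      normalizer ((cj (y * g) V₂ : Subgroup G) : Set G) := by
    rw [h5, ← cj_normalizer]
    exact cj_mono _ hS₂
  obtain ⟨c, hc, hcS⟩ := exists_conj_le_sylow ((y * g) • S) _ _ h6 hV h4
  refine ⟨y, hy, c⁻¹ * (y * g), ?_, ?_, ?_⟩
  · rw [← cj_cj, cj_eq_of_mem_normalizer (inv_mem hc), cj_cj]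
  · rw [← cj_cj, cj_eq_of_mem_normalizer (inv_mem hc)]
    exact h3
  · intro v hv
    rw [← cj_cj, mem_cj, inv_inv]
    have h7 := hcS v hv
    rw [h5] at h7
    exact h7

/-- **A mutual pair `V`, `V₂ ^ g` of natural `O₄⁻(2)`-modules is of type T-T** (index form). -/
theorem index_le_two [Finite G] (hG : IsCharacteristicTwoType G) (S : Sylow 2 G)
    {V L V₂ L₂ : Subgroup G} (M : FiveMod V L) (M₂ : FiveMod V₂ L₂)
    (hS : (S : Subgroup G) ≤ L) (hS₂ : (S : Subgroup G) ≤ L₂) (hz : zc (S : Subgroup G) ≤ V)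
    (hz₂ : zc (S : Subgroup G) ≤ V₂) {g : G} (h1 : cj g V₂ ≤ normalizer (V : Set G))
    (h2 : V ≤ normalizer ((cj g V₂ : Subgroup G) : Set G)) :
    TwoAct (cj g V₂) V ∧ TwoAct V (cj g V₂) := by
  obtain ⟨y, hy, k, hk, hkS, hVk⟩ := exists_good S M.isPGroup M₂.isPGroup
    (hS.trans M.le_normalizer) (hS₂.trans M₂.le_normalizer) h1 h2
  have ha : TwoAct (cj k V₂) V := twoAct_of_swap M (hkS.trans hS) fun w hw p hp =>
    swap_of_pair hG S M M₂ hS hS₂ hz (hkS.trans hS) (hVk.trans (cj_mono k hS₂)) hw hp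
  have hkV : cj k⁻¹ V ≤ L₂ := by
    rw [cj_le_iff, inv_inv]
    exact hVk.trans (cj_mono k hS₂)
  have hV₂k : V₂ ≤ cj k⁻¹ L := cj_le_iff.1 (hkS.trans hS)
  have hb : TwoAct (cj k⁻¹ V) V₂ := twoAct_of_swap M₂ hkV fun w hw p hp =>
    swap_of_pair hG S M₂ M hS₂ hS hz₂ hkV hV₂k hw hp
  have hb' := hb.cj k
  rw [cj_cj_inv, hk] at hb'
  rw [hk] at ha
  have hyV : cj y⁻¹ V = V := cj_eq_of_mem_normalizer (inv_mem hy)
  have ha' := ha.cj y⁻¹
  have hb'' := hb'.cj y⁻¹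
  rw [cj_inv_cj, hyV] at ha' hb''
  exact ⟨ha', hb''⟩

end Cfsg.Agent.Omega.S5.Types

end

section


/-!
# II.c: TT-TT for `EvenSet 5`

* `FiveMod.ofEven`: an `EvenSet 5 V L ε` is a `FiveMod V L` with `e = ε` (and conversely `FiveMod.even`);
* `EvenSet.index_le_two`: a mutual pair of two `EvenSet 5` modules over the same Sylow subgroup is of
  type T-T.
-/

set_option autoImplicit false

namespace Cfsg.Agent.Omega.S5.OfEven

open Subgroup Cfsg Cfsg.Agent.ZN Cfsg.Agent.ZN.ChoiceBase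
open Cfsg.Agent.Omega.S5.Mod Cfsg.Agent.Omega.S5.Def Cfsg.Agent.Omega.S5.Types

universe u

variable {G : Type u} [Group G] {V L V₂ L₂ : Subgroup G} {ε ε₂ : (Fin 5 → ZMod 2) → G}

/-- `EvenSet 5` as a `FiveMod`. -/
def ofEven (h : EvenSet 5 V L ε) : FiveMod V L where
  e := ε
  e_add := h.add
  ker := h.ker
  mem_iff g := ⟨fun hg => h.surj g hg, by rintro ⟨x, rfl⟩; exact h.mem x⟩
  act := h.perm
  lift := h.full

theorem ofEven_e (h : EvenSet 5 V L ε) : (ofEven h).e = ε := rfl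

theorem ofEven_ind (h : EvenSet 5 V L ε) {g : G} {p : Equiv.Perm (Fin 5)} :
    (ofEven h).Ind g p ↔ Acts ε g p := Iff.rfl

theorem even (M : FiveMod V L) : EvenSet 5 V L M.e where
  add := M.e_add
  mem := M.e_mem
  surj v hv := (M.mem_iff v).1 hv
  ker := M.ker
  perm := M.act
  full := M.lift

/-- **A mutual pair `V`, `V₂ ^ g` of `EvenSet 5` modules is of type T-T** (elementwise form,
`V₂ ^ g ≤ L`, `V ≤ L₂ ^ g`). -/
theorem swap_of_pair [Finite G] (hG : IsCharacteristicTwoType G) (S : Sylow 2 G)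
    (h : EvenSet 5 V L ε) (h₂ : EvenSet 5 V₂ L₂ ε₂) (hS : (S : Subgroup G) ≤ L)
    (hS₂ : (S : Subgroup G) ≤ L₂) (hz : zc (S : Subgroup G) ≤ V) {g : G} (h1 : cj g V₂ ≤ L)
    (h2 : V ≤ cj g L₂) {w : G} (hw : w ∈ cj g V₂) {p : Equiv.Perm (Fin 5)} (hp : Acts ε w p) :
    p = 1 ∨ p.IsSwap :=
  Types.swap_of_pair hG S (ofEven h) (ofEven h₂) hS hS₂ hz h1 h2 hw hp

/-- **A mutual pair `V`, `V₂ ^ g` of `EvenSet 5` modules is of type T-T** (index form: `TwoAct W X`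
says `|W : C_W(X)| ≤ 2`). -/
theorem index_le_two [Finite G] (hG : IsCharacteristicTwoType G) (S : Sylow 2 G)
    (h : EvenSet 5 V L ε) (h₂ : EvenSet 5 V₂ L₂ ε₂) (hS : (S : Subgroup G) ≤ L)
    (hS₂ : (S : Subgroup G) ≤ L₂) (hz : zc (S : Subgroup G) ≤ V) (hz₂ : zc (S : Subgroup G) ≤ V₂)
    {g : G} (h1 : cj g V₂ ≤ normalizer (V : Set G))
    (h2 : V ≤ normalizer ((cj g V₂ : Subgroup G) : Set G)) :
    TwoAct (cj g V₂) V ∧ TwoAct V (cj g V₂) :=
  Types.index_le_two hG S (ofEven h) (ofEven h₂) hS hS₂ hz hz₂ h1 h2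

end Cfsg.Agent.Omega.S5.OfEven

end
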