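import Mathlib
import Cfsg.Prelude.Def_CaseTheorems
import Cfsg.Agent.MinSimple.VModule

section


/-!
# II.c of project OMEGA: the even-subset module of degree `n`

`EvenSet n V L ε`: `V` is the permutation module `F₂ⁿ` modulo the all-one vector (for odd `n` this is the module of
the even subsets), written inside the ambient group by `ε`; every element of `L` permutes the coordinates, and every
permutation is induced by an element of `L`.  Labels: `ε (single i 1) = z_i` (= complement of the point `i`),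
`z_i z_j = n_ij`.  `Acts ε g σ`: the element `g` acts on `V` as the permutation `σ`.
-/

set_option autoImplicit false

namespace Cfsg.Agent.Omega.S5.Def

open Subgroup Pointwise

universe u

variable {G : Type u} [Group G]

/-- `g` acts on the labelled module as the permutation `σ` of the coordinates. -/
def Acts {n : ℕ} (ε : (Fin n → ZMod 2) → G) (g : G) (σ : Equiv.Perm (Fin n)) : Prop :=
  ∀ x, g * ε x * g⁻¹ = ε (x ∘ σ.symm)

/-- `V` is `F₂ⁿ` modulo the all-one vector, `L` acts as the full symmetric group on the coordinates. -/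
structure EvenSet (n : ℕ) (V L : Subgroup G) (ε : (Fin n → ZMod 2) → G) : Prop where
  add : ∀ x y, ε (x + y) = ε x * ε y
  mem : ∀ x, ε x ∈ V
  surj : ∀ v ∈ V, ∃ x, ε x = v
  ker : ∀ x, ε x = 1 ↔ x = 0 ∨ x = 1
  perm : ∀ g ∈ L, ∃ σ : Equiv.Perm (Fin n), Acts ε g σ
  full : ∀ σ : Equiv.Perm (Fin n), ∃ g ∈ L, Acts ε g σ

theorem add_self {n : ℕ} (x : Fin n → ZMod 2) : x + x = 0 :=
  funext fun i => CharTwo.add_self_eq_zero (x i)

theorem eq_of_add_eq_zero {n : ℕ} {x y : Fin n → ZMod 2} (h : x + y = 0) : x = y := by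
  calc x = x + (y + y) := by rw [add_self, add_zero]
    _ = x + y + y := (add_assoc _ _ _).symm
    _ = y := by rw [h, zero_add]

/-! ### `Acts` -/

section Acts

variable {n : ℕ} {ε : (Fin n → ZMod 2) → G} {g h : G} {σ τ : Equiv.Perm (Fin n)}

theorem Acts.one : Acts ε (1 : G) 1 := fun x => by
  rw [one_mul, inv_one, mul_one]
  rfl

theorem Acts.mul (hg : Acts ε g σ) (hh : Acts ε h τ) : Acts ε (g * h) (σ * τ) := fun x => by
  calc g * h * ε x * (g * h)⁻¹ = g * (h * ε x * h⁻¹) * g⁻¹ := by group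
    _ = g * ε (x ∘ τ.symm) * g⁻¹ := by rw [hh x]
    _ = ε ((x ∘ τ.symm) ∘ σ.symm) := hg _
    _ = ε (x ∘ (σ * τ).symm) := rfl

theorem Acts.inv (hg : Acts ε g σ) : Acts ε g⁻¹ σ⁻¹ := fun x => by
  have h1 := hg (x ∘ σ)
  have h2 : (x ∘ σ) ∘ σ.symm = x := by
    funext i
    simp
  rw [h2] at h1
  rw [← h1]
  have h3 : x ∘ (σ⁻¹).symm = x ∘ σ := rfl
  rw [h3]
  group

theorem Acts.conj (hg : Acts ε g σ) (hh : Acts ε h τ) : Acts ε (g * h * g⁻¹) (σ * τ * σ⁻¹) :=
  (hg.mul hh).mul hg.inv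

theorem Acts.single (hg : Acts ε g σ) (i : Fin n) :
    g * ε (Pi.single i 1) * g⁻¹ = ε (Pi.single (σ i) 1) := by
  rw [hg]
  congr 1
  funext j
  by_cases hj : j = σ i
  · subst hj
    simp
  · have h1 : σ.symm j ≠ i := fun h0 => hj (by rw [← h0, Equiv.apply_symm_apply])
    simp [Function.comp, hj, h1]

theorem Acts.conj_label (c : G) (hg : Acts ε g σ) :
    Acts (fun x => c * ε x * c⁻¹) (c * g * c⁻¹) σ := fun x => by
  calc c * g * c⁻¹ * (c * ε x * c⁻¹) * (c * g * c⁻¹)⁻¹ = c * (g * ε x * g⁻¹) * c⁻¹ := by group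
    _ = _ := by rw [hg x]

theorem acts_conj_label_iff (c : G) :
    Acts (fun x => c * ε x * c⁻¹) (c * g * c⁻¹) σ ↔ Acts ε g σ := by
  refine ⟨fun h x => ?_, fun h => h.conj_label c⟩
  have h1 := h x
  have h2 : c * (g * ε x * g⁻¹) * c⁻¹ = c * ε (x ∘ σ.symm) * c⁻¹ := by
    calc c * (g * ε x * g⁻¹) * c⁻¹ = c * g * c⁻¹ * (c * ε x * c⁻¹) * (c * g * c⁻¹)⁻¹ := by group
      _ = _ := h1
  exact mul_left_cancel (mul_right_cancel h2)

/-- relabelling: coordinate `i` is called `τ i`. -/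
theorem Acts.relabel (τ : Equiv.Perm (Fin n)) (hg : Acts ε g σ) :
    Acts (fun x => ε (x ∘ τ)) g (τ * σ * τ⁻¹) := fun x => by
  have h1 := hg (x ∘ τ)
  change g * ε (x ∘ τ) * g⁻¹ = ε ((x ∘ (τ * σ * τ⁻¹).symm) ∘ τ)
  rw [h1]
  congr 1
  funext i
  simp [Function.comp, Equiv.Perm.mul_def, Equiv.Perm.inv_def]

end Acts

/-! ### Elementary facts -/

namespace EvenSet

variable {n : ℕ} {V L : Subgroup G} {ε : (Fin n → ZMod 2) → G} (h : EvenSet n V L ε)
include h

theorem zero : ε 0 = 1 := (h.ker 0).mpr (Or.inl rfl)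

theorem one : ε 1 = 1 := (h.ker 1).mpr (Or.inr rfl)

theorem comm (x y : Fin n → ZMod 2) : ε x * ε y = ε y * ε x := by
  rw [← h.add, ← h.add, add_comm]

theorem sq (x : Fin n → ZMod 2) : ε x * ε x = 1 := by
  rw [← h.add, add_self, h.zero]

theorem inv (x : Fin n → ZMod 2) : (ε x)⁻¹ = ε x := inv_eq_of_mul_eq_one_left (h.sq x)

theorem comm_mem {v w : G} (hv : v ∈ V) (hw : w ∈ V) : v * w = w * v := by
  obtain ⟨x, rfl⟩ := h.surj v hv
  obtain ⟨y, rfl⟩ := h.surj w hw
  exact h.comm x y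

theorem sq_mem {v : G} (hv : v ∈ V) : v * v = 1 := by
  obtain ⟨x, rfl⟩ := h.surj v hv
  exact h.sq x

theorem eq_iff {x y : Fin n → ZMod 2} : ε x = ε y ↔ x = y ∨ x = y + 1 := by
  constructor
  · intro h0
    have h1 : ε (x + y) = 1 := by rw [h.add, h0, h.sq]
    rcases (h.ker _).mp h1 with h2 | h2
    · exact Or.inl (eq_of_add_eq_zero h2)
    · right
      rw [← h2, add_comm x y, ← add_assoc, add_self, zero_add]
  · rintro (rfl | rfl)
    · rfl
    · rw [h.add, h.one, mul_one]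

theorem le_normalizer : L ≤ normalizer (V : Set G) := by
  intro g hg
  have key : ∀ g ∈ L, ∀ v ∈ V, g * v * g⁻¹ ∈ V := by
    intro g hg v hv
    obtain ⟨x, rfl⟩ := h.surj v hv
    obtain ⟨σ, hσ⟩ := h.perm g hg
    rw [hσ x]
    exact h.mem _
  rw [mem_normalizer_iff]
  refine fun v => ⟨key g hg v, fun hv => ?_⟩
  have h1 := key g⁻¹ (L.inv_mem hg) _ hv
  have h2 : g⁻¹ * (g * v * g⁻¹) * g⁻¹⁻¹ = v := by group
  rwa [h2] at h1

theorem isPGroup : IsPGroup 2 V := by
  intro v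
  refine ⟨1, ?_⟩
  rw [pow_one, pow_two]
  exact Subtype.ext (h.sq_mem v.2)

/-- The points are different and not trivial (`3 ≤ n`). -/
theorem single_inj (hn : 3 ≤ n) {i j : Fin n} (hij : ε (Pi.single i 1) = ε (Pi.single j 1)) : i = j := by
  by_contra hne
  rcases h.eq_iff.mp hij with h1 | h1
  · have h2 := congrFun h1 i
    rw [Pi.single_eq_same, Pi.single_eq_of_ne hne] at h2
    exact one_ne_zero h2
  · have hcard : ({i, j} : Finset (Fin n)).card < (Finset.univ : Finset (Fin n)).card := by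
      rw [Finset.card_univ, Fintype.card_fin]
      exact lt_of_le_of_lt Finset.card_le_two (by omega)
    obtain ⟨k, -, hk⟩ := Finset.exists_mem_notMem_of_card_lt_card hcard
    simp only [Finset.mem_insert, Finset.mem_singleton, not_or] at hk
    have h2 := congrFun h1 k
    rw [Pi.add_apply, Pi.single_eq_of_ne hk.1, Pi.single_eq_of_ne hk.2, zero_add, Pi.one_apply] at h2
    exact zero_ne_one h2

theorem single_ne_one (hn : 3 ≤ n) (i : Fin n) : ε (Pi.single i 1) ≠ 1 := by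
  intro h0
  rcases (h.ker _).mp h0 with h1 | h1
  · have h2 := congrFun h1 i
    rw [Pi.single_eq_same] at h2
    exact one_ne_zero h2
  · have hcard : ({i} : Finset (Fin n)).card < (Finset.univ : Finset (Fin n)).card := by
      rw [Finset.card_univ, Fintype.card_fin, Finset.card_singleton]
      omega
    obtain ⟨k, -, hk⟩ := Finset.exists_mem_notMem_of_card_lt_card hcard
    rw [Finset.mem_singleton] at hk
    have h2 := congrFun h1 k
    rw [Pi.single_eq_of_ne hk, Pi.one_apply] at h2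
    exact zero_ne_one h2

/-- The permutation is determined (`3 ≤ n`). -/
theorem acts_unique (hn : 3 ≤ n) {g : G} {σ τ : Equiv.Perm (Fin n)} (hσ : Acts ε g σ) (hτ : Acts ε g τ) :
    σ = τ := by
  ext i
  congr 1
  refine h.single_inj hn ?_
  rw [← hσ.single, ← hτ.single]

/-- An element acting as the identity centralises `V`. -/
theorem acts_one_iff {g : G} : Acts ε g 1 ↔ g ∈ centralizer (V : Set G) := by
  rw [mem_centralizer_iff]
  constructor
  · intro h1 v hv
    obtain ⟨x, rfl⟩ := h.surj v hv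
    have h2 : g * ε x * g⁻¹ = ε x := h1 x
    calc ε x * g = g * ε x * g⁻¹ * g := by rw [h2]
      _ = g * ε x := by group
  · intro h1 x
    change g * ε x * g⁻¹ = ε x
    rw [← h1 _ (h.mem x), mul_inv_cancel_right]

/-- Two elements acting as the same permutation differ by an element of `C(V)`. -/
theorem mem_centralizer_of_acts {g k : G} {σ : Equiv.Perm (Fin n)} (hg : Acts ε g σ) (hk : Acts ε k σ) :
    k⁻¹ * g ∈ centralizer (V : Set G) := by
  rw [← h.acts_one_iff, ← inv_mul_cancel σ]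
  exact hk.inv.mul hg

theorem fixes_iff (hn : 3 ≤ n) {g : G} {σ : Equiv.Perm (Fin n)} (hσ : Acts ε g σ) (i : Fin n) :
    g * ε (Pi.single i 1) = ε (Pi.single i 1) * g ↔ σ i = i := by
  constructor
  · intro h1
    refine h.single_inj hn ?_
    rw [← hσ.single, h1, mul_inv_cancel_right]
  · intro h1
    have h2 := hσ.single i
    rw [h1] at h2
    calc g * ε (Pi.single i 1) = g * ε (Pi.single i 1) * g⁻¹ * g := by group
      _ = _ := by rw [h2]

/-- The same module for a larger or smaller group with the same image. -/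
theorem change {L' : Subgroup G} (h1 : ∀ g ∈ L', ∃ σ, Acts ε g σ)
    (h2 : ∀ σ : Equiv.Perm (Fin n), ∃ g ∈ L', Acts ε g σ) : EvenSet n V L' ε :=
  ⟨h.add, h.mem, h.surj, h.ker, h1, h2⟩

/-- Relabelling. -/
theorem relabel (τ : Equiv.Perm (Fin n)) : EvenSet n V L (fun x => ε (x ∘ τ)) where
  add x y := h.add (x ∘ τ) (y ∘ τ)
  mem x := h.mem _
  surj v hv := by
    obtain ⟨x, rfl⟩ := h.surj v hv
    refine ⟨x ∘ τ.symm, congrArg ε ?_⟩
    funext i
    simp
  ker x := by
    rw [h.ker]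
    constructor
    · rintro (h1 | h1)
      · left
        funext i
        have h2 := congrFun h1 (τ.symm i)
        simpa using h2
      · right
        funext i
        have h2 := congrFun h1 (τ.symm i)
        simpa using h2
    · rintro (rfl | rfl)
      · left
        rfl
      · right
        rfl
  perm g hg := by
    obtain ⟨σ, hσ⟩ := h.perm g hg
    exact ⟨_, hσ.relabel τ⟩
  full σ := by
    obtain ⟨g, hg, hσ⟩ := h.full (τ⁻¹ * σ * τ)
    refine ⟨g, hg, ?_⟩
    have h1 := hσ.relabel τ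
    have h2 : τ * (τ⁻¹ * σ * τ) * τ⁻¹ = σ := by group
    rwa [h2] at h1

omit [Group G] h in
theorem relabel_single (τ : Equiv.Perm (Fin n)) (i : Fin n) :
    (fun x => ε (x ∘ τ)) (Pi.single (τ i) 1) = ε (Pi.single i 1) := by
  change ε ((Pi.single (τ i) 1 : Fin n → ZMod 2) ∘ τ) = _
  congr 1
  funext j
  by_cases hj : j = i
  · subst hj
    simp
  · have h1 : τ j ≠ τ i := fun h0 => hj (τ.injective h0)
    simp [hj, h1]

/-- Conjugation. -/
theorem conj (c : G) : EvenSet n (MulAut.conj c • V) (MulAut.conj c • L) (fun x => c * ε x * c⁻¹) where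
  add x y := by
    rw [h.add]
    group
  mem x := smul_mem_pointwise_smul _ _ _ (h.mem x)
  surj v hv := by
    obtain ⟨w, hw, rfl⟩ := mem_smul_pointwise_iff_exists _ _ _ |>.mp hv
    obtain ⟨x, rfl⟩ := h.surj w hw
    exact ⟨x, rfl⟩
  ker x := by
    rw [← h.ker, mul_inv_eq_one, mul_eq_left]
  perm g hg := by
    obtain ⟨k, hk, rfl⟩ := mem_smul_pointwise_iff_exists _ _ _ |>.mp hg
    obtain ⟨σ, hσ⟩ := h.perm k hk
    exact ⟨σ, hσ.conj_label c⟩
  full σ := by
    obtain ⟨g, hg, hσ⟩ := h.full σ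
    exact ⟨c * g * c⁻¹, smul_mem_pointwise_smul _ _ _ hg, hσ.conj_label c⟩

/-! ### The homomorphism to the symmetric group -/

/-- The permutation induced by `g ∈ L`. -/
noncomputable def sg {g : G} (hg : g ∈ L) : Equiv.Perm (Fin n) := (h.perm g hg).choose

theorem sg_acts {g : G} (hg : g ∈ L) : Acts ε g (h.sg hg) := (h.perm g hg).choose_spec

theorem sg_eq (hn : 3 ≤ n) {g : G} (hg : g ∈ L) {σ : Equiv.Perm (Fin n)} (hσ : Acts ε g σ) : h.sg hg = σ :=
  h.acts_unique hn (h.sg_acts hg) hσ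

/-- The homomorphism `L → Sym(n)`. -/
noncomputable def hom (hn : 3 ≤ n) : L →* Equiv.Perm (Fin n) where
  toFun g := h.sg g.2
  map_one' := h.sg_eq hn _ Acts.one
  map_mul' a b := h.sg_eq hn _ ((h.sg_acts a.2).mul (h.sg_acts b.2))

theorem acts_hom (hn : 3 ≤ n) (g : L) : Acts ε (g : G) (h.hom hn g) := h.sg_acts g.2

theorem hom_eq (hn : 3 ≤ n) {g : L} {σ : Equiv.Perm (Fin n)} (hσ : Acts ε (g : G) σ) : h.hom hn g = σ :=
  h.sg_eq hn g.2 hσ

theorem hom_surjective (hn : 3 ≤ n) : Function.Surjective (h.hom hn) := by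
  intro σ
  obtain ⟨g, hg, hσ⟩ := h.full σ
  exact ⟨⟨g, hg⟩, h.hom_eq hn hσ⟩

end EvenSet

end Cfsg.Agent.Omega.S5.Def

end

section


/-!
# OMEGA N6 (`S_n` on even subsets, T-T), #13256 / #14431: the common structure

`zz ε i` is the point `i` (complement of `i`), `rr ε i j = zz ε i * zz ε j` the pair `{i, j}`,
`NN ε i j = C_G(r_ij)`, `WW V ε i j = ⟨V ^ NN⟩`, `UU ε i j = ⟨(zz ε k) ^ NN, k ≠ i, j⟩`.
-/

set_option autoImplicit false
set_option linter.dupNamespace false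

namespace Cfsg.Agent.Omega.NSix.Base

open Subgroup Cfsg.Agent.Omega.S5.Def

universe u

variable {G : Type u} [Group G] {n : ℕ}

/-- the point `i` -/
def zz (ε : (Fin n → ZMod 2) → G) (i : Fin n) : G := ε (Pi.single i 1)

/-- the pair `{i, j}` -/
def rr (ε : (Fin n → ZMod 2) → G) (i j : Fin n) : G := zz ε i * zz ε j

/-- `N_ij = C_G(r_ij)` -/
def NN (ε : (Fin n → ZMod 2) → G) (i j : Fin n) : Subgroup G := centralizer {rr ε i j}

/-- `W_ij = ⟨V ^ N_ij⟩` -/
def WW (V : Subgroup G) (ε : (Fin n → ZMod 2) → G) (i j : Fin n) : Subgroup G :=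
  closure {x | ∃ g ∈ NN ε i j, ∃ v ∈ V, x = g * v * g⁻¹}

/-- `U_ij = ⟨(r_ij^⊥) ^ N_ij⟩` -/
def UU (ε : (Fin n → ZMod 2) → G) (i j : Fin n) : Subgroup G :=
  closure {x | ∃ g ∈ NN ε i j, ∃ k, k ≠ i ∧ k ≠ j ∧ x = g * zz ε k * g⁻¹}

/-- the output of (0): `W i j` is a normal subgroup of `N_ij` over `V` with
`[O₂(N_ij), W_ij] ≤ ⟨r_ij⟩`, e.g. `WW V ε i j` -/
structure Base (V L : Subgroup G) (ε : (Fin n → ZMod 2) → G) (W : Fin n → Fin n → Subgroup G) :
    Prop where
  ev : EvenSet n V L ε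
  Vle : ∀ i j, i ≠ j → V ≤ W i j
  wn : ∀ i j, i ≠ j → ∀ g ∈ NN ε i j, ∀ x ∈ W i j, g * x * g⁻¹ ∈ W i j
  wc : ∀ (g : G) (σ : Equiv.Perm (Fin n)), Acts ε g σ → ∀ i j, i ≠ j → ∀ x ∈ W i j,
    g * x * g⁻¹ ∈ W (σ i) (σ j)
  cen : ∀ i j, i ≠ j → ∀ u ∈ UU ε i j, ∀ w ∈ W i j, u * w = w * u
  act : ∀ i j, i ≠ j → ∀ w ∈ W i j, Acts ε w 1 ∨ Acts ε w (Equiv.swap i j)
  mov : ∀ i j, i ≠ j → ∃ w ∈ W i j, Acts ε w (Equiv.swap i j)
  tra : ∀ i j k l, i ≠ j → k ≠ l → i ≠ k → i ≠ l → j ≠ k → j ≠ l → ∀ u ∈ UU ε i j,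
    ∀ w ∈ W k l, w * u * w⁻¹ = u ∨ w * u * w⁻¹ = u * rr ε k l

end Cfsg.Agent.Omega.NSix.Base

end

section


/-!
# OMEGA N6: elementary facts on `zz`, `rr`, `NN`, `WW`, `UU`
-/

set_option autoImplicit false

namespace Cfsg.Agent.Omega.NSix.Basic

open Subgroup Cfsg.Agent.Omega.S5.Def Cfsg.Agent.Omega.NSix.Base

universe u

variable {G : Type u} [Group G] {n : ℕ} {V L : Subgroup G} {ε : (Fin n → ZMod 2) → G}

theorem exists_perm {ι : Type*} [DecidableEq ι] {k l k' l' : ι} (h : k ≠ l) (h' : k' ≠ l') :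
    ∃ σ : Equiv.Perm ι, σ k = k' ∧ σ l = l' ∧
      ∀ i, i ≠ k → i ≠ l → i ≠ k' → i ≠ l' → σ i = i := by
  have h0 : Equiv.swap k k' l ≠ k' := by
    intro h1
    have h2 : Equiv.swap k k' l = Equiv.swap k k' k := by rw [h1, Equiv.swap_apply_left]
    exact h ((Equiv.swap k k').injective h2).symm
  refine ⟨Equiv.swap (Equiv.swap k k' l) l' * Equiv.swap k k', ?_, ?_, ?_⟩
  · rw [Equiv.Perm.mul_apply, Equiv.swap_apply_left, Equiv.swap_apply_of_ne_of_ne h0.symm h']
  · rw [Equiv.Perm.mul_apply, Equiv.swap_apply_left]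
  · intro i h1 h2 h3 h4
    rw [Equiv.Perm.mul_apply, Equiv.swap_apply_of_ne_of_ne h1 h3]
    apply Equiv.swap_apply_of_ne_of_ne _ h4
    by_cases e1 : l = k'
    · rw [e1, Equiv.swap_apply_right]; exact h1
    · rw [Equiv.swap_apply_of_ne_of_ne h.symm e1]; exact h2

section

variable (h : EvenSet n V L ε)
include h

theorem zz_mem (i : Fin n) : zz ε i ∈ V := h.mem _

theorem zz_comm (i j : Fin n) : zz ε i * zz ε j = zz ε j * zz ε i := h.comm _ _

theorem zz_sq (i : Fin n) : zz ε i * zz ε i = 1 := h.sq _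

theorem zz_inv (i : Fin n) : (zz ε i)⁻¹ = zz ε i := h.inv _

theorem rr_mem (i j : Fin n) : rr ε i j ∈ V := V.mul_mem (h.mem _) (h.mem _)

theorem rr_symm (i j : Fin n) : rr ε i j = rr ε j i := h.comm _ _

theorem rr_sq (i j : Fin n) : rr ε i j * rr ε i j = 1 := h.sq_mem (rr_mem h i j)

theorem rr_inv (i j : Fin n) : (rr ε i j)⁻¹ = rr ε i j := inv_eq_of_mul_eq_one_left (rr_sq h i j)

theorem rr_add (i j k : Fin n) : rr ε i j * rr ε j k = rr ε i k := by
  unfold rr
  rw [mul_assoc, ← mul_assoc (zz ε j), zz_sq h, one_mul]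

theorem rr_ne_one (hn : 3 ≤ n) {i j : Fin n} (hij : i ≠ j) : rr ε i j ≠ 1 := by
  intro h0
  apply hij
  apply h.single_inj hn
  have h1 : zz ε i * zz ε j = 1 := h0
  rw [← mul_inv_eq_one]
  change zz ε i * (zz ε j)⁻¹ = 1
  rw [zz_inv h, h1]

theorem zz_ne_one (hn : 3 ≤ n) (i : Fin n) : zz ε i ≠ 1 := h.single_ne_one hn i

theorem NN_symm (i j : Fin n) : NN ε i j = NN ε j i := by
  unfold NN
  rw [rr_symm h]

theorem WW_symm (i j : Fin n) : WW V ε i j = WW V ε j i := by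
  unfold WW
  rw [NN_symm h]

theorem UU_symm (i j : Fin n) : UU ε i j = UU ε j i := by
  unfold UU
  rw [NN_symm h]
  congr 1
  ext x
  constructor
  · rintro ⟨g, hg, k, h1, h2, h3⟩
    exact ⟨g, hg, k, h2, h1, h3⟩
  · rintro ⟨g, hg, k, h1, h2, h3⟩
    exact ⟨g, hg, k, h2, h1, h3⟩

end

theorem zz_conj {g : G} {σ : Equiv.Perm (Fin n)} (hg : Acts ε g σ) (i : Fin n) :
    g * zz ε i * g⁻¹ = zz ε (σ i) := hg.single i

theorem rr_conj {g : G} {σ : Equiv.Perm (Fin n)} (hg : Acts ε g σ) (i j : Fin n) :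
    g * rr ε i j * g⁻¹ = rr ε (σ i) (σ j) := by
  unfold rr
  rw [← zz_conj hg, ← zz_conj hg]
  group

theorem mem_NN {i j : Fin n} {g : G} : g ∈ NN ε i j ↔ g * rr ε i j = rr ε i j * g := by
  unfold NN
  rw [mem_centralizer_singleton_iff]

theorem mem_NN' {i j : Fin n} {g : G} : g ∈ NN ε i j ↔ g * rr ε i j * g⁻¹ = rr ε i j := by
  rw [mem_NN, mul_inv_eq_iff_eq_mul]

theorem conj_NN {g x : G} {σ : Equiv.Perm (Fin n)} (hg : Acts ε g σ) {i j : Fin n}
    (hx : x ∈ NN ε i j) : g * x * g⁻¹ ∈ NN ε (σ i) (σ j) := by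
  rw [mem_NN'] at hx ⊢
  rw [← rr_conj hg]
  calc g * x * g⁻¹ * (g * rr ε i j * g⁻¹) * (g * x * g⁻¹)⁻¹
      = g * (x * rr ε i j * x⁻¹) * g⁻¹ := by group
    _ = _ := by rw [hx]

theorem V_le_WW (i j : Fin n) : V ≤ WW V ε i j := fun v hv =>
  subset_closure ⟨1, one_mem _, v, hv, by group⟩

theorem WW_normal {i j : Fin n} {g x : G} (hg : g ∈ NN ε i j) (hx : x ∈ WW V ε i j) :
    g * x * g⁻¹ ∈ WW V ε i j := by
  unfold WW at hx ⊢
  induction hx using closure_induction with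
  | mem x hx =>
    obtain ⟨k, hk, v, hv, rfl⟩ := hx
    exact subset_closure ⟨g * k, mul_mem hg hk, v, hv, by group⟩
  | one => rw [mul_one, mul_inv_cancel]; exact one_mem _
  | mul x y _ _ hx hy =>
    have : g * (x * y) * g⁻¹ = (g * x * g⁻¹) * (g * y * g⁻¹) := by group
    rw [this]; exact mul_mem hx hy
  | inv x _ hx =>
    have : g * x⁻¹ * g⁻¹ = (g * x * g⁻¹)⁻¹ := by group
    rw [this]; exact inv_mem hx

theorem WW_conj {i j : Fin n} {g x : G} (hg : g ∈ normalizer (V : Set G))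
    {σ : Equiv.Perm (Fin n)} (hs : Acts ε g σ) (hx : x ∈ WW V ε i j) :
    g * x * g⁻¹ ∈ WW V ε (σ i) (σ j) := by
  unfold WW at hx ⊢
  induction hx using closure_induction with
  | mem x hx =>
    obtain ⟨k, hk, v, hv, rfl⟩ := hx
    exact subset_closure ⟨g * k * g⁻¹, conj_NN hs hk, g * v * g⁻¹,
      (mem_normalizer_iff.mp hg v).mp hv, by group⟩
  | one => rw [mul_one, mul_inv_cancel]; exact one_mem _
  | mul x y _ _ hx hy =>
    have : g * (x * y) * g⁻¹ = (g * x * g⁻¹) * (g * y * g⁻¹) := by group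
    rw [this]; exact mul_mem hx hy
  | inv x _ hx =>
    have : g * x⁻¹ * g⁻¹ = (g * x * g⁻¹)⁻¹ := by group
    rw [this]; exact inv_mem hx

theorem zz_mem_UU {i j k : Fin n} (h1 : k ≠ i) (h2 : k ≠ j) : zz ε k ∈ UU ε i j :=
  subset_closure ⟨1, one_mem _, k, h1, h2, by group⟩

theorem rr_mem_UU {i j k l : Fin n} (h1 : k ≠ i) (h2 : k ≠ j) (h3 : l ≠ i) (h4 : l ≠ j) :
    rr ε k l ∈ UU ε i j := mul_mem (zz_mem_UU h1 h2) (zz_mem_UU h3 h4)

theorem UU_normal {i j : Fin n} {g x : G} (hg : g ∈ NN ε i j) (hx : x ∈ UU ε i j) :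
    g * x * g⁻¹ ∈ UU ε i j := by
  unfold UU at hx ⊢
  induction hx using closure_induction with
  | mem x hx =>
    obtain ⟨k, hk, l, h1, h2, rfl⟩ := hx
    exact subset_closure ⟨g * k, mul_mem hg hk, l, h1, h2, by group⟩
  | one => rw [mul_one, mul_inv_cancel]; exact one_mem _
  | mul x y _ _ hx hy =>
    have : g * (x * y) * g⁻¹ = (g * x * g⁻¹) * (g * y * g⁻¹) := by group
    rw [this]; exact mul_mem hx hy
  | inv x _ hx =>
    have : g * x⁻¹ * g⁻¹ = (g * x * g⁻¹)⁻¹ := by group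
    rw [this]; exact inv_mem hx

theorem UU_conj {i j : Fin n} {g x : G} {σ : Equiv.Perm (Fin n)} (hs : Acts ε g σ)
    (hx : x ∈ UU ε i j) : g * x * g⁻¹ ∈ UU ε (σ i) (σ j) := by
  unfold UU at hx ⊢
  induction hx using closure_induction with
  | mem x hx =>
    obtain ⟨k, hk, l, h1, h2, rfl⟩ := hx
    refine subset_closure ⟨g * k * g⁻¹, conj_NN hs hk, σ l, fun h0 => h1 (σ.injective h0),
      fun h0 => h2 (σ.injective h0), ?_⟩
    rw [← zz_conj hs]
    group
  | one => rw [mul_one, mul_inv_cancel]; exact one_mem _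
  | mul x y _ _ hx hy =>
    have : g * (x * y) * g⁻¹ = (g * x * g⁻¹) * (g * y * g⁻¹) := by group
    rw [this]; exact mul_mem hx hy
  | inv x _ hx =>
    have : g * x⁻¹ * g⁻¹ = (g * x * g⁻¹)⁻¹ := by group
    rw [this]; exact inv_mem hx

theorem UU_le_WW (h : EvenSet n V L ε) (i j : Fin n) : UU ε i j ≤ WW V ε i j := by
  unfold UU
  rw [closure_le]
  rintro x ⟨g, hg, k, -, -, rfl⟩
  exact WW_normal hg (V_le_WW i j (zz_mem h k))

/-- an element acting as a permutation normalises `V` -/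
theorem acts_norm (h : EvenSet n V L ε) {g : G} {σ : Equiv.Perm (Fin n)} (hg : Acts ε g σ) :
    g ∈ normalizer (V : Set G) := by
  have key : ∀ {g : G} {σ : Equiv.Perm (Fin n)}, Acts ε g σ → ∀ v ∈ V, g * v * g⁻¹ ∈ V := by
    intro g σ hg v hv
    obtain ⟨x, rfl⟩ := h.surj v hv
    rw [hg x]
    exact h.mem _
  rw [mem_normalizer_iff]
  refine fun v => ⟨key hg v, fun hv => ?_⟩
  have h1 := key hg.inv _ hv
  have h2 : g⁻¹ * (g * v * g⁻¹) * g⁻¹⁻¹ = v := by group
  rwa [h2] at h1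

section W

variable {W : Fin n → Fin n → Subgroup G}

theorem uu_le_w (b : Base V L ε W) {i j : Fin n} (hij : i ≠ j) : UU ε i j ≤ W i j := by
  unfold UU
  rw [closure_le]
  rintro x ⟨g, hg, k, -, -, rfl⟩
  exact b.wn i j hij g hg _ (b.Vle i j hij (zz_mem b.ev k))

theorem w_symm (b : Base V L ε W) {i j : Fin n} (hij : i ≠ j) : W i j = W j i := by
  have key : ∀ i j, i ≠ j → W i j ≤ W j i := by
    intro i j hij x hx
    obtain ⟨g, -, hg⟩ := b.ev.full (Equiv.swap i j)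
    have h1 : g ∈ NN ε i j := by
      rw [mem_NN', rr_conj hg, Equiv.swap_apply_left, Equiv.swap_apply_right, rr_symm b.ev]
    have h2 := b.wn i j hij _ (inv_mem h1) x hx
    have h3 := b.wc g _ hg i j hij _ h2
    rw [Equiv.swap_apply_left, Equiv.swap_apply_right] at h3
    have h4 : g * (g⁻¹ * x * g⁻¹⁻¹) * g⁻¹ = x := by group
    rwa [h4] at h3
  exact le_antisymm (key i j hij) (key j i hij.symm)

end W

/-! ### sums -/

/-- `r_ij` is the product of the points different from `i`, `j`. -/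
theorem compl_rr (h : EvenSet n V L ε) {i j : Fin n} (hij : i ≠ j) (P : ℕ → G → Prop)
    (h0 : P 0 1)
    (hs : ∀ k, k ≠ i → k ≠ j → ∀ t x, P t x → P (t + 1) (zz ε k * x)) :
    P (n - 2) (rr ε i j) := by
  have key : ∀ S : Finset (Fin n), i ∉ S → j ∉ S →
      P S.card (ε (∑ k ∈ S, Pi.single k 1)) := by
    intro S
    induction S using Finset.induction_on with
    | empty =>
      intro _ _
      rw [Finset.sum_empty, h.zero, Finset.card_empty]
      exact h0
    | insert k S hk ih =>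
      intro h1 h2
      rw [Finset.mem_insert, not_or] at h1 h2
      rw [Finset.sum_insert hk, h.add, Finset.card_insert_of_notMem hk]
      exact hs k (Ne.symm h1.1) (Ne.symm h2.1) _ _ (ih h1.2 h2.2)
  have h1 := key (Finset.univ \ {i, j}) (by simp) (by simp)
  have h2 : (Finset.univ \ {i, j} : Finset (Fin n)).card = n - 2 := by
    rw [Finset.card_sdiff_of_subset (Finset.subset_univ _), Finset.card_univ, Fintype.card_fin,
      Finset.card_pair hij]
  rw [h2] at h1
  have h3 : ε (∑ k ∈ Finset.univ \ {i, j}, Pi.single k 1) = rr ε i j := by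
    change _ = ε _ * ε _
    rw [← h.add, h.eq_iff]
    right
    funext m
    rw [Finset.sum_apply, Pi.add_apply, Pi.add_apply, Pi.one_apply]
    by_cases hm : m = i
    · subst hm
      rw [Pi.single_eq_same, Pi.single_eq_of_ne hij, Finset.sum_eq_zero]
      · decide
      · intro k hk
        have : m ≠ k := by rintro rfl; simp at hk
        exact Pi.single_eq_of_ne this _
    by_cases hm' : m = j
    · subst hm'
      rw [Pi.single_eq_same, Pi.single_eq_of_ne hm, Finset.sum_eq_zero]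
      · decide
      · intro k hk
        have : m ≠ k := by rintro rfl; simp at hk
        exact Pi.single_eq_of_ne this _
    · rw [Pi.single_eq_of_ne hm, Pi.single_eq_of_ne hm', Finset.sum_eq_single m]
      · rw [Pi.single_eq_same]; decide
      · intro k _ hk
        exact Pi.single_eq_of_ne (Ne.symm hk) _
      · intro h0
        exfalso
        apply h0
        simp [hm, hm']
  rwa [h3] at h1

theorem rr_self_mem_UU (h : EvenSet n V L ε) {i j : Fin n} (hij : i ≠ j) :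
    rr ε i j ∈ UU ε i j :=
  compl_rr h hij (fun _ x => x ∈ UU ε i j) (one_mem _)
    fun _ h1 h2 _ _ hx => mul_mem (zz_mem_UU h1 h2) hx

end Cfsg.Agent.Omega.NSix.Basic

end

section


/-!
# OMEGA N6 (`S_n` on even subsets, T-T): sets of transvections, #13256 (helper140), (1)-(3)

`Sys K F`: `K` is a set of vectors of the `F₂`-space `U`, `F c` (for `c ∈ K`) is a space of
functionals vanishing at `c` (the transvections `u ↦ u + f u • c`, `f ∈ F c`), no `F d` is properly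
contained in `F c` (equal dimensions), and a transvection `t(d, g)` which fixes `c` normalises the
group of transvections with centre `c` (`star`).

* `Sys.sym`: `F c` does not vanish at `d` ⇒ `F d` does not vanish at `c`;
* `Sys.le`: then the members of `F d` vanishing at `c` are in `F c`;
* `Sys.nonadj`: `c`, `c'` not adjacent, `d` adjacent to both ⇒ `F d` vanishes at `c + c'`;
* `Sys.dead`: (3), with the vectors `p i + p j` for `i ≠ j` in a set of at least five letters.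
-/

set_option autoImplicit false

namespace Cfsg.Agent.Omega.NSix.Tv

theorem z2 (c : ZMod 2) : c = 0 ∨ c = 1 := by
  fin_cases c
  · exact Or.inl rfl
  · exact Or.inr rfl

theorem z2_one {c : ZMod 2} (h : c ≠ 0) : c = 1 := (z2 c).resolve_left h

theorem z2_zero {c : ZMod 2} (h : c ≠ 1) : c = 0 := (z2 c).resolve_right h

theorem z2_add (c : ZMod 2) : c + c = 0 := by rcases z2 c with h | h <;> subst h <;> decide

variable {U : Type*} [AddCommGroup U]

/-- a system of transvection groups -/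
structure Sys (K : Set U) (F : U → Set (U →+ ZMod 2)) : Prop where
  two : ∀ u : U, u + u = 0
  add : ∀ c ∈ K, ∀ f ∈ F c, ∀ g ∈ F c, f + g ∈ F c
  eq : ∀ c ∈ K, ∀ d ∈ K, F d ⊆ F c → F c ⊆ F d
  self : ∀ c ∈ K, ∀ f ∈ F c, f c = 0
  star : ∀ c ∈ K, ∀ d ∈ K, ∀ g ∈ F d, g c = 0 → ∀ f ∈ F c, f d = 1 → f + g ∈ F c

/-- adjacency -/
def Adj (F : U → Set (U →+ ZMod 2)) (c d : U) : Prop := ∃ f ∈ F c, f d = 1

namespace Sys

variable {K : Set U} {F : U → Set (U →+ ZMod 2)}

theorem not_adj {c d : U} (h : ¬ Adj F c d) {f : U →+ ZMod 2} (hf : f ∈ F c) : f d = 0 :=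
  z2_zero fun h1 => h ⟨f, hf, h1⟩

theorem le (s : Sys K F) {c d : U} (hc : c ∈ K) (hd : d ∈ K) (h : Adj F c d) {g : U →+ ZMod 2}
    (hg : g ∈ F d) (h0 : g c = 0) : g ∈ F c := by
  obtain ⟨f, hf, hfd⟩ := h
  have h1 := s.add c hc f hf _ (s.star c hc d hd g hg h0 f hf hfd)
  have h2 : f + (f + g) = g := by
    ext u
    rw [AddMonoidHom.add_apply, AddMonoidHom.add_apply, ← add_assoc, z2_add, zero_add]
  rwa [h2] at h1

theorem sym (s : Sys K F) {c d : U} (hc : c ∈ K) (hd : d ∈ K) (h : Adj F c d) : Adj F d c := by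
  by_contra hn
  have h1 : F d ⊆ F c := fun g hg => s.le hc hd h hg (not_adj hn hg)
  obtain ⟨f, hf, hfd⟩ := h
  have h2 := s.self d hd f (s.eq c hc d hd h1 hf)
  rw [h2] at hfd
  exact absurd hfd (by decide)

theorem nonadj (s : Sys K F) {c c' d : U} (hc : c ∈ K) (hc' : c' ∈ K) (hd : d ∈ K)
    (hn : ¬ Adj F c c') (h : Adj F c d) (h' : Adj F c' d) {g : U →+ ZMod 2} (hg : g ∈ F d) :
    g (c + c') = 0 := by
  have hn' : ¬ Adj F c' c := fun h1 => hn (s.sym hc' hc h1)
  rw [map_add]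
  by_cases h0 : g c = 0
  · rw [h0, not_adj hn (s.le hc hd h hg h0), add_zero]
  · have h1 : g c' ≠ 0 := fun h2 => h0 (not_adj hn' (s.le hc' hd h' hg h2))
    rw [z2_one h0, z2_one h1, z2_add]

/-- (3), first half: a functional of `F (p i + p j)` which kills all `p k + p l` is in all
`F (p k + p l)`.  `Q`: the letters in use. -/
theorem mem_all (s : Sys K F) {ι : Type*} {Q : ι → Prop} {p : ι → U}
    (hr : ∀ i j, Q i → Q j → i ≠ j → p i + p j ∈ K)
    (hadj : ∀ i j k, Q i → Q j → Q k → i ≠ j → j ≠ k → i ≠ k → Adj F (p i + p j) (p j + p k))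
    {i j : ι} (qi : Q i) (qj : Q j) (hij : i ≠ j) {f : U →+ ZMod 2} (hf : f ∈ F (p i + p j))
    (hf0 : ∀ k l, Q k → Q l → k ≠ l → f (p k + p l) = 0) {k l : ι} (qk : Q k) (ql : Q l)
    (hkl : k ≠ l) : f ∈ F (p k + p l) := by
  have step : ∀ i j k, Q i → Q j → Q k → i ≠ j → j ≠ k → i ≠ k → f ∈ F (p i + p j) →
      f ∈ F (p j + p k) := by
    intro i j k q1 q2 q3 h1 h2 h3 h4
    exact s.le (hr j k q2 q3 h2) (hr i j q1 q2 h1) (s.sym (hr i j q1 q2 h1) (hr j k q2 q3 h2)
      (hadj i j k q1 q2 q3 h1 h2 h3)) h4 (hf0 j k q2 q3 h2)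
  have hf' : f ∈ F (p j + p i) := by rw [add_comm]; exact hf
  have hi : ∀ k, Q k → k ≠ i → f ∈ F (p i + p k) := by
    intro k qk hk
    by_cases hj : k = j
    · subst hj; exact hf
    · exact step j i k qj qi qk hij.symm hk.symm (Ne.symm hj) hf'
  by_cases h1 : k = i
  · subst h1; exact hi l ql hkl.symm
  by_cases h2 : l = i
  · subst h2; rw [add_comm]; exact hi k qk h1
  exact step i k l qi qk ql (Ne.symm h1) hkl (Ne.symm h2) (hi k qk h1)

/-- (3): a functional of `F (p i + p j)` which kills all `p k + p l` is zero: five letters -/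
theorem dead (s : Sys K F) {ι : Type*} {Q : ι → Prop} {p : ι → U}
    (hr : ∀ i j, Q i → Q j → i ≠ j → p i + p j ∈ K)
    (hadj : ∀ i j k, Q i → Q j → Q k → i ≠ j → j ≠ k → i ≠ k → Adj F (p i + p j) (p j + p k))
    (hdis : ∀ i j k l, Q i → Q j → Q k → Q l → i ≠ j → k ≠ l → i ≠ k → i ≠ l → j ≠ k → j ≠ l →
      ¬ Adj F (p i + p j) (p k + p l))
    {a : Fin 5 → ι} (ha : Function.Injective a) (qa : ∀ x, Q (a x))
    {i j : ι} (qi : Q i) (qj : Q j) (hij : i ≠ j) {f : U →+ ZMod 2} (hf : f ∈ F (p i + p j))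
    (hf0 : ∀ k l, Q k → Q l → k ≠ l → f (p k + p l) = 0) (hsep : (∀ d ∈ K, f d = 0) → f = 0) :
    f = 0 := by
  by_contra hne
  have : ∃ d ∈ K, f d = 1 := by
    by_contra hc
    push Not at hc
    exact hne (hsep fun d hd => z2_zero (hc d hd))
  obtain ⟨d, hd, hfd⟩ := this
  have A : ∀ k l, Q k → Q l → k ≠ l → Adj F (p k + p l) d := fun k l qk ql h =>
    ⟨f, s.mem_all hr hadj qi qj hij hf hf0 qk ql h, hfd⟩
  have ne : ∀ x y : Fin 5, x ≠ y → a x ≠ a y := fun x y h h' => h (ha h')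
  have key : ∀ g ∈ F d, g (p (a 3) + p (a 4)) = 0 := by
    intro g hg
    have e1 := s.nonadj (hr _ _ (qa 0) (qa 1) (ne 0 1 (by decide)))
      (hr _ _ (qa 2) (qa 3) (ne 2 3 (by decide))) hd
      (hdis _ _ _ _ (qa 0) (qa 1) (qa 2) (qa 3) (ne 0 1 (by decide)) (ne 2 3 (by decide))
        (ne 0 2 (by decide)) (ne 0 3 (by decide)) (ne 1 2 (by decide)) (ne 1 3 (by decide)))
      (A _ _ (qa 0) (qa 1) (ne 0 1 (by decide))) (A _ _ (qa 2) (qa 3) (ne 2 3 (by decide))) hg
    have e2 := s.nonadj (hr _ _ (qa 0) (qa 1) (ne 0 1 (by decide)))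
      (hr _ _ (qa 2) (qa 4) (ne 2 4 (by decide))) hd
      (hdis _ _ _ _ (qa 0) (qa 1) (qa 2) (qa 4) (ne 0 1 (by decide)) (ne 2 4 (by decide))
        (ne 0 2 (by decide)) (ne 0 4 (by decide)) (ne 1 2 (by decide)) (ne 1 4 (by decide)))
      (A _ _ (qa 0) (qa 1) (ne 0 1 (by decide))) (A _ _ (qa 2) (qa 4) (ne 2 4 (by decide))) hg
    have e3 : p (a 3) + p (a 4) = (p (a 0) + p (a 1) + (p (a 2) + p (a 3))) +
        (p (a 0) + p (a 1) + (p (a 2) + p (a 4))) := by
      have h1 := s.two (p (a 0))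
      have h2 := s.two (p (a 1))
      have h3 := s.two (p (a 2))
      have : (p (a 0) + p (a 1) + (p (a 2) + p (a 3))) + (p (a 0) + p (a 1) + (p (a 2) + p (a 4)))
          = (p (a 0) + p (a 0)) + (p (a 1) + p (a 1)) + (p (a 2) + p (a 2)) +
            (p (a 3) + p (a 4)) := by abel
      rw [this, h1, h2, h3]; simp
    rw [e3, map_add, e1, e2, add_zero]
  obtain ⟨g, hg, hg1⟩ := s.sym (hr _ _ (qa 3) (qa 4) (ne 3 4 (by decide))) hd
    (A _ _ (qa 3) (qa 4) (ne 3 4 (by decide)))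
  rw [key g hg] at hg1
  exact absurd hg1 (by decide)

end Sys

end Cfsg.Agent.Omega.NSix.Tv

end

section


/-!
# OMEGA N6, #13256 (3): `e = 1`

`One.one`: for `n ≥ 7` odd the elements of `W_kl` centralising `V` centralise `U_ij`
(`{i, j}`, `{k, l}` disjoint).
-/

set_option autoImplicit false

namespace Cfsg.Agent.Omega.NSix.One

open Subgroup Cfsg.Agent.Omega.S5.Def Cfsg.Agent.Omega.NSix.Base Cfsg.Agent.Omega.NSix.Basic
open Cfsg.Agent.Omega.NSix.Tv

universe u

variable {G : Type u} [Group G] {n : ℕ} {V L : Subgroup G} {ε : (Fin n → ZMod 2) → G}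
  {W : Fin n → Fin n → Subgroup G}

/-- `(g, k, l)` is a witness of `c ∈ K` -/
structure Wit (ε : (Fin n → ZMod 2) → G) (i j : Fin n) (c g : G) (k l : Fin n) : Prop where
  mem : g ∈ NN ε i j
  ne : k ≠ l
  ki : k ≠ i
  kj : k ≠ j
  li : l ≠ i
  lj : l ≠ j
  eq : c = g * rr ε k l * g⁻¹

/-- `K = r_34 ^ N_12` -/
def KK (ε : (Fin n → ZMod 2) → G) (i j : Fin n) (c : G) : Prop := ∃ g k l, Wit ε i j c g k l

/-- `W_c` -/
def Wc (ε : (Fin n → ZMod 2) → G) (W : Fin n → Fin n → Subgroup G) (i j : Fin n) (c x : G) :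
    Prop :=
  ∃ g k l, Wit ε i j c g k l ∧ g⁻¹ * x * g ∈ W k l

variable {i j : Fin n}

theorem wc_iff (b : Base V L ε W) {c g x : G} {k l : Fin n} (w : Wit ε i j c g k l) :
    Wc ε W i j c x ↔ g⁻¹ * x * g ∈ W k l := by
  constructor
  · rintro ⟨g', k', l', w', hx⟩
    obtain ⟨σ, h1, h2, -⟩ := exists_perm w'.ne w.ne
    obtain ⟨m, -, hs⟩ := b.ev.full σ
    have h3 := b.wc m σ hs k' l' w'.ne _ hx
    rw [h1, h2] at h3
    have h4 : m * rr ε k' l' * m⁻¹ = rr ε k l := by rw [rr_conj hs, h1, h2]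
    have h5 : g⁻¹ * g' * m⁻¹ ∈ NN ε k l := by
      rw [mem_NN']
      calc g⁻¹ * g' * m⁻¹ * rr ε k l * (g⁻¹ * g' * m⁻¹)⁻¹
          = g⁻¹ * (g' * (m⁻¹ * rr ε k l * m) * g'⁻¹) * g := by group
        _ = g⁻¹ * (g' * rr ε k' l' * g'⁻¹) * g := by rw [← h4]; group
        _ = g⁻¹ * c * g := by rw [← w'.eq]
        _ = rr ε k l := by rw [w.eq]; group
    have h6 := b.wn k l w.ne _ h5 _ h3
    have h7 : g⁻¹ * g' * m⁻¹ * (m * (g'⁻¹ * x * g') * m⁻¹) * (g⁻¹ * g' * m⁻¹)⁻¹ =
        g⁻¹ * x * g := by group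
    rwa [h7] at h6
  · intro hx
    exact ⟨g, k, l, w, hx⟩

theorem Wit.conj {c g h : G} {k l : Fin n} (w : Wit ε i j c g k l) (hh : h ∈ NN ε i j) :
    Wit ε i j (h * c * h⁻¹) (h * g) k l where
  mem := mul_mem hh w.mem
  ne := w.ne
  ki := w.ki
  kj := w.kj
  li := w.li
  lj := w.lj
  eq := by rw [w.eq]; group

theorem kk_conj {c h : G} (hc : KK ε i j c) (hh : h ∈ NN ε i j) : KK ε i j (h * c * h⁻¹) := by
  obtain ⟨g, k, l, w⟩ := hc
  exact ⟨_, _, _, w.conj hh⟩

theorem wc_conj {c x h : G} (hx : Wc ε W i j c x) (hh : h ∈ NN ε i j) :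
    Wc ε W i j (h * c * h⁻¹) (h * x * h⁻¹) := by
  obtain ⟨g, k, l, w, hx⟩ := hx
  refine ⟨_, _, _, w.conj hh, ?_⟩
  have : (h * g)⁻¹ * (h * x * h⁻¹) * (h * g) = g⁻¹ * x * g := by group
  rwa [this]

theorem wc_kk {c x : G} (hx : Wc ε W i j c x) : KK ε i j c := by
  obtain ⟨g, k, l, w, -⟩ := hx
  exact ⟨g, k, l, w⟩

theorem wc_one {c : G} (hc : KK ε i j c) : Wc ε W i j c 1 := by
  obtain ⟨g, k, l, w⟩ := hc
  refine ⟨g, k, l, w, ?_⟩
  have : g⁻¹ * 1 * g = 1 := by group
  rw [this]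
  exact one_mem _

theorem wc_mul (b : Base V L ε W) {c x y : G} (hx : Wc ε W i j c x) (hy : Wc ε W i j c y) :
    Wc ε W i j c (x * y) := by
  obtain ⟨g, k, l, w, hx⟩ := hx
  rw [wc_iff b w] at hy ⊢
  have : g⁻¹ * (x * y) * g = (g⁻¹ * x * g) * (g⁻¹ * y * g) := by group
  rw [this]
  exact mul_mem hx hy

theorem wc_inv {c x : G} (hx : Wc ε W i j c x) : Wc ε W i j c x⁻¹ := by
  obtain ⟨g, k, l, w, hx⟩ := hx
  refine ⟨g, k, l, w, ?_⟩
  have : g⁻¹ * x⁻¹ * g = (g⁻¹ * x * g)⁻¹ := by group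
  rw [this]
  exact inv_mem hx

/-- elements of `W_kl` commute with `r_kl` -/
theorem ww_rr (b : Base V L ε W) {k l : Fin n} (hkl : k ≠ l) {w : G} (hw : w ∈ W k l) :
    w * rr ε k l * w⁻¹ = rr ε k l := by
  rcases b.act k l hkl w hw with h | h
  · rw [rr_conj h]; rfl
  · rw [rr_conj h, Equiv.swap_apply_left, Equiv.swap_apply_right, rr_symm b.ev]

/-- elements of `W_kl` commute with the points different from `k`, `l` -/
theorem ww_zz (b : Base V L ε W) {k l : Fin n} (hkl : k ≠ l) {w : G} (hw : w ∈ W k l)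
    {m : Fin n} (h1 : m ≠ k) (h2 : m ≠ l) : w * zz ε m * w⁻¹ = zz ε m := by
  rcases b.act k l hkl w hw with h | h
  · rw [zz_conj h]; rfl
  · rw [zz_conj h, Equiv.swap_apply_of_ne_of_ne h1 h2]

theorem ww_le_NN (b : Base V L ε W) {k l : Fin n} (hkl : k ≠ l) (ki : k ≠ i) (kj : k ≠ j)
    (li : l ≠ i) (lj : l ≠ j) {w : G} (hw : w ∈ W k l) : w ∈ NN ε i j := by
  rw [mem_NN']
  unfold rr
  calc w * (zz ε i * zz ε j) * w⁻¹ = (w * zz ε i * w⁻¹) * (w * zz ε j * w⁻¹) := by group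
    _ = _ := by rw [ww_zz b hkl hw (Ne.symm ki) (Ne.symm li), ww_zz b hkl hw (Ne.symm kj) (Ne.symm lj)]

theorem wc_NN (b : Base V L ε W) {c x : G} (hx : Wc ε W i j c x) : x ∈ NN ε i j := by
  obtain ⟨g, k, l, w, hx⟩ := hx
  have h1 := ww_le_NN b w.ne w.ki w.kj w.li w.lj hx
  have h2 := mul_mem (mul_mem w.mem h1) (inv_mem w.mem)
  have : g * (g⁻¹ * x * g) * g⁻¹ = x := by group
  rwa [this] at h2

theorem wc_cen (b : Base V L ε W) {c x : G} (hx : Wc ε W i j c x) : x * c * x⁻¹ = c := by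
  obtain ⟨g, k, l, w, hx⟩ := hx
  have h1 := ww_rr b w.ne hx
  calc x * c * x⁻¹ = g * ((g⁻¹ * x * g) * rr ε k l * (g⁻¹ * x * g)⁻¹) * g⁻¹ := by
        rw [w.eq]; group
    _ = c := by rw [h1, w.eq]

theorem kk_mem_UU {c : G} (hc : KK ε i j c) : c ∈ UU ε i j := by
  obtain ⟨g, k, l, w⟩ := hc
  rw [w.eq]
  exact UU_normal w.mem (rr_mem_UU w.ki w.kj w.li w.lj)

theorem kk_sq (b : Base V L ε W) {c : G} (hc : KK ε i j c) : c * c = 1 := by
  obtain ⟨g, k, l, w⟩ := hc
  calc c * c = g * (rr ε k l * rr ε k l) * g⁻¹ := by rw [w.eq]; group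
    _ = 1 := by rw [rr_sq b.ev]; group

theorem kk_ne (b : Base V L ε W) (hn : 3 ≤ n) {c : G} (hc : KK ε i j c) : c ≠ 1 := by
  obtain ⟨g, k, l, w⟩ := hc
  intro h0
  apply rr_ne_one b.ev hn w.ne
  calc rr ε k l = g⁻¹ * c * g := by rw [w.eq]; group
    _ = 1 := by rw [h0]; group

theorem wc_act (b : Base V L ε W) (hij : i ≠ j) {c x u : G} (hx : Wc ε W i j c x)
    (hu : u ∈ UU ε i j) : x * u * x⁻¹ = u ∨ x * u * x⁻¹ = u * c := by
  obtain ⟨g, k, l, w, hx⟩ := hx
  have h0 : g⁻¹ * u * g ∈ UU ε i j := by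
    have := UU_normal (inv_mem w.mem) hu
    rwa [inv_inv] at this
  rcases b.tra i j k l hij w.ne (Ne.symm w.ki) (Ne.symm w.li) (Ne.symm w.kj) (Ne.symm w.lj) _ h0 _ hx
    with h | h
  · left
    calc x * u * x⁻¹ = g * ((g⁻¹ * x * g) * (g⁻¹ * u * g) * (g⁻¹ * x * g)⁻¹) * g⁻¹ := by group
      _ = u := by rw [h]; group
  · right
    calc x * u * x⁻¹ = g * ((g⁻¹ * x * g) * (g⁻¹ * u * g) * (g⁻¹ * x * g)⁻¹) * g⁻¹ := by group
      _ = u * c := by rw [h, w.eq]; group

/-! ### `U` is elementary abelian -/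

theorem uu_comm (b : Base V L ε W) (hij : i ≠ j) {u v : G} (hu : u ∈ UU ε i j) (hv : v ∈ UU ε i j) :
    u * v = v * u :=
  b.cen i j hij u hu v (uu_le_w b hij hv)

theorem uu_sq (b : Base V L ε W) (hij : i ≠ j) {u : G} (hu : u ∈ UU ε i j) : u * u = 1 := by
  have hc := fun {u v : G} (hu : u ∈ UU ε i j) (hv : v ∈ UU ε i j) => uu_comm b hij hu hv
  unfold UU at hu
  induction hu using closure_induction with
  | mem x hx =>
    obtain ⟨g, -, k, -, -, rfl⟩ := hx
    calc g * zz ε k * g⁻¹ * (g * zz ε k * g⁻¹) = g * (zz ε k * zz ε k) * g⁻¹ := by group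
      _ = 1 := by rw [zz_sq b.ev]; group
  | one => rw [one_mul]
  | mul x y hx hy h1 h2 =>
    calc x * y * (x * y) = x * (y * x) * y := by group
      _ = x * (x * y) * y := by rw [hc hy hx]
      _ = (x * x) * (y * y) := by group
      _ = 1 := by rw [h1, h2, one_mul]
  | inv x hx h1 =>
    calc x⁻¹ * x⁻¹ = (x * x)⁻¹ := by group
      _ = 1 := by rw [h1, inv_one]

/-- `U` as an additive group -/
def AU {V L : Subgroup G} {ε : (Fin n → ZMod 2) → G} {W : Fin n → Fin n → Subgroup G}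
    (_ : Base V L ε W) {i j : Fin n} (_ : i ≠ j) : Type u := Additive (UU ε i j)

noncomputable instance (b : Base V L ε W) (hij : i ≠ j) : AddCommGroup (AU b hij) :=
  { (inferInstance : AddGroup (Additive (UU ε i j))) with
    add_comm := fun x y => Additive.toMul.injective (Subtype.ext
      (uu_comm b hij (Additive.toMul x).2 (Additive.toMul y).2)) }

/-- the group element -/
def val {b : Base V L ε W} {hij : i ≠ j} (a : AU b hij) : G := ((Additive.toMul a : UU ε i j) : G)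

/-- the vector -/
def mk (b : Base V L ε W) (hij : i ≠ j) {u : G} (hu : u ∈ UU ε i j) : AU b hij :=
  Additive.ofMul (⟨u, hu⟩ : UU ε i j)

section AU

variable {b : Base V L ε W} {hij : i ≠ j}

@[simp] theorem val_mk {u : G} (hu : u ∈ UU ε i j) : val (mk b hij hu) = u := rfl

theorem val_mem (a : AU b hij) : val a ∈ UU ε i j := (Additive.toMul a : UU ε i j).2

theorem val_add (a a' : AU b hij) : val (a + a') = val a * val a' := rfl

theorem val_zero : val (0 : AU b hij) = 1 := rfl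

theorem val_inj {a a' : AU b hij} (h : val a = val a') : a = a' :=
  Additive.toMul.injective (Subtype.ext h)

theorem au_two (a : AU b hij) : a + a = 0 := val_inj (by
  rw [val_add, val_zero]
  exact uu_sq b hij (val_mem a))

/-- `c ^ t` -/
def pw (c : G) (t : ZMod 2) : G := if t = 0 then 1 else c

@[simp] theorem pw_zero (c : G) : pw c 0 = 1 := if_pos rfl

@[simp] theorem pw_one (c : G) : pw c 1 = c := if_neg (by decide)

/-- `x` acts on `U` as the transvection `t(c, f)` -/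
def Act (x c : G) (f : AU b hij →+ ZMod 2) : Prop := ∀ a : AU b hij, x * val a * x⁻¹ = val a * pw c (f a)

theorem Act.iff_zero {x c : G} {f : AU b hij →+ ZMod 2} (hf : Act x c f) (hc : c ≠ 1)
    (a : AU b hij) : f a = 0 ↔ x * val a * x⁻¹ = val a := by
  rw [hf a]
  constructor
  · intro h; rw [h, pw_zero, mul_one]
  · intro h
    by_contra h0
    rw [z2_one h0, pw_one] at h
    exact hc (mul_eq_left.mp h)

theorem exists_act {x c : G} (hc : c ≠ 1) (hc2 : c * c = 1) (hcU : c ∈ UU ε i j)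
    (hx : ∀ u ∈ UU ε i j, x * u * x⁻¹ = u ∨ x * u * x⁻¹ = u * c) : ∃ f : AU b hij →+ ZMod 2, Act x c f := by
  classical
  let f : AU b hij → ZMod 2 := fun a => if x * val a * x⁻¹ = val a then 0 else 1
  have hf : ∀ a, x * val a * x⁻¹ = val a * pw c (f a) := by
    intro a
    by_cases h : x * val a * x⁻¹ = val a
    · have : f a = 0 := if_pos h
      rw [this, pw_zero, mul_one, h]
    · have : f a = 1 := if_neg h
      rw [this, pw_one]
      exact (hx _ (val_mem a)).resolve_left h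
  have huniq : ∀ a : AU b hij, ∀ t : ZMod 2, x * val a * x⁻¹ = val a * pw c t → f a = t := by
    intro a t ht
    rw [hf a] at ht
    have h1 := mul_left_cancel ht
    rcases z2 (f a) with h2 | h2 <;> rcases z2 t with h3 | h3
    · rw [h2, h3]
    · rw [h2, h3, pw_zero, pw_one] at h1; exact absurd h1.symm hc
    · rw [h2, h3, pw_zero, pw_one] at h1; exact absurd h1 hc
    · rw [h2, h3]
  refine ⟨AddMonoidHom.mk' f ?_, hf⟩
  intro a a'
  apply huniq
  rw [val_add]
  have e1 : x * (val a * val a') * x⁻¹ = (x * val a * x⁻¹) * (x * val a' * x⁻¹) := by group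
  have hcomm : ∀ t, pw c t * val a' = val a' * pw c t := by
    intro t
    rcases z2 t with h | h
    · rw [h, pw_zero, one_mul, mul_one]
    · rw [h, pw_one]; exact uu_comm b hij hcU (val_mem a')
  have hpw : ∀ s t, pw c s * pw c t = pw c (s + t) := by
    intro s t
    rcases z2 s with h | h <;> rcases z2 t with h' | h' <;> rw [h, h']
    · simp
    · simp
    · simp
    · rw [pw_one, hc2, show (1 : ZMod 2) + 1 = 0 by decide, pw_zero]
  rw [e1, hf, hf]
  calc val a * pw c (f a) * (val a' * pw c (f a'))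
      = val a * (pw c (f a) * val a') * pw c (f a') := by group
    _ = val a * val a' * (pw c (f a) * pw c (f a')) := by rw [hcomm]; group
    _ = _ := by rw [hpw]

end AU

/-- the functionals with centre `c` -/
def FF (b : Base V L ε W) (hij : i ≠ j) (a : AU b hij) : Set (AU b hij →+ ZMod 2) :=
  {f | ∃ x, Wc ε W i j (val a) x ∧ Act x (val a) f}

theorem sys [Finite G] (b : Base V L ε W) (hn : 3 ≤ n) (hij : i ≠ j) :
    Sys {a : AU b hij | KK ε i j (val a)} (FF b hij) where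
  two := au_two
  add := by
    rintro c hc f ⟨x, hx, hf⟩ g ⟨y, hy, hg⟩
    have hc' : KK ε i j (val c) := hc
    refine ⟨x * y, wc_mul b hx hy, fun a => ?_⟩
    have e1 : x * y * val a * (x * y)⁻¹ = x * (y * val a * y⁻¹) * x⁻¹ := by group
    have e2 : x * (val a * pw (val c) (g a)) * x⁻¹ =
        (x * val a * x⁻¹) * (x * pw (val c) (g a) * x⁻¹) := by group
    have e3 : x * pw (val c) (g a) * x⁻¹ = pw (val c) (g a) := by
      rcases z2 (g a) with h | h
      · rw [h, pw_zero]; group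
      · rw [h, pw_one]; exact wc_cen b hx
    have hpw : ∀ s t, pw (val c) s * pw (val c) t = pw (val c) (s + t) := by
      intro s t
      rcases z2 s with h | h <;> rcases z2 t with h' | h' <;> rw [h, h']
      · simp
      · simp
      · simp
      · rw [pw_one, kk_sq b hc', show (1 : ZMod 2) + 1 = 0 by decide, pw_zero]
    rw [e1, hg a, e2, e3, hf a, AddMonoidHom.add_apply, mul_assoc, hpw]
  eq := by
    intro c hc d hd hdc
    obtain ⟨g, k, l, w⟩ := (hc : KK ε i j (val c))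
    obtain ⟨g', k', l', w'⟩ := (hd : KK ε i j (val d))
    obtain ⟨σ, h1, h2, h3⟩ := exists_perm w.ne w'.ne
    obtain ⟨m, hm, hs⟩ := b.ev.full σ
    have hmN : m ∈ NN ε i j := by
      rw [mem_NN', rr_conj hs, h3 i (Ne.symm w.ki) (Ne.symm w.li) (Ne.symm w'.ki) (Ne.symm w'.li),
        h3 j (Ne.symm w.kj) (Ne.symm w.lj) (Ne.symm w'.kj) (Ne.symm w'.lj)]
    set h := g' * m * g⁻¹ with hh
    have hhN : h ∈ NN ε i j := mul_mem (mul_mem w'.mem hmN) (inv_mem w.mem)
    have hcd : val d = h * val c * h⁻¹ := by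
      calc val d = g' * rr ε k' l' * g'⁻¹ := w'.eq
        _ = g' * (m * rr ε k l * m⁻¹) * g'⁻¹ := by rw [rr_conj hs, h1, h2]
        _ = g' * (m * (g⁻¹ * val c * g) * m⁻¹) * g'⁻¹ := by rw [w.eq]; group
        _ = _ := by rw [hh]; group
    -- the map on vectors
    let φ : AU b hij →+ AU b hij := AddMonoidHom.mk' (fun a => mk b hij (UU_normal (inv_mem hhN) (val_mem a)))
      (fun a a' => val_inj (by
        change h⁻¹ * (val a * val a') * h⁻¹⁻¹ = (h⁻¹ * val a * h⁻¹⁻¹) * (h⁻¹ * val a' * h⁻¹⁻¹)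
        group))
    have hφ : ∀ a, val (φ a) = h⁻¹ * val a * h := by
      intro a
      change h⁻¹ * val a * h⁻¹⁻¹ = _
      rw [inv_inv]
    have hinj : Function.Injective (fun f : AU b hij →+ ZMod 2 => f.comp φ) := by
      intro f f' hff
      ext a
      have h5 : φ (mk b hij (UU_normal hhN (val_mem a))) = a := val_inj (by
        rw [hφ, val_mk]; group)
      have h6 := DFunLike.congr_fun hff (mk b hij (UU_normal hhN (val_mem a)))
      simp only [AddMonoidHom.comp_apply] at h6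
      rwa [h5] at h6
    have hmaps : (fun f : AU b hij →+ ZMod 2 => f.comp φ) '' (FF b hij c) ⊆ FF b hij d := by
      rintro _ ⟨f, ⟨x, hx, hf⟩, rfl⟩
      refine ⟨h * x * h⁻¹, ?_, fun a => ?_⟩
      · rw [hcd]; exact wc_conj hx hhN
      · have h7 := hf (φ a)
        rw [hφ] at h7
        change _ = val a * pw (val d) (f (φ a))
        have h8 : pw (val d) (f (φ a)) = h * pw (val c) (f (φ a)) * h⁻¹ := by
          rcases z2 (f (φ a)) with h9 | h9
          · rw [h9, pw_zero, pw_zero]; group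
          · rw [h9, pw_one, pw_one, hcd]
        rw [h8]
        calc h * x * h⁻¹ * val a * (h * x * h⁻¹)⁻¹ = h * (x * (h⁻¹ * val a * h) * x⁻¹) * h⁻¹ := by
              group
          _ = _ := by rw [h7]; group
    have hfin : Finite (AU b hij) := inferInstanceAs (Finite (Additive (UU ε i j)))
    have hfin2 : Finite (AU b hij →+ ZMod 2) := DFunLike.finite _
    have hcard : (FF b hij c).ncard ≤ (FF b hij d).ncard := by
      rw [← Set.ncard_image_of_injective _ hinj]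
      exact Set.ncard_le_ncard hmaps (Set.toFinite _)
    exact (Set.eq_of_subset_of_ncard_le hdc hcard (Set.toFinite _)).symm.subset
  self := by
    rintro c hc f ⟨x, hx, hf⟩
    rw [hf.iff_zero (kk_ne b hn hc)]
    exact wc_cen b hx
  star := by
    rintro c hc d hd g ⟨y, hy, hg⟩ h0 f ⟨x, hx, hf⟩ hfd
    have hyc : y * val c * y⁻¹ = val c := (hg.iff_zero (kk_ne b hn hd) c).mp h0
    have hyd : y * val d * y⁻¹ = val d := wc_cen b hy
    have hgd : g d = 0 := (hg.iff_zero (kk_ne b hn hd) d).mpr hyd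
    refine ⟨y * x * y⁻¹, ?_, fun a => ?_⟩
    · have := wc_conj hx (wc_NN b hy)
      rwa [hyc] at this
    · -- y⁻¹ a y = a d^(g a)
      have e0 : y⁻¹ * val a * y = val (a + if g a = 0 then 0 else d) := by
        rcases z2 (g a) with h | h
        · rw [if_pos h, add_zero]
          have := (hg.iff_zero (kk_ne b hn hd) a).mp h
          calc y⁻¹ * val a * y = y⁻¹ * (y * val a * y⁻¹) * y := by rw [this]
            _ = val a := by group
        · have hne : g a ≠ 0 := by rw [h]; decide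
          rw [if_neg hne, val_add]
          have h1 := hg a
          rw [h, pw_one] at h1
          have h2 : val a = y⁻¹ * val a * y * val d := by
            calc val a = y⁻¹ * (y * val a * y⁻¹) * y := by group
              _ = y⁻¹ * (val a * val d) * y := by rw [h1]
              _ = y⁻¹ * val a * y * (y⁻¹ * val d * y) := by group
              _ = y⁻¹ * val a * y * (y⁻¹ * (y * val d * y⁻¹) * y) := by rw [hyd]
              _ = y⁻¹ * val a * y * val d := by group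
          calc y⁻¹ * val a * y = y⁻¹ * val a * y * val d * val d := by
                rw [mul_assoc (y⁻¹ * val a * y), kk_sq b hd, mul_one]
            _ = val a * val d := by rw [← h2]
      have e1 : y * x * y⁻¹ * val a * (y * x * y⁻¹)⁻¹ = y * (x * (y⁻¹ * val a * y) * x⁻¹) * y⁻¹ := by
        group
      rw [e1, e0, hf, map_add]
      have e2 : y * (val (a + if g a = 0 then 0 else d) * pw (val c) (f a + f (if g a = 0 then 0 else d))) * y⁻¹
          = (y * val (a + if g a = 0 then 0 else d) * y⁻¹) *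
            (y * pw (val c) (f a + f (if g a = 0 then 0 else d)) * y⁻¹) := by group
      have e3 : y * val (a + if g a = 0 then 0 else d) * y⁻¹ = val a := by
        rw [← e0]; group
      have e4 : ∀ t, y * pw (val c) t * y⁻¹ = pw (val c) t := by
        intro t
        rcases z2 t with h | h
        · rw [h, pw_zero]; group
        · rw [h, pw_one]; exact hyc
      have e5 : f (if g a = 0 then 0 else d) = g a := by
        rcases z2 (g a) with h | h
        · rw [if_pos h, h, map_zero]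
        · have hne : g a ≠ 0 := by rw [h]; decide
          rw [if_neg hne, h, hfd]
      rw [e2, e3, e4, e5]
      rfl

/-- the letters different from `i`, `j` -/
def Qf (i j k : Fin n) : Prop := k ≠ i ∧ k ≠ j

open Classical in
/-- the points as vectors -/
noncomputable def pp (b : Base V L ε W) (hij : i ≠ j) (k : Fin n) : AU b hij :=
  if h : Qf i j k then mk b hij (zz_mem_UU h.1 h.2) else 0

theorem val_pp (b : Base V L ε W) (hij : i ≠ j) {k : Fin n} (h : Qf i j k) :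
    val (pp b hij k) = zz ε k := by
  unfold pp
  rw [dif_pos h, val_mk]

theorem val_pp_add (b : Base V L ε W) (hij : i ≠ j) {k l : Fin n} (hk : Qf i j k) (hl : Qf i j l) :
    val (pp b hij k + pp b hij l) = rr ε k l := by
  rw [val_add, val_pp b hij hk, val_pp b hij hl]
  rfl

theorem wit_one {k l : Fin n} (hk : Qf i j k) (hl : Qf i j l) (hkl : k ≠ l) :
    Wit ε i j (rr ε k l) 1 k l where
  mem := one_mem _
  ne := hkl
  ki := hk.1
  kj := hk.2
  li := hl.1
  lj := hl.2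
  eq := by group

theorem wc_rr (b : Base V L ε W) {k l : Fin n} (hk : Qf i j k) (hl : Qf i j l) (hkl : k ≠ l) {x : G} :
    Wc ε W i j (rr ε k l) x ↔ x ∈ W k l := by
  rw [wc_iff b (wit_one hk hl hkl)]
  have : (1 : G)⁻¹ * x * 1 = x := by group
  rw [this]

/-- every element of `W_c` is a transvection -/
theorem exists_f (b : Base V L ε W) (hn : 3 ≤ n) (hij : i ≠ j) {c x : G} (hx : Wc ε W i j c x) :
    ∃ f : AU b hij →+ ZMod 2, Act x c f :=
  exists_act (kk_ne b hn (wc_kk hx)) (kk_sq b (wc_kk hx)) (kk_mem_UU (wc_kk hx))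
    fun _ hu => wc_act b hij hx hu

/-- the permutation is one of two -/
theorem swap_fix {k l m : Fin n} (h1 : m ≠ k) (h2 : m ≠ l) : Equiv.swap k l m = m :=
  Equiv.swap_apply_of_ne_of_ne h1 h2

/-- a functional on `U` killing `K` and `r_ij` is zero (`n` odd) -/
theorem sep (b : Base V L ε W) (hodd : Odd n) (hn : 3 ≤ n) (hij : i ≠ j) (f : AU b hij →+ ZMod 2)
    (hN : ∀ a : AU b hij, ∀ g ∈ NN ε i j, val a = g * rr ε i j * g⁻¹ → f a = 0)
    (hK : ∀ a : AU b hij, KK ε i j (val a) → f a = 0) : f = 0 := by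
  have key : ∀ u : G, ∀ hu : u ∈ UU ε i j, f (mk b hij hu) = 0 := by
    intro u hu
    have hu' := hu
    unfold UU at hu'
    induction hu' using closure_induction with
    | mem x hx =>
      obtain ⟨g, hg, k, h1, h2, rfl⟩ := hx
      -- the points take the same value
      have hsame : ∀ m (hm : Qf i j m) (hmu : g * zz ε m * g⁻¹ ∈ UU ε i j),
          f (mk b hij hmu) = f (mk b hij hu) := by
        intro m hm hmu
        by_cases hkm : m = k
        · subst hkm; rfl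
        · have h3 : f (mk b hij hmu + mk b hij hu) = 0 := by
            apply hK
            refine ⟨g, m, k, ⟨hg, hkm, hm.1, hm.2, h1, h2, ?_⟩⟩
            rw [val_add, val_mk, val_mk]
            unfold rr
            group
          rw [map_add] at h3
          rcases z2 (f (mk b hij hmu)) with h4 | h4 <;> rcases z2 (f (mk b hij hu)) with h5 | h5
          · rw [h4, h5]
          · rw [h4, h5] at h3; exact absurd h3 (by decide)
          · rw [h4, h5] at h3; exact absurd h3 (by decide)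
          · rw [h4, h5]
      have h6 := compl_rr b.ev hij (fun t x => ∃ hx : g * x * g⁻¹ ∈ UU ε i j,
        f (mk b hij hx) = t • f (mk b hij hu)) (by
          refine ⟨by rw [mul_one, mul_inv_cancel]; exact one_mem _, ?_⟩
          have : mk b hij (u := g * 1 * g⁻¹) (by rw [mul_one, mul_inv_cancel]; exact one_mem _) = 0 :=
            val_inj (by rw [val_mk, val_zero]; group)
          rw [this, map_zero, zero_smul]) (by
          rintro m hm1 hm2 t x ⟨hx, hfx⟩
          have hm : g * zz ε m * g⁻¹ ∈ UU ε i j := UU_normal hg (zz_mem_UU hm1 hm2)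
          refine ⟨?_, ?_⟩
          · have : g * (zz ε m * x) * g⁻¹ = (g * zz ε m * g⁻¹) * (g * x * g⁻¹) := by group
            rw [this]; exact mul_mem hm hx
          · have e1 : ∀ hy : g * (zz ε m * x) * g⁻¹ ∈ UU ε i j,
                mk b hij hy = mk b hij hm + mk b hij hx := fun hy => val_inj (by
              rw [val_mk, val_add, val_mk, val_mk]; group)
            rw [e1, map_add, hfx, hsame m ⟨hm1, hm2⟩, add_comm, succ_nsmul])
      obtain ⟨hy, h7⟩ := h6
      rw [hN _ g hg rfl] at h7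
      obtain ⟨t, ht⟩ := hodd
      rcases z2 (f (mk b hij hu)) with h8 | h8
      · exact h8
      · exfalso
        rw [h8] at h7
        have h9 : n - 2 = 2 * (t - 1) + 1 := by omega
        rw [h9, add_smul, mul_smul, one_smul, two_nsmul, z2_add, zero_add] at h7
        exact absurd h7 (by decide)
    | one =>
      have : mk b hij hu = 0 := val_inj (by rw [val_mk, val_zero])
      rw [this, map_zero]
    | mul x y hx hy h1 h2 =>
      have hx' : x ∈ UU ε i j := hx
      have hy' : y ∈ UU ε i j := hy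
      have : mk b hij hu = mk b hij hx' + mk b hij hy' := val_inj rfl
      rw [this, map_add, h1 hx', h2 hy', add_zero]
    | inv x hx h1 =>
      have hx' : x ∈ UU ε i j := hx
      have : mk b hij hu = mk b hij hx' := val_inj (by
        rw [val_mk, val_mk]
        exact inv_eq_of_mul_eq_one_left (uu_sq b hij hx'))
      rw [this]
      exact h1 hx'
  ext a
  exact key (val a) (val_mem a)

/-- **(3)**: `e = 1` -/
theorem one [Finite G] (b : Base V L ε W) (hodd : Odd n) (hn : 7 ≤ n) {k l : Fin n} (hij : i ≠ j)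
    (hkl : k ≠ l) (ki : k ≠ i) (kj : k ≠ j) (li : l ≠ i) (lj : l ≠ j) {w : G}
    (hw : w ∈ W k l) (hw1 : Acts ε w 1) {u : G} (hu : u ∈ UU ε i j) : w * u * w⁻¹ = u := by
  have hn3 : 3 ≤ n := by omega
  have hk : Qf i j k := ⟨ki, kj⟩
  have hl : Qf i j l := ⟨li, lj⟩
  have hwc : Wc ε W i j (rr ε k l) w := (wc_rr b hk hl hkl).mpr hw
  obtain ⟨f, hf⟩ := exists_f b hn3 hij hwc
  have hfix : ∀ x : Fin n → ZMod 2, w * ε x * w⁻¹ = ε x := fun x => hw1 x
  have hcne := kk_ne b hn3 (wc_kk hwc)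
  have hS := sys b hn3 hij
  -- five letters
  obtain ⟨a, ha, hqa⟩ : ∃ a : Fin 5 → Fin n, Function.Injective a ∧ ∀ x, Qf i j (a x) := by
    have hcard : 5 ≤ (Finset.univ \ {i, j} : Finset (Fin n)).card := by
      rw [Finset.card_sdiff_of_subset (Finset.subset_univ _), Finset.card_univ, Fintype.card_fin,
        Finset.card_pair hij]
      omega
    obtain ⟨t, ht, htc⟩ := Finset.exists_subset_card_eq hcard
    refine ⟨fun x => (t.equivFinOfCardEq htc).symm x, ?_, ?_⟩
    · intro x y hxy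
      exact (t.equivFinOfCardEq htc).symm.injective (Subtype.ext hxy)
    · intro x
      have h1 := ht ((t.equivFinOfCardEq htc).symm x).2
      simp only [Finset.mem_sdiff, Finset.mem_univ, true_and, Finset.mem_insert,
        Finset.mem_singleton, not_or] at h1
      exact h1
  have hmem : f ∈ FF b hij (pp b hij k + pp b hij l) := by
    refine ⟨w, ?_, ?_⟩
    · rw [val_pp_add b hij hk hl]; exact hwc
    · rw [val_pp_add b hij hk hl]; exact hf
  have h0 : f = 0 := by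
    refine hS.dead (Q := Qf i j) (p := pp b hij) ?_ ?_ ?_ ha hqa hk hl hkl hmem ?_ ?_
    · intro k l qk ql hkl
      change KK ε i j _
      rw [val_pp_add b hij qk ql]
      exact ⟨1, k, l, wit_one qk ql hkl⟩
    · intro k l m qk ql qm hkl hlm hkm
      obtain ⟨x, hx, hxs⟩ := b.mov k l hkl
      have hxc : Wc ε W i j (rr ε k l) x := (wc_rr b qk ql hkl).mpr hx
      obtain ⟨g, hg⟩ := exists_f b hn3 hij hxc
      refine ⟨g, ⟨x, ?_, ?_⟩, ?_⟩
      · rw [val_pp_add b hij qk ql]; exact hxc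
      · rw [val_pp_add b hij qk ql]; exact hg
      · refine z2_one fun h1 => ?_
        rw [hg.iff_zero (kk_ne b hn3 (wc_kk hxc)), val_pp_add b hij ql qm, rr_conj hxs,
          Equiv.swap_apply_right, swap_fix hkm.symm hlm.symm, ← rr_add b.ev k l m, mul_eq_right] at h1
        exact rr_ne_one b.ev hn3 hkl h1
    · rintro k l m p qk ql qm qp hkl hmp hkm hkp hlm hlp ⟨g, ⟨x, hx, hg⟩, hg1⟩
      rw [val_pp_add b hij qk ql] at hx hg
      rw [wc_rr b qk ql hkl] at hx
      have h1 : g (pp b hij m + pp b hij p) = 0 := by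
        rw [hg.iff_zero (rr_ne_one b.ev hn3 hkl), val_pp_add b hij qm qp]
        rcases b.act k l hkl x hx with h | h
        · rw [rr_conj h]; rfl
        · rw [rr_conj h, swap_fix hkm.symm hlm.symm, swap_fix hkp.symm hlp.symm]
      rw [h1] at hg1
      exact absurd hg1 (by decide)
    · intro m p qm qp hmp
      rw [hf.iff_zero hcne, val_pp_add b hij qm qp, rr_conj hw1]
      rfl
    · intro hK
      refine sep b hodd hn3 hij f ?_ hK
      · intro a g hg ha
        rw [mem_NN'] at hg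
        rw [hf.iff_zero hcne, ha, hg, rr_conj hw1]
        rfl
  have h1 := hf (mk b hij hu)
  rw [h0, AddMonoidHom.zero_apply, pw_zero, mul_one, val_mk] at h1
  exact h1

end Cfsg.Agent.Omega.NSix.One

end

section


/-!
# OMEGA N6, #14568 (helper150): `(H1)`, `(H2)` and `e = 1` are contradictory

`Six V ε`: `Base`, the minimality of `V` (`min`), `U_ij ≤ O₂(N_kl)` for disjoint pairs (`hq`), and
`[O₂(N_ij), W_ij] ≤ ⟨r_ij⟩` (`qc`).  `Six.false`: there is none for odd `n ≥ 7`.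
-/

set_option autoImplicit false

namespace Cfsg.Agent.Omega.NSix.End

open Subgroup Cfsg Cfsg.Agent.ZN Cfsg.Agent.MinSimple.VModule
open Cfsg.Agent.Omega.S5.Def Cfsg.Agent.Omega.NSix.Base Cfsg.Agent.Omega.NSix.Basic
open Cfsg.Agent.Omega.NSix.One

universe u

variable {G : Type u} [Group G] {n : ℕ} {V L : Subgroup G} {ε : (Fin n → ZMod 2) → G}
  {W : Fin n → Fin n → Subgroup G}

/-- the situation (H1), (H2) -/
structure Six (V L : Subgroup G) (ε : (Fin n → ZMod 2) → G) (W : Fin n → Fin n → Subgroup G) :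
    Prop extends Base V L ε W where
  min : ∀ A : Subgroup G, (∀ g ∈ L, ∀ a ∈ A, g * a * g⁻¹ ∈ A) →
    (∀ a ∈ A, a * a = 1) → A ≠ ⊥ → V ≤ A
  hq : ∀ i j k l, i ≠ j → k ≠ l → i ≠ k → i ≠ l → j ≠ k → j ≠ l → UU ε i j ≤ o2 (NN ε k l)
  qc : ∀ i j, i ≠ j → ∀ x ∈ o2 (NN ε i j), ∀ w ∈ W i j,
    w * x * w⁻¹ = x ∨ w * x * w⁻¹ = x * rr ε i j

theorem uu_cenV (b : Base V L ε W) {i j : Fin n} (hij : i ≠ j) {u : G} (hu : u ∈ UU ε i j) :
    u ∈ centralizer (V : Set G) := by
  rw [mem_centralizer_iff]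
  intro v hv
  exact (b.cen i j hij u hu v (b.Vle i j hij hv)).symm

theorem uu_acts (b : Base V L ε W) {i j : Fin n} (hij : i ≠ j) {u : G} (hu : u ∈ UU ε i j) :
    Acts ε u 1 := b.ev.acts_one_iff.mpr (uu_cenV b hij hu)

theorem cenV_NN (b : Base V L ε W) (i j : Fin n) {x : G} (hx : x ∈ centralizer (V : Set G)) :
    x ∈ NN ε i j := by
  rw [mem_NN]
  exact (mem_centralizer_iff.mp hx _ (rr_mem b.ev i j)).symm

/-! ### (A) -/

theorem comm_mem (b : Base V L ε W) {i j k l : Fin n} (hij : i ≠ j) {u y : G}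
    (hu : u ∈ UU ε i j) (hy : y ∈ UU ε k l) : u * y * u⁻¹ * y⁻¹ ∈ UU ε k l :=
  mul_mem (UU_normal (cenV_NN b k l (uu_cenV b hij hu)) hy) (inv_mem hy)

theorem comm_mem' (b : Base V L ε W) {i j k l : Fin n} (hkl : k ≠ l) {u y : G}
    (hu : u ∈ UU ε i j) (hy : y ∈ UU ε k l) : u * y * u⁻¹ * y⁻¹ ∈ UU ε i j := by
  have h1 := UU_normal (cenV_NN b i j (uu_cenV b hkl hy)) (inv_mem hu)
  have h2 : u * y * u⁻¹ * y⁻¹ = u * (y * u⁻¹ * y⁻¹) := by group
  rw [h2]
  exact mul_mem hu h1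

theorem step1 [Finite G] (b : Base V L ε W) (hodd : Odd n) (hn : 7 ≤ n) {a c d e : Fin n}
    (hac : a ≠ c) (had : a ≠ d) (hae : a ≠ e) (hcd : c ≠ d) (hce : c ≠ e) (hde : d ≠ e) {u y : G}
    (hu : u ∈ UU ε a c) (hy : y ∈ UU ε a d) :
    ∃ y' ∈ UU ε a e, u * y' * u⁻¹ * y'⁻¹ = u * y * u⁻¹ * y⁻¹ := by
  obtain ⟨w, hw, hws⟩ := b.mov d e hde
  have hy' := UU_conj hws hy
  rw [swap_fix had hae, Equiv.swap_apply_left] at hy'
  refine ⟨_, hy', ?_⟩
  set k := y⁻¹ * (w * y * w⁻¹) with hk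
  have hkW : k ∈ W d e := by
    have h1 := b.wn d e hde _ (inv_mem (cenV_NN b d e (uu_cenV b had hy))) _ hw
    have h2 : k = (y⁻¹ * w * y⁻¹⁻¹) * w⁻¹ := by rw [hk]; group
    rw [h2]
    exact mul_mem h1 (inv_mem hw)
  have hk1 : Acts ε k 1 := by
    have h1 := (uu_acts b had hy).inv.mul (uu_acts b hae hy')
    rwa [inv_one, one_mul] at h1
  have hku := one b hodd hn hac hde had.symm hcd.symm hae.symm hce.symm hkW hk1 (inv_mem hu)
  have h3 : w * y * w⁻¹ = y * k := by rw [hk]; group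
  rw [h3]
  calc u * (y * k) * u⁻¹ * (y * k)⁻¹ = u * y * (k * u⁻¹ * k⁻¹) * y⁻¹ := by group
    _ = _ := by rw [hku]

theorem step2 (b : Base V L ε W) {a c d : Fin n} (hac : a ≠ c) (had : a ≠ d) (hcd : c ≠ d) {u y : G}
    (hu : u ∈ UU ε a c) (hy : y ∈ UU ε a d) :
    ∃ y' ∈ UU ε c d, u * y' * u⁻¹ * y'⁻¹ = u * y * u⁻¹ * y⁻¹ := by
  obtain ⟨w, hw, hws⟩ := b.mov a c hac
  have hy' := UU_conj hws hy
  rw [swap_fix had.symm hcd.symm, Equiv.swap_apply_left] at hy'
  refine ⟨_, hy', ?_⟩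
  have h1 := b.cen a c hac u hu w hw
  have h2 := b.cen a c hac _ (comm_mem' b had hu hy) w hw
  have h3 : w⁻¹ * u * w = u := by rw [mul_assoc, h1]; group
  calc u * (w * y * w⁻¹) * u⁻¹ * (w * y * w⁻¹)⁻¹
      = w * ((w⁻¹ * u * w) * y * (w⁻¹ * u * w)⁻¹ * y⁻¹) * w⁻¹ := by group
    _ = w * (u * y * u⁻¹ * y⁻¹) * w⁻¹ := by rw [h3]
    _ = _ := by rw [← h2]; group

section

variable [Finite G] (b : Base V L ε W) (hodd : Odd n) (hn : 7 ≤ n)
include hodd hn b

theorem s1 {a c d e : Fin n} (hac : a ≠ c) (had : a ≠ d) (hae : a ≠ e) (hcd : c ≠ d) {u y : G}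
    (hu : u ∈ UU ε a c) (hy : y ∈ UU ε a d) : u * y * u⁻¹ * y⁻¹ ∈ UU ε a e := by
  by_cases h1 : e = c
  · subst h1; exact comm_mem' b had hu hy
  by_cases h2 : e = d
  · subst h2; exact comm_mem b hac hu hy
  obtain ⟨y', hy', h3⟩ := step1 b hodd hn hac had hae hcd (Ne.symm h1) (Ne.symm h2) hu hy
  rw [← h3]
  exact comm_mem b hac hu hy'

theorem s2 {a c d e : Fin n} (hac : a ≠ c) (had : a ≠ d) (hce : c ≠ e) (hcd : c ≠ d) {u y : G}
    (hu : u ∈ UU ε a c) (hy : y ∈ UU ε a d) : u * y * u⁻¹ * y⁻¹ ∈ UU ε c e := by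
  obtain ⟨y', hy', h3⟩ := step2 b hac had hcd hu hy
  rw [← h3]
  rw [UU_symm b.ev] at hu
  exact s1 b hodd hn hac.symm hcd hce had hu hy'

theorem s3 {a c d e : Fin n} (hac : a ≠ c) (had : a ≠ d) (hde : d ≠ e) (hcd : c ≠ d) {u y : G}
    (hu : u ∈ UU ε a c) (hy : y ∈ UU ε a d) : u * y * u⁻¹ * y⁻¹ ∈ UU ε d e := by
  have h1 := inv_mem (s2 b hodd hn had hac hde hcd.symm hy hu)
  have h2 : (y * u * y⁻¹ * u⁻¹)⁻¹ = u * y * u⁻¹ * y⁻¹ := by group
  rwa [h2] at h1

theorem s4 {a c d e f : Fin n} (hac : a ≠ c) (had : a ≠ d) (hcd : c ≠ d) (hef : e ≠ f) {u y : G}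
    (hu : u ∈ UU ε a c) (hy : y ∈ UU ε a d) : u * y * u⁻¹ * y⁻¹ ∈ UU ε e f := by
  by_cases h1 : e = a
  · subst h1; exact s1 b hodd hn hac had hef hcd hu hy
  by_cases h2 : e = c
  · subst h2; exact s2 b hodd hn hac had hef hcd hu hy
  by_cases h3 : e = d
  · subst h3; exact s3 b hodd hn hac had hef hcd hu hy
  obtain ⟨y', hy', h4⟩ := step1 b hodd hn hac had (Ne.symm h1) hcd (Ne.symm h2) (Ne.symm h3) hu hy
  rw [← h4]
  exact s3 b hodd hn hac (Ne.symm h1) hef (Ne.symm h2) hu hy'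

end

namespace Six

theorem inter (b : Six V L ε W) (hn : 3 ≤ n) {x : G} (hx : ∀ i j, i ≠ j → x ∈ UU ε i j) : x = 1 := by
  let A : Subgroup G :=
    { carrier := {x | ∀ i j, i ≠ j → x ∈ UU ε i j}
      one_mem' := fun _ _ _ => one_mem _
      mul_mem' := fun hx hy i j hij => mul_mem (hx i j hij) (hy i j hij)
      inv_mem' := fun hx i j hij => inv_mem (hx i j hij) }
  have h01 : (⟨0, by omega⟩ : Fin n) ≠ ⟨1, by omega⟩ := by
    intro h; simp at h
  by_contra hne
  have hA : A ≠ ⊥ := by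
    intro h
    have : x ∈ A := hx
    rw [h, mem_bot] at this
    exact hne this
  have hV := b.min A (by
    intro g hg a ha i j hij
    obtain ⟨σ, hσ⟩ := b.ev.perm g hg
    have h1 := UU_conj hσ (ha (σ⁻¹ i) (σ⁻¹ j) (fun h => hij (σ⁻¹.injective h)))
    have e : ∀ m, σ (σ⁻¹ m) = m := fun m => σ.apply_symm_apply m
    rwa [e, e] at h1)
    (fun a ha => uu_sq b.toBase h01 (ha _ _ h01)) hA
  have h1 := hV (zz_mem b.ev ⟨0, by omega⟩) _ _ h01
  obtain ⟨w, hw, hws⟩ := b.mov _ _ h01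
  have h2 := b.cen _ _ h01 _ h1 w hw
  have h3 := zz_conj hws ⟨0, by omega⟩
  rw [← h2, mul_inv_cancel_right, Equiv.swap_apply_left] at h3
  exact h01 (b.ev.single_inj hn h3)

variable [Finite G]

/-- (A) -/
theorem comm_share (b : Six V L ε W) (hodd : Odd n) (hn : 7 ≤ n) {a c d : Fin n} (hac : a ≠ c)
    (had : a ≠ d) (hcd : c ≠ d) {u y : G} (hu : u ∈ UU ε a c) (hy : y ∈ UU ε a d) :
    u * y = y * u := by
  have h1 := b.inter (by omega) fun e f hef => s4 b.toBase hodd hn hac had hcd hef hu hy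
  rw [mul_inv_eq_one, mul_inv_eq_iff_eq_mul] at h1
  exact h1

theorem comm_all (b : Six V L ε W) (hodd : Odd n) (hn : 7 ≤ n) {i j k l : Fin n} (hij : i ≠ j)
    (hkl : k ≠ l) {u y : G} (hu : u ∈ UU ε i j) (hy : y ∈ UU ε k l) : u * y = y * u := by
  by_cases h1 : k = i
  · subst h1
    by_cases h2 : l = j
    · subst h2; exact uu_comm b.toBase hij hu hy
    · exact b.comm_share hodd hn hij hkl (Ne.symm h2) hu hy
  by_cases h2 : l = i
  · subst h2
    by_cases h3 : k = j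
    · subst h3
      rw [UU_symm b.ev] at hy
      exact uu_comm b.toBase hij hu hy
    · rw [UU_symm b.ev] at hy
      exact b.comm_share hodd hn hij hkl.symm (Ne.symm h3) hu hy
  by_cases h3 : k = j
  · subst h3
    rw [UU_symm b.ev] at hu
    exact b.comm_share hodd hn hij.symm hkl (Ne.symm h2) hu hy
  by_cases h4 : l = j
  · subst h4
    rw [UU_symm b.ev] at hu hy
    exact b.comm_share hodd hn hij.symm hkl.symm (Ne.symm h1) hu hy
  have h5 := one b.toBase hodd hn hij hkl h1 h3 h2 h4 (uu_le_w b.toBase hkl hy)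
    (uu_acts b.toBase hkl hy) hu
  rw [mul_inv_eq_iff_eq_mul] at h5
  exact h5.symm

/-- `Y = ⟨U_p⟩` -/
def YY (ε : (Fin n → ZMod 2) → G) : Subgroup G := closure {y | ∃ i j, i ≠ j ∧ y ∈ UU ε i j}

omit [Finite G] in
theorem uu_le_YY {i j : Fin n} (hij : i ≠ j) : UU ε i j ≤ YY ε :=
  fun _ hy => subset_closure ⟨i, j, hij, hy⟩

theorem yy_comm (b : Six V L ε W) (hodd : Odd n) (hn : 7 ≤ n) {x y : G} (hx : x ∈ YY ε)
    (hy : y ∈ YY ε) : x * y = y * x := by
  have h1 : YY ε ≤ centralizer ({y | ∃ i j, i ≠ j ∧ y ∈ UU ε i j} : Set G) := by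
    unfold YY
    rw [closure_le]
    rintro x ⟨i, j, hij, hx⟩
    rw [SetLike.mem_coe, mem_centralizer_iff]
    rintro y ⟨k, l, hkl, hy⟩
    exact b.comm_all hodd hn hkl hij hy hx
  have h2 : YY ε ≤ centralizer (YY ε : Set G) := by
    conv_lhs => unfold YY
    rw [closure_le]
    rintro x ⟨i, j, hij, hx⟩
    rw [SetLike.mem_coe, mem_centralizer_iff]
    intro y hy
    exact (mem_centralizer_iff.mp (h1 hy) x ⟨i, j, hij, hx⟩).symm
  exact (mem_centralizer_iff.mp (h2 hx) y hy).symm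

theorem yy_sq (b : Six V L ε W) (hodd : Odd n) (hn : 7 ≤ n) {y : G} (hy : y ∈ YY ε) : y * y = 1 := by
  have hc := fun {u v : G} (hu : u ∈ YY ε) (hv : v ∈ YY ε) => b.yy_comm hodd hn hu hv
  unfold YY at hy
  induction hy using closure_induction with
  | mem x hx =>
    obtain ⟨i, j, hij, hx⟩ := hx
    exact uu_sq b.toBase hij hx
  | one => rw [one_mul]
  | mul x y hx hy h1 h2 =>
    calc x * y * (x * y) = x * (y * x) * y := by group
      _ = x * (x * y) * y := by rw [hc hy hx]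
      _ = (x * x) * (y * y) := by group
      _ = 1 := by rw [h1, h2, one_mul]
  | inv x hx h1 =>
    calc x⁻¹ * x⁻¹ = (x * x)⁻¹ := by group
      _ = 1 := by rw [h1, inv_one]

omit [Finite G] in
theorem yy_conj (b : Six V L ε W) {g y : G} (hg : g ∈ L) (hy : y ∈ YY ε) :
    g * y * g⁻¹ ∈ YY ε := by
  obtain ⟨σ, hσ⟩ := b.ev.perm g hg
  unfold YY at hy ⊢
  induction hy using closure_induction with
  | mem x hx =>
    obtain ⟨i, j, hij, hx⟩ := hx
    exact subset_closure ⟨σ i, σ j, fun h => hij (σ.injective h), UU_conj hσ hx⟩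
  | one => rw [mul_one, mul_inv_cancel]; exact one_mem _
  | mul x y _ _ hx hy =>
    have : g * (x * y) * g⁻¹ = (g * x * g⁻¹) * (g * y * g⁻¹) := by group
    rw [this]; exact mul_mem hx hy
  | inv x _ hx =>
    have : g * x⁻¹ * g⁻¹ = (g * x * g⁻¹)⁻¹ := by group
    rw [this]; exact inv_mem hx

/-- `C_Y(F_L) = 1` -/
theorem fix (b : Six V L ε W) (hodd : Odd n) (hn : 7 ≤ n) {t : G} (ht : t ∈ YY ε)
    (hf : ∀ i j, i ≠ j → ∀ w ∈ W i j, w * t * w⁻¹ = t) : t = 1 := by
  let A : Subgroup G :=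
    { carrier := {t | t ∈ YY ε ∧ ∀ i j, i ≠ j → ∀ w ∈ W i j, w * t * w⁻¹ = t}
      one_mem' := ⟨one_mem _, fun _ _ _ w _ => by group⟩
      mul_mem' := fun {x y} hx hy => ⟨mul_mem hx.1 hy.1, fun i j hij w hw => by
        calc w * (x * y) * w⁻¹ = (w * x * w⁻¹) * (w * y * w⁻¹) := by group
          _ = x * y := by rw [hx.2 i j hij w hw, hy.2 i j hij w hw]⟩
      inv_mem' := fun {x} hx => ⟨inv_mem hx.1, fun i j hij w hw => by
        calc w * x⁻¹ * w⁻¹ = (w * x * w⁻¹)⁻¹ := by group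
          _ = x⁻¹ := by rw [hx.2 i j hij w hw]⟩ }
  have h01 : (⟨0, by omega⟩ : Fin n) ≠ ⟨1, by omega⟩ := by
    intro h; simp at h
  by_contra hne
  have hA : A ≠ ⊥ := by
    intro h
    have : t ∈ A := ⟨ht, hf⟩
    rw [h, mem_bot] at this
    exact hne this
  have hV := b.min A (by
    rintro g hg a ⟨ha, ha2⟩
    refine ⟨b.yy_conj hg ha, fun i j hij w hw => ?_⟩
    obtain ⟨σ, hσ⟩ := b.ev.perm g hg
    have h1 := b.wc _ _ hσ.inv i j hij w hw
    have h2 := ha2 _ _ (fun h => hij (σ⁻¹.injective h)) _ h1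
    rw [inv_inv] at h2
    calc w * (g * a * g⁻¹) * w⁻¹ = g * ((g⁻¹ * w * g) * a * (g⁻¹ * w * g)⁻¹) * g⁻¹ := by group
      _ = g * a * g⁻¹ := by rw [h2])
    (fun a ha => b.yy_sq hodd hn ha.1) hA
  have h1 := (hV (zz_mem b.ev ⟨0, by omega⟩)).2 _ _ h01
  obtain ⟨w, hw, hws⟩ := b.mov _ _ h01
  have h3 := h1 w hw
  rw [zz_conj hws, Equiv.swap_apply_left] at h3
  exact h01 (b.ev.single_inj (by omega) h3.symm)

omit [Finite G] in
/-- induction on the elements of `V` -/
theorem v_ind (b : Six V L ε W) (P : G → Prop) (h1 : P 1) (hz : ∀ k x, x ∈ V → P x → P (zz ε k * x)) :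
    ∀ v ∈ V, P v := by
  have key : ∀ S : Finset (Fin n), P (ε (∑ k ∈ S, Pi.single k 1)) := by
    intro S
    induction S using Finset.induction_on with
    | empty => rw [Finset.sum_empty, b.ev.zero]; exact h1
    | insert k S hk ih =>
      rw [Finset.sum_insert hk, b.ev.add]
      exact hz k _ (b.ev.mem _) ih
  intro v hv
  obtain ⟨x, rfl⟩ := b.ev.surj v hv
  have h1 : x = ∑ k ∈ Finset.univ.filter (fun k => x k ≠ 0), Pi.single k 1 := by
    funext m
    rw [Finset.sum_apply]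
    by_cases hm : x m = 0
    · rw [hm, Finset.sum_eq_zero]
      intro k hk
      have : m ≠ k := by
        rintro rfl
        exact (Finset.mem_filter.mp hk).2 hm
      exact Pi.single_eq_of_ne this _
    · rw [Finset.sum_eq_single m]
      · rw [Pi.single_eq_same]; exact Tv.z2_one hm
      · intro k _ hk
        exact Pi.single_eq_of_ne (Ne.symm hk) _
      · intro h0
        exfalso
        apply h0
        rw [Finset.mem_filter]
        exact ⟨Finset.mem_univ _, hm⟩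
  rw [h1]
  exact key _

omit [Finite G] in
theorem exists_off (hn : 6 ≤ n) (a c d e : Fin n) : ∃ k l : Fin n, k ≠ l ∧
    (k ≠ a ∧ k ≠ c ∧ k ≠ d ∧ k ≠ e) ∧ (l ≠ a ∧ l ≠ c ∧ l ≠ d ∧ l ≠ e) := by
  have hcard : 1 < (Finset.univ \ {a, c, d, e} : Finset (Fin n)).card := by
    have h1 := Finset.le_card_sdiff {a, c, d, e} (Finset.univ : Finset (Fin n))
    rw [Finset.card_univ, Fintype.card_fin] at h1
    have h2 : ({a, c, d, e} : Finset (Fin n)).card ≤ 4 := Finset.card_le_four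
    omega
  obtain ⟨k, hk, l, hl, hkl⟩ := Finset.one_lt_card.mp hcard
  simp only [Finset.mem_sdiff, Finset.mem_univ, true_and, Finset.mem_insert,
    Finset.mem_singleton, not_or] at hk hl
  exact ⟨k, l, hkl, hk, hl⟩

omit [Finite G] in
theorem v_le_YY (b : Six V L ε W) (hn : 7 ≤ n) : V ≤ YY ε := by
  refine b.v_ind (fun x => x ∈ YY ε) (one_mem _) ?_
  intro k x _ hx
  obtain ⟨i, j, hij, hi, hj⟩ := exists_off (by omega) k k k k
  exact mul_mem (uu_le_YY hij (zz_mem_UU (Ne.symm hi.1) (Ne.symm hj.1))) hx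

/-- `t` is acted on by `W_p` as a vector with a transvection -/
structure Good (ε : (Fin n → ZMod 2) → G) (W : Fin n → Fin n → Subgroup G) (t : G) : Prop where
  triv : ∀ i j, i ≠ j → ∀ w ∈ W i j, Acts ε w 1 → w * t * w⁻¹ = t
  act : ∀ i j, i ≠ j → ∀ w ∈ W i j, w * t * w⁻¹ = t ∨ w * t * w⁻¹ = t * rr ε i j

open Classical in
/-- the value of `f_ij` at `t` -/
noncomputable def fv (W : Fin n → Fin n → Subgroup G) (t : G) (i j : Fin n) : ZMod 2 :=
  if ∀ w ∈ W i j, w * t * w⁻¹ = t then 0 else 1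

omit [Finite G] in
theorem fv_spec (b : Six V L ε W) {t : G} (h : Good ε W t) {i j : Fin n} (hij : i ≠ j) {w : G}
    (hw : w ∈ W i j) (hs : Acts ε w (Equiv.swap i j)) :
    w * t * w⁻¹ = t * pw (rr ε i j) (fv W t i j) := by
  unfold fv
  by_cases hc : ∀ w ∈ W i j, w * t * w⁻¹ = t
  · rw [if_pos hc, pw_zero, mul_one]
    exact hc w hw
  · rw [if_neg hc, pw_one]
    push Not at hc
    obtain ⟨x, hx, hxt⟩ := hc
    have hx2 := (h.act i j hij x hx).resolve_left hxt
    rcases b.act i j hij x hx with hx1 | hx1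
    · exact absurd (h.triv i j hij x hx hx1) hxt
    · have h1 : Acts ε (x⁻¹ * w) 1 := by
        have := hx1.inv.mul hs
        rwa [inv_mul_cancel] at this
      have h2 := h.triv i j hij _ (mul_mem (inv_mem hx) hw) h1
      calc w * t * w⁻¹ = x * ((x⁻¹ * w) * t * (x⁻¹ * w)⁻¹) * x⁻¹ := by group
        _ = _ := by rw [h2, hx2]

omit [Finite G] in
theorem fv_symm (b : Six V L ε W) (t : G) {i j : Fin n} (hij : i ≠ j) :
    fv W t i j = fv W t j i := by
  unfold fv
  rw [w_symm b.toBase hij]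

omit [Finite G] in
/-- `f_13 = f_12 + f_23` -/
theorem fv_add (b : Six V L ε W) (hn : 3 ≤ n) {t : G} (h : Good ε W t) {i j k : Fin n}
    (hij : i ≠ j) (hjk : j ≠ k) (hik : i ≠ k) : fv W t i k = fv W t i j + fv W t j k := by
  obtain ⟨w, hw, hws⟩ := b.mov i j hij
  obtain ⟨y, hy, hys⟩ := b.mov j k hjk
  have hx := b.wc y _ hys i j hij w hw
  rw [swap_fix hij hik, Equiv.swap_apply_left] at hx
  have hxs : Acts ε (y * w * y⁻¹) (Equiv.swap i k) := by
    have h1 := hys.conj hws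
    have h2 : Equiv.swap j k * Equiv.swap i j * (Equiv.swap j k)⁻¹ = Equiv.swap i k := by
      have h3 := Equiv.swap_apply_apply (Equiv.swap j k) i j
      rw [swap_fix hij hik, Equiv.swap_apply_left] at h3
      exact h3.symm
    rwa [h2] at h1
  have e1 := fv_spec b h hik hx hxs
  have e2 := fv_spec b h hij hw hws
  have e3 := fv_spec b h hjk hy hys
  have e3' := fv_spec b h hjk (inv_mem hy) (by
    have := hys.inv
    rwa [Equiv.swap_inv] at this)
  -- conjugation of the pairs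
  have p1 : ∀ s, w * pw (rr ε j k) s * w⁻¹ = pw (rr ε i k) s := by
    intro s
    rcases Tv.z2 s with h0 | h0
    · rw [h0, pw_zero, pw_zero]; group
    · rw [h0, pw_one, pw_one, rr_conj hws, Equiv.swap_apply_right, swap_fix hik.symm hjk.symm]
  have p2 : ∀ s, y * pw (rr ε i j) s * y⁻¹ = pw (rr ε i k) s := by
    intro s
    rcases Tv.z2 s with h0 | h0
    · rw [h0, pw_zero, pw_zero]; group
    · rw [h0, pw_one, pw_one, rr_conj hys, Equiv.swap_apply_left, swap_fix hij hik]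
  have p3 : ∀ s, y * pw (rr ε i k) s * y⁻¹ = pw (rr ε i j) s := by
    intro s
    rcases Tv.z2 s with h0 | h0
    · rw [h0, pw_zero, pw_zero]; group
    · rw [h0, pw_one, pw_one, rr_conj hys, Equiv.swap_apply_right, swap_fix hij hik]
  have e4 : y * w * y⁻¹ * t * (y * w * y⁻¹)⁻¹ =
      t * (pw (rr ε j k) (fv W t j k) * pw (rr ε i k) (fv W t i j) *
        pw (rr ε i j) (fv W t j k)) := by
    calc y * w * y⁻¹ * t * (y * w * y⁻¹)⁻¹
        = y * (w * (y⁻¹ * t * y⁻¹⁻¹) * w⁻¹) * y⁻¹ := by group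
      _ = y * ((w * t * w⁻¹) * (w * pw (rr ε j k) (fv W t j k) * w⁻¹)) * y⁻¹ := by
          rw [e3']; group
      _ = y * (t * pw (rr ε i j) (fv W t i j) * pw (rr ε i k) (fv W t j k)) * y⁻¹ := by
          rw [e2, p1]
      _ = (y * t * y⁻¹) * (y * pw (rr ε i j) (fv W t i j) * y⁻¹) *
            (y * pw (rr ε i k) (fv W t j k) * y⁻¹) := by group
      _ = _ := by rw [e3, p2, p3]; group
  rw [e4] at e1
  have e5 := mul_left_cancel e1
  -- compare
  have hik1 := rr_ne_one b.ev hn hik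
  have hij1 := rr_ne_one b.ev hn hij
  have q1 : rr ε j k * rr ε i j = rr ε i k := by
    rw [b.ev.comm_mem (rr_mem b.ev j k) (rr_mem b.ev i j), rr_add b.ev]
  rcases Tv.z2 (fv W t j k) with h1 | h1 <;> rcases Tv.z2 (fv W t i j) with h2 | h2 <;>
    rcases Tv.z2 (fv W t i k) with h3 | h3 <;> rw [h1, h2, h3] at e5 <;> rw [h1, h2, h3]
  · decide
  · simp only [pw_zero, pw_one, one_mul, mul_one] at e5
    exact absurd e5.symm hik1
  · simp only [pw_zero, pw_one, one_mul, mul_one] at e5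
    exact absurd e5 hik1
  · decide
  · simp only [pw_zero, pw_one, mul_one] at e5
    rw [q1] at e5
    exact absurd e5 hik1
  · decide
  · decide
  · simp only [pw_one] at e5
    rw [mul_assoc, b.ev.comm_mem (rr_mem b.ev i k) (rr_mem b.ev i j), ← mul_assoc, q1,
      rr_sq b.ev] at e5
    exact absurd e5.symm hik1

omit [Finite G] in
/-- every good element commuting with `V` differs from a fixed one by an element of `V` -/
theorem exists_fix (b : Six V L ε W) (hn : 3 ≤ n) {t : G} (h : Good ε W t) :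
    ∃ v ∈ V, ∀ i j, i ≠ j → ∀ w ∈ W i j, w * (t * v) * w⁻¹ = t * v := by
  classical
  set o : Fin n := ⟨0, by omega⟩ with ho
  set x : Fin n → ZMod 2 := fun i => if i = o then 0 else fv W t o i with hx
  have hval : ∀ i j, i ≠ j → fv W t i j = x i + x j := by
    intro i j hij
    by_cases h1 : i = o
    · have h2 : j ≠ o := fun h2 => hij (h1.trans h2.symm)
      rw [hx]
      simp only [if_pos h1, if_neg h2, zero_add]
      rw [h1]
    · by_cases h2 : j = o
      · rw [hx]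
        simp only [if_neg h1, if_pos h2, add_zero]
        rw [h2, fv_symm b _ h1]
      · rw [hx]
        simp only [if_neg h1, if_neg h2]
        have h3 := fv_add b hn h (Ne.symm h1) hij (Ne.symm h2)
        rw [h3, ← add_assoc, Tv.z2_add, zero_add]
  have hswap : ∀ i j : Fin n, i ≠ j → x ∘ (Equiv.swap i j).symm =
      x + (x i + x j) • (Pi.single i 1 + Pi.single j 1) := by
    intro i j hij
    funext k
    rw [Function.comp_apply, Equiv.symm_swap, Pi.add_apply, Pi.smul_apply, Pi.add_apply]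
    by_cases h1 : k = i
    · subst h1
      rw [Equiv.swap_apply_left, Pi.single_eq_same, Pi.single_eq_of_ne hij, add_zero, smul_eq_mul,
        mul_one, ← add_assoc, Tv.z2_add, zero_add]
    by_cases h2 : k = j
    · subst h2
      rw [Equiv.swap_apply_right, Pi.single_eq_same, Pi.single_eq_of_ne h1, zero_add, smul_eq_mul,
        mul_one, add_comm (x i), ← add_assoc, Tv.z2_add, zero_add]
    · rw [Equiv.swap_apply_of_ne_of_ne h1 h2, Pi.single_eq_of_ne h1, Pi.single_eq_of_ne h2,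
        add_zero, smul_zero, add_zero]
  have hact : ∀ i j, i ≠ j → ∀ w, Acts ε w (Equiv.swap i j) →
      w * ε x * w⁻¹ = ε x * pw (rr ε i j) (x i + x j) := by
    intro i j hij w hw
    rw [hw x, hswap i j hij, b.ev.add]
    congr 1
    rcases Tv.z2 (x i + x j) with h1 | h1
    · rw [h1, zero_smul, pw_zero, b.ev.zero]
    · rw [h1, one_smul, pw_one, b.ev.add]
      rfl
  refine ⟨ε x, b.ev.mem x, fun i j hij w hw => ?_⟩
  rcases b.act i j hij w hw with h1 | h1
  · have h2 := h.triv i j hij w hw h1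
    have h3 : w * ε x * w⁻¹ = ε x := h1 x
    calc w * (t * ε x) * w⁻¹ = (w * t * w⁻¹) * (w * ε x * w⁻¹) := by group
      _ = _ := by rw [h2, h3]
  · have h2 := fv_spec b h hij hw h1
    have h3 := hact i j hij w h1
    have hpV : pw (rr ε i j) (x i + x j) ∈ V := by
      rcases Tv.z2 (x i + x j) with h0 | h0
      · rw [h0, pw_zero]; exact one_mem _
      · rw [h0, pw_one]; exact rr_mem b.ev i j
    calc w * (t * ε x) * w⁻¹ = (w * t * w⁻¹) * (w * ε x * w⁻¹) := by group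
      _ = t * (pw (rr ε i j) (x i + x j) * ε x) * pw (rr ε i j) (x i + x j) := by
          rw [h2, h3, hval i j hij]; group
      _ = t * (ε x * pw (rr ε i j) (x i + x j)) * pw (rr ε i j) (x i + x j) := by
          rw [b.ev.comm_mem hpV (b.ev.mem x)]
      _ = t * ε x * (pw (rr ε i j) (x i + x j) * pw (rr ε i j) (x i + x j)) := by group
      _ = t * ε x := by rw [b.ev.sq_mem hpV, mul_one]

/-- good elements of `Y` are in `V` -/
theorem good_mem (b : Six V L ε W) (hodd : Odd n) (hn : 7 ≤ n) {t : G} (ht : t ∈ YY ε)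
    (h : Good ε W t) : t ∈ V := by
  obtain ⟨v, hv, hf⟩ := b.exists_fix (by omega) h
  have h1 := b.fix hodd hn (mul_mem ht (b.v_le_YY hn hv)) hf
  have h2 : t = v⁻¹ := eq_inv_of_mul_eq_one_left h1
  rw [h2]
  exact inv_mem hv

/-- an element conjugating all points into `V` normalises `V` -/
theorem mem_norm (b : Six V L ε W) {g : G} (hg : ∀ k, g * zz ε k * g⁻¹ ∈ V) :
    g ∈ normalizer (V : Set G) := by
  apply mem_normalizer_of_map_le
  rintro _ ⟨v, hv, rfl⟩
  change g * v * g⁻¹ ∈ V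
  revert v hv
  refine b.v_ind (fun v => g * v * g⁻¹ ∈ V) ?_ ?_
  · rw [mul_one, mul_inv_cancel]; exact one_mem _
  · intro k x _ hx
    have : g * (zz ε k * x) * g⁻¹ = (g * zz ε k * g⁻¹) * (g * x * g⁻¹) := by group
    change g * (zz ε k * x) * g⁻¹ ∈ V
    rw [this]
    exact mul_mem (hg k) hx

/-- (B): `C_G(r_12^⊥) ≤ N_G(V)` -/
theorem cen_perp (b : Six V L ε W) (hodd : Odd n) (hn : 7 ≤ n) {i j : Fin n} (hij : i ≠ j) {g : G}
    (hg : ∀ k, k ≠ i → k ≠ j → g * zz ε k * g⁻¹ = zz ε k) : g ∈ normalizer (V : Set G) := by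
  have hN : ∀ k l, k ≠ i → k ≠ j → l ≠ i → l ≠ j → g ∈ NN ε k l := by
    intro k l h1 h2 h3 h4
    rw [mem_NN']
    unfold rr
    calc g * (zz ε k * zz ε l) * g⁻¹ = (g * zz ε k * g⁻¹) * (g * zz ε l * g⁻¹) := by group
      _ = _ := by rw [hg k h1 h2, hg l h3 h4]
  set z := zz ε i * (g * zz ε i * g⁻¹) with hz
  have hzU : ∀ k l, k ≠ i → k ≠ j → l ≠ i → l ≠ j → z ∈ UU ε k l := by
    intro k l h1 h2 h3 h4
    exact mul_mem (zz_mem_UU (Ne.symm h1) (Ne.symm h3))
      (UU_normal (hN k l h1 h2 h3 h4) (zz_mem_UU (Ne.symm h1) (Ne.symm h3)))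
  have hgood : Good ε W z := by
    constructor
    · intro a c hac w hw hw1
      obtain ⟨k, l, hkl, ⟨k1, k2, k3, k4⟩, l1, l2, l3, l4⟩ := exists_off (by omega) i j a c
      exact one b.toBase hodd hn hkl hac (Ne.symm k3) (Ne.symm l3) (Ne.symm k4) (Ne.symm l4) hw hw1
        (hzU k l k1 k2 l1 l2)
    · intro a c hac w hw
      obtain ⟨k, l, hkl, ⟨k1, k2, k3, k4⟩, l1, l2, l3, l4⟩ := exists_off (by omega) i j a c
      exact b.tra k l a c hkl hac k3 k4 l3 l4 _ (hzU k l k1 k2 l1 l2) _ hw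
  obtain ⟨k0, l0, hkl0, ⟨k1, k2, -, -⟩, l1, l2, -, -⟩ := exists_off (by omega) i j i j
  have hzV := b.good_mem hodd hn (uu_le_YY hkl0 (hzU k0 l0 k1 k2 l1 l2)) hgood
  have hi : g * zz ε i * g⁻¹ ∈ V := by
    have h1 : g * zz ε i * g⁻¹ = (zz ε i)⁻¹ * z := by rw [hz]; group
    rw [h1]
    exact mul_mem (inv_mem (zz_mem b.ev i)) hzV
  have hr : g * rr ε i j * g⁻¹ = rr ε i j := by
    refine compl_rr b.ev hij (fun _ x => g * x * g⁻¹ = x) (by group) ?_
    intro k h1 h2 _ x hx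
    calc g * (zz ε k * x) * g⁻¹ = (g * zz ε k * g⁻¹) * (g * x * g⁻¹) := by group
      _ = _ := by rw [hg k h1 h2, hx]
  refine b.mem_norm fun k => ?_
  by_cases h1 : k = i
  · subst h1; exact hi
  by_cases h2 : k = j
  · subst h2
    have h3 : zz ε k = zz ε i * rr ε i k := by
      unfold rr
      rw [← mul_assoc, zz_sq b.ev, one_mul]
    have h4 : g * zz ε k * g⁻¹ = (g * zz ε i * g⁻¹) * (g * rr ε i k * g⁻¹) := by
      rw [h3]; group
    rw [h4, hr]
    exact mul_mem hi (rr_mem b.ev i k)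
  · rw [hg k h1 h2]
    exact zz_mem b.ev k

omit [Finite G] in
theorem norm_o2 (L : Subgroup G) : normalizer (L : Set G) ≤ normalizer (o2 L : Set G) := by
  have key : ∀ g ∈ normalizer (L : Set G), ∀ x ∈ o2 L, g * x * g⁻¹ ∈ o2 L := by
    intro g hg x hx
    have h1 : (o2 L).map (MulAut.conj g).toMonoidHom ≤ o2 L := by
      apply le_o2
      · rintro _ ⟨y, hy, rfl⟩
        exact (mem_normalizer_iff.mp hg y).mp (o2_le L hy)
      · exact (o2_isPGroup L).map _
      · intro l hl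
        rw [mem_normalizer_iff]
        have key2 : ∀ l ∈ L, ∀ y ∈ (o2 L).map (MulAut.conj g).toMonoidHom,
            l * y * l⁻¹ ∈ (o2 L).map (MulAut.conj g).toMonoidHom := by
          rintro l hl _ ⟨y, hy, rfl⟩
          have h2 : g⁻¹ * l * g ∈ L := by
            have := (mem_normalizer_iff.mp (inv_mem hg) l).mp hl
            rwa [inv_inv] at this
          refine ⟨(g⁻¹ * l * g) * y * (g⁻¹ * l * g)⁻¹,
            (mem_normalizer_iff.mp (le_normalizer_o2 L h2) y).mp hy, ?_⟩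
          change g * ((g⁻¹ * l * g) * y * (g⁻¹ * l * g)⁻¹) * g⁻¹ = l * (g * y * g⁻¹) * l⁻¹
          group
        refine fun y => ⟨key2 l hl y, fun hy => ?_⟩
        have := key2 l⁻¹ (inv_mem hl) _ hy
        have h3 : l⁻¹ * (l * y * l⁻¹) * l⁻¹⁻¹ = y := by group
        rwa [h3] at this
    exact h1 ⟨x, hx, rfl⟩
  intro g hg
  rw [mem_normalizer_iff]
  refine fun x => ⟨key g hg x, fun hx => ?_⟩
  have := key g⁻¹ (inv_mem hg) _ hx
  have e : g⁻¹ * (g * x * g⁻¹) * g⁻¹⁻¹ = x := by group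
  rwa [e] at this

omit [Finite G] in
theorem norm_cen (X : Subgroup G) :
    normalizer (X : Set G) ≤ normalizer ((centralizer (X : Set G) : Subgroup G) : Set G) := by
  have key : ∀ g ∈ normalizer (X : Set G), ∀ x ∈ centralizer (X : Set G),
      g * x * g⁻¹ ∈ centralizer (X : Set G) := by
    intro g hg x hx
    rw [mem_centralizer_iff] at hx ⊢
    intro y hy
    have h1 : g⁻¹ * y * g ∈ X := by
      have := (mem_normalizer_iff.mp (inv_mem hg) y).mp hy
      rwa [inv_inv] at this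
    have h2 := hx _ h1
    calc y * (g * x * g⁻¹) = g * ((g⁻¹ * y * g) * x) * g⁻¹ := by group
      _ = g * (x * (g⁻¹ * y * g)) * g⁻¹ := by rw [h2]
      _ = _ := by group
  intro g hg
  rw [mem_normalizer_iff]
  refine fun x => ⟨key g hg x, fun hx => ?_⟩
  have := key g⁻¹ (inv_mem hg) _ hx
  have e : g⁻¹ * (g * x * g⁻¹) * g⁻¹⁻¹ = x := by group
  rwa [e] at this

omit [Finite G] in
theorem uu_norm (i j : Fin n) : NN ε i j ≤ normalizer (UU ε i j : Set G) := by
  intro g hg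
  rw [mem_normalizer_iff]
  refine fun x => ⟨UU_normal hg, fun hx => ?_⟩
  have := UU_normal (inv_mem hg) hx
  have e : g⁻¹ * (g * x * g⁻¹) * g⁻¹⁻¹ = x := by group
  rwa [e] at this

omit [Finite G] in
theorem uu_two (b : Six V L ε W) {i j : Fin n} (hij : i ≠ j) : IsPGroup 2 (UU ε i j) := by
  intro u
  refine ⟨1, ?_⟩
  rw [pow_one, pow_two]
  exact Subtype.ext (uu_sq b.toBase hij u.2)

omit [Finite G] in
theorem uu_le_NN (b : Six V L ε W) {i j : Fin n} (hij : i ≠ j) (k l : Fin n) :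
    UU ε i j ≤ NN ε k l := fun _ hu => cenV_NN b.toBase k l (uu_cenV b.toBase hij hu)

/-- (C), the pairs which share one letter -/
theorem share_le (b : Six V L ε W) (hodd : Odd n) (hn : 7 ≤ n) {a c d : Fin n} (hac : a ≠ c)
    (had : a ≠ d) : UU ε a c ≤ o2 (NN ε a d) := by
  set C : Subgroup G := NN ε a d ⊓ centralizer (UU ε a d : Set G) with hC
  have hCV : C ≤ normalizer (V : Set G) := by
    intro g hg
    refine b.cen_perp hodd hn had fun k h1 h2 => ?_
    have h3 := mem_centralizer_iff.mp hg.2 _ (zz_mem_UU (ε := ε) h1 h2)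
    rw [← h3, mul_inv_cancel_right]
  have hNC : NN ε a d ≤ normalizer (C : Set G) := by
    intro g hg
    have h1 := norm_cen _ (uu_norm (ε := ε) a d hg)
    rw [mem_normalizer_iff] at h1 ⊢
    intro x
    rw [hC]
    constructor
    · rintro ⟨h2, h3⟩
      exact Subgroup.mem_inf.mpr ⟨mul_mem (mul_mem hg h2) (inv_mem hg), (h1 x).mp h3⟩
    · rintro ⟨h2, h3⟩
      refine Subgroup.mem_inf.mpr ⟨?_, (h1 x).mpr h3⟩
      have h4 := mul_mem (mul_mem (inv_mem hg) h2) hg
      have h5 : g⁻¹ * (g * x * g⁻¹) * g = x := by group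
      rwa [h5] at h4
  have h1 : UU ε a c ≤ o2 (centralizer (V : Set G)) := by
    apply le_o2
    · exact fun _ hu => uu_cenV b.toBase hac hu
    · exact b.uu_two hac
    · exact fun _ hx => uu_norm a c (cenV_NN b.toBase a c hx)
  have h2 : UU ε a c ≤ C := by
    refine le_inf (b.uu_le_NN hac a d) fun u hu => ?_
    rw [mem_centralizer_iff]
    intro y hy
    exact b.comm_all hodd hn had hac hy hu
  have h3 : o2 (centralizer (V : Set G)) ⊓ C ≤ o2 C := by
    apply le_o2 inf_le_right ((o2_isPGroup _).to_le inf_le_left)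
    intro g hg
    have h4 := norm_o2 _ (norm_cen V (hCV hg))
    rw [mem_normalizer_iff] at h4 ⊢
    intro x
    constructor
    · rintro ⟨h5, h6⟩
      exact Subgroup.mem_inf.mpr ⟨(h4 x).mp h5, mul_mem (mul_mem hg h6) (inv_mem hg)⟩
    · rintro ⟨h5, h6⟩
      refine Subgroup.mem_inf.mpr ⟨(h4 x).mpr h5, ?_⟩
      have h7 := mul_mem (mul_mem (inv_mem hg) h6) hg
      have h8 : g⁻¹ * (g * x * g⁻¹) * g = x := by group
      rwa [h8] at h7
  have h4 : o2 C ≤ o2 (NN ε a d) :=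
    le_o2 ((o2_le C).trans inf_le_left) (o2_isPGroup C) (hNC.trans (norm_o2 C))
  exact (le_inf h1 h2).trans (h3.trans h4)

/-- (C) -/
theorem all_le (b : Six V L ε W) (hodd : Odd n) (hn : 7 ≤ n) {i j k l : Fin n} (hij : i ≠ j)
    (hkl : k ≠ l) : UU ε i j ≤ o2 (NN ε k l) := by
  have hself : ∀ i j : Fin n, i ≠ j → UU ε i j ≤ o2 (NN ε i j) := fun i j h =>
    le_o2 (b.uu_le_NN h i j) (b.uu_two h) (uu_norm i j)
  by_cases h1 : k = i
  · subst h1
    exact b.share_le hodd hn hij hkl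
  by_cases h2 : l = i
  · subst h2
    rw [NN_symm b.ev]
    exact b.share_le hodd hn hij hkl.symm
  by_cases h3 : k = j
  · subst h3
    rw [UU_symm b.ev]
    exact b.share_le hodd hn hij.symm hkl
  by_cases h4 : l = j
  · subst h4
    rw [UU_symm b.ev, NN_symm b.ev]
    exact b.share_le hodd hn hij.symm hkl.symm
  exact b.hq i j k l hij hkl (Ne.symm h1) (Ne.symm h2) (Ne.symm h3) (Ne.symm h4)

/-- (D), the exchange -/
theorem exch (b : Six V L ε W) (hodd : Odd n) (hn : 7 ≤ n) {i j k : Fin n} (hij : i ≠ j)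
    (hik : i ≠ k) (hjk : j ≠ k) {y : G} (hy : y ∈ UU ε i j) : ∃ v ∈ V, y * v ∈ UU ε k j := by
  obtain ⟨w, hw, hws⟩ := b.mov i k hik
  have h1 := UU_conj hws hy
  rw [Equiv.swap_apply_left, swap_fix hij.symm hjk] at h1
  rcases b.qc i k hik y (b.all_le hodd hn hij hik hy) w hw with h2 | h2
  · rw [h2] at h1
    exact ⟨1, one_mem _, by rwa [mul_one]⟩
  · rw [h2] at h1
    exact ⟨_, rr_mem b.ev i k, h1⟩

theorem move (b : Six V L ε W) (hodd : Odd n) (hn : 7 ≤ n) {i j k l : Fin n} (hij : i ≠ j)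
    (hkl : k ≠ l) {y : G} (hy : y ∈ UU ε i j) : ∃ v ∈ V, y * v ∈ UU ε k l := by
  -- first make `k` a letter of the pair
  have key : ∀ {i j : Fin n}, i ≠ j → i ≠ l → ∀ {y : G}, y ∈ UU ε i j → i = k →
      ∃ v ∈ V, y * v ∈ UU ε k l := by
    intro i j hij hil y hy hik
    subst hik
    by_cases h1 : j = l
    · subst h1
      exact ⟨1, one_mem _, by rwa [mul_one]⟩
    · rw [UU_symm b.ev] at hy ⊢
      exact b.exch hodd hn hij.symm h1 hil hy
  by_cases h1 : i = k
  · exact key hij (h1 ▸ hkl) hy h1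
  by_cases h2 : j = k
  · rw [UU_symm b.ev] at hy
    exact key hij.symm (h2 ▸ hkl) hy h2
  · obtain ⟨v, hv, h3⟩ := b.exch hodd hn hij h1 h2 hy
    obtain ⟨v', hv', h4⟩ := key (i := k) (j := j) (Ne.symm h2) hkl h3 rfl
    exact ⟨v * v', mul_mem hv hv', by rwa [← mul_assoc]⟩

/-- (D): `U_ij ≤ V` -/
theorem uu_le_V (b : Six V L ε W) (hodd : Odd n) (hn : 7 ≤ n) {i j : Fin n} (hij : i ≠ j) :
    UU ε i j ≤ V := by
  intro y hy
  refine b.good_mem hodd hn (uu_le_YY hij hy) ⟨?_, ?_⟩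
  · intro a c hac w hw hw1
    obtain ⟨k, l, hkl, ⟨k1, k2, -, -⟩, l1, l2, -, -⟩ := exists_off (by omega) a c a c
    obtain ⟨v, hv, h1⟩ := b.move hodd hn hij hkl hy
    have h2 := one b.toBase hodd hn hkl hac (Ne.symm k1) (Ne.symm l1) (Ne.symm k2) (Ne.symm l2)
      hw hw1 h1
    have h3 : w * v * w⁻¹ = v := by
      obtain ⟨x, rfl⟩ := b.ev.surj v hv
      exact hw1 x
    have h4 : w * (y * v) * w⁻¹ = (w * y * w⁻¹) * (w * v * w⁻¹) := by group
    rw [h4, h3] at h2
    exact mul_right_cancel h2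
  · intro a c hac w hw
    exact b.qc a c hac y (b.all_le hodd hn hij hac hy) w hw

/-- (E), first step -/
theorem two_norm (b : Six V L ε W) (hodd : Odd n) (hn : 7 ≤ n) {i j k l : Fin n} (hij : i ≠ j)
    (hkl : k ≠ l) (ki : k ≠ i) (kj : k ≠ j) (li : l ≠ i) (lj : l ≠ j) {g : G}
    (h1 : g ∈ NN ε i j) (h2 : g ∈ NN ε k l) : g ∈ normalizer (V : Set G) := by
  refine b.mem_norm fun m => ?_
  by_cases hm : m ≠ i ∧ m ≠ j
  · exact b.uu_le_V hodd hn hij (UU_normal h1 (zz_mem_UU hm.1 hm.2))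
  · have hm' : m ≠ k ∧ m ≠ l := by
      constructor
      · rintro rfl; exact hm ⟨ki, kj⟩
      · rintro rfl; exact hm ⟨li, lj⟩
    exact b.uu_le_V hodd hn hkl (UU_normal h2 (zz_mem_UU hm'.1 hm'.2))

/-- the elements of `U_ij` are fixed by every permutation fixing the letters off `i`, `j` -/
theorem uu_fixed (b : Six V L ε W) (hodd : Odd n) (hn : 7 ≤ n) {i j : Fin n} (hij : i ≠ j) {u x : G}
    (hu : u ∈ UU ε i j) {σ : Equiv.Perm (Fin n)} (hx : Acts ε x σ)
    (hs : ∀ m, m ≠ i → m ≠ j → σ m = m) : x * u * x⁻¹ = u := by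
  obtain ⟨y, rfl⟩ := b.ev.surj u (b.uu_le_V hodd hn hij hu)
  obtain ⟨w, hw, hws⟩ := b.mov i j hij
  have h1 := b.cen i j hij _ hu w hw
  have h2 : ε (y ∘ (Equiv.swap i j).symm) = ε y := by
    rw [← hws y, ← h1, mul_inv_cancel_right]
  have hyij : y i = y j := by
    rcases b.ev.eq_iff.mp h2 with h3 | h3
    · have h4 := congrFun h3 i
      rw [Function.comp_apply, Equiv.symm_swap, Equiv.swap_apply_left] at h4
      exact h4.symm
    · obtain ⟨k, l, hkl, ⟨k1, k2, -, -⟩, -⟩ := exists_off (by omega) i j i j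
      have h4 := congrFun h3 k
      rw [Function.comp_apply, Equiv.symm_swap, Equiv.swap_apply_of_ne_of_ne k1 k2,
        Pi.add_apply, Pi.one_apply] at h4
      exact absurd (left_eq_add.mp h4) (by decide)
  rw [hx y]
  congr 1
  funext m
  rw [Function.comp_apply]
  have hσi : ∀ m, m ≠ i → m ≠ j → σ.symm m = m := by
    intro m h3 h4
    rw [Equiv.symm_apply_eq]
    exact (hs m h3 h4).symm
  by_cases h3 : m = i ∨ m = j
  · have h4 : σ.symm m = i ∨ σ.symm m = j := by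
      by_contra hc
      rw [not_or] at hc
      have h5 := hs _ hc.1 hc.2
      rw [Equiv.apply_symm_apply] at h5
      rw [← h5] at hc
      rcases h3 with h3 | h3
      · exact hc.1 h3
      · exact hc.2 h3
    rcases h3 with h3 | h3 <;> rcases h4 with h4 | h4 <;> rw [h4, h3]
    · exact hyij.symm
    · exact hyij
  · rw [not_or] at h3
    rw [hσi m h3.1 h3.2]

end Six

end Cfsg.Agent.Omega.NSix.End

end

section


/-!
# OMEGA N6: perfect matchings

A *matching* of the odd set `Ω` is an involution `μ` with exactly one fixed point.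
-/

set_option autoImplicit false

namespace Cfsg.Agent.Omega.NSix.Mat

variable {ι : Type*} [Fintype ι] [DecidableEq ι]

/-- a perfect matching of `ι - o` -/
structure IsMat (μ : Equiv.Perm ι) (o : ι) : Prop where
  sq : ∀ x, μ (μ x) = x
  fix : ∀ x, μ x = x ↔ x = o

theorem z2cases (c : ZMod 2) : c = 0 ∨ c = 1 := by
  fin_cases c
  · exact Or.inl rfl
  · exact Or.inr rfl

omit [Fintype ι] in
/-- an odd finset has a matching compatible with `y` -/
theorem exists_on (y : ι → ZMod 2) : ∀ (t : ℕ) (A : Finset ι), A.card = 2 * t + 1 →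
    ∃ (τ : Equiv.Perm ι) (o : ι), o ∈ A ∧ (∀ x, τ (τ x) = x) ∧ (∀ x, x ∉ A → τ x = x) ∧
      (∀ x ∈ A, τ x ∈ A) ∧ (∀ x ∈ A, τ x = x ↔ x = o) ∧ ∀ x, y (τ x) = y x := by
  intro t
  induction t with
  | zero =>
    intro A hA
    obtain ⟨o, rfl⟩ := Finset.card_eq_one.mp (by omega : A.card = 1)
    refine ⟨1, o, Finset.mem_singleton_self o, fun _ => rfl, fun _ _ => rfl, fun _ h => h, ?_,
      fun _ => rfl⟩
    intro x hx
    exact ⟨fun _ => Finset.mem_singleton.mp hx, fun _ => rfl⟩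
  | succ t ih =>
    intro A hA
    -- two letters with the same value
    obtain ⟨a, ha, b, hb, hab, hy⟩ : ∃ a ∈ A, ∃ b ∈ A, a ≠ b ∧ y a = y b := by
      have h3 : 2 < A.card := by omega
      obtain ⟨a, b, c, ha, hb, hc, hab, hac, hbc⟩ := Finset.two_lt_card_iff.mp h3
      rcases z2cases (y a) with h1 | h1 <;> rcases z2cases (y b) with h2 | h2 <;>
        rcases z2cases (y c) with h3 | h3
      · exact ⟨a, ha, b, hb, hab, by rw [h1, h2]⟩
      · exact ⟨a, ha, b, hb, hab, by rw [h1, h2]⟩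
      · exact ⟨a, ha, c, hc, hac, by rw [h1, h3]⟩
      · exact ⟨b, hb, c, hc, hbc, by rw [h2, h3]⟩
      · exact ⟨b, hb, c, hc, hbc, by rw [h2, h3]⟩
      · exact ⟨a, ha, c, hc, hac, by rw [h1, h3]⟩
      · exact ⟨a, ha, b, hb, hab, by rw [h1, h2]⟩
      · exact ⟨a, ha, b, hb, hab, by rw [h1, h2]⟩
    have hA' : ((A.erase a).erase b).card = 2 * t + 1 := by
      rw [Finset.card_erase_of_mem (Finset.mem_erase.mpr ⟨hab.symm, hb⟩),
        Finset.card_erase_of_mem ha]
      omega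
    obtain ⟨τ, o, ho, h1, h2, h3, h4, h5⟩ := ih _ hA'
    have hmem : ∀ x, x ∈ (A.erase a).erase b ↔ x ≠ b ∧ x ≠ a ∧ x ∈ A := by
      intro x
      rw [Finset.mem_erase, Finset.mem_erase]
    have ta : τ a = a := h2 a (by rw [hmem]; exact fun h => h.2.1 rfl)
    have tb : τ b = b := h2 b (by rw [hmem]; exact fun h => h.1 rfl)
    have off : ∀ x, x ≠ a → x ≠ b → (Equiv.swap a b * τ) x = τ x := by
      intro x ha hb
      rw [Equiv.Perm.mul_apply, Equiv.swap_apply_of_ne_of_ne]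
      · intro h; apply ha; rw [← h1 x, h, ta]
      · intro h; apply hb; rw [← h1 x, h, tb]
    have ea : (Equiv.swap a b * τ) a = b := by rw [Equiv.Perm.mul_apply, ta, Equiv.swap_apply_left]
    have eb : (Equiv.swap a b * τ) b = a := by rw [Equiv.Perm.mul_apply, tb, Equiv.swap_apply_right]
    refine ⟨Equiv.swap a b * τ, o, ((hmem o).mp ho).2.2, ?_, ?_, ?_, ?_, ?_⟩
    · intro x
      by_cases hxa : x = a
      · rw [hxa, ea, eb]
      by_cases hxb : x = b
      · rw [hxb, eb, ea]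
      rw [off x hxa hxb, off, h1]
      · intro h; apply hxa; rw [← h1 x, h, ta]
      · intro h; apply hxb; rw [← h1 x, h, tb]
    · intro x hx
      have hxa : x ≠ a := fun h => hx (h ▸ ha)
      have hxb : x ≠ b := fun h => hx (h ▸ hb)
      rw [off x hxa hxb]
      exact h2 x (fun h => hx ((hmem x).mp h).2.2)
    · intro x hx
      by_cases hxa : x = a
      · rw [hxa, ea]; exact hb
      by_cases hxb : x = b
      · rw [hxb, eb]; exact ha
      rw [off x hxa hxb]
      exact ((hmem _).mp (h3 x ((hmem x).mpr ⟨hxb, hxa, hx⟩))).2.2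
    · intro x hx
      have hoab := (hmem o).mp ho
      by_cases hxa : x = a
      · rw [hxa, ea]
        exact ⟨fun h => absurd h.symm hab, fun h => absurd h.symm hoab.2.1⟩
      by_cases hxb : x = b
      · rw [hxb, eb]
        exact ⟨fun h => absurd h hab, fun h => absurd h.symm hoab.1⟩
      rw [off x hxa hxb]
      exact h4 x ((hmem x).mpr ⟨hxb, hxa, hx⟩)
    · intro x
      by_cases hxa : x = a
      · rw [hxa, ea, hy]
      by_cases hxb : x = b
      · rw [hxb, eb, hy]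
      rw [off x hxa hxb]
      exact h5 x

/-- a matching of `ι` containing `{i, j}` compatible with `y` -/
theorem exists_mat (hodd : Odd (Fintype.card ι)) (y : ι → ZMod 2) {i j : ι} (hij : i ≠ j)
    (hy : y i = y j) : ∃ (μ : Equiv.Perm ι) (o : ι), IsMat μ o ∧ μ i = j ∧ ∀ x, y (μ x) = y x := by
  obtain ⟨t, ht⟩ := hodd
  have h3 : 2 ≤ Fintype.card ι := by
    have := Finset.card_le_univ ({i, j} : Finset ι)
    rwa [Finset.card_pair hij] at this
  have hcard : (Finset.univ \ {i, j} : Finset ι).card = 2 * (t - 1) + 1 := by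
    rw [Finset.card_sdiff_of_subset (Finset.subset_univ _), Finset.card_univ,
      Finset.card_pair hij]
    omega
  obtain ⟨τ, o, ho, h1, h2, h3, h4, h5⟩ := exists_on y (t - 1) _ hcard
  have hmem : ∀ x, x ∈ (Finset.univ \ {i, j} : Finset ι) ↔ x ≠ i ∧ x ≠ j := by
    intro x
    simp
  have ti : τ i = i := h2 i (by rw [hmem]; exact fun h => h.1 rfl)
  have tj : τ j = j := h2 j (by rw [hmem]; exact fun h => h.2 rfl)
  have ei : (Equiv.swap i j * τ) i = j := by rw [Equiv.Perm.mul_apply, ti, Equiv.swap_apply_left]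
  have ej : (Equiv.swap i j * τ) j = i := by rw [Equiv.Perm.mul_apply, tj, Equiv.swap_apply_right]
  have off : ∀ x, x ≠ i → x ≠ j → (Equiv.swap i j * τ) x = τ x := by
    intro x ha hb
    rw [Equiv.Perm.mul_apply, Equiv.swap_apply_of_ne_of_ne]
    · intro h; apply ha; rw [← h1 x, h, ti]
    · intro h; apply hb; rw [← h1 x, h, tj]
  refine ⟨Equiv.swap i j * τ, o, ⟨?_, ?_⟩, ei, ?_⟩
  · intro x
    by_cases hxa : x = i
    · rw [hxa, ei, ej]
    by_cases hxb : x = j
    · rw [hxb, ej, ei]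
    rw [off x hxa hxb, off, h1]
    · intro h; apply hxa; rw [← h1 x, h, ti]
    · intro h; apply hxb; rw [← h1 x, h, tj]
  · intro x
    have hoab := (hmem o).mp ho
    by_cases hxa : x = i
    · rw [hxa, ei]
      exact ⟨fun h => absurd h.symm hij, fun h => absurd h.symm hoab.1⟩
    by_cases hxb : x = j
    · rw [hxb, ej]
      exact ⟨fun h => absurd h hij, fun h => absurd h.symm hoab.2⟩
    rw [off x hxa hxb]
    exact h4 x ((hmem x).mpr ⟨hxa, hxb⟩)
  · intro x
    by_cases hxa : x = i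
    · rw [hxa, ei, hy]
    by_cases hxb : x = j
    · rw [hxb, ej, hy]
    rw [off x hxa hxb]
    exact h5 x

theorem IsMat.cycleType {μ : Equiv.Perm ι} {o : ι} (h : IsMat μ o) :
    μ.cycleType = Multiset.replicate ((Fintype.card ι - 1) / 2) 2 := by
  have h1 : ∀ n ∈ μ.cycleType, n = 2 := by
    intro n hn
    have h2 := Equiv.Perm.two_le_of_mem_cycleType hn
    have h3 := Equiv.Perm.dvd_of_mem_cycleType hn
    have h4 : μ ^ 2 = 1 := by
      ext x
      rw [pow_two, Equiv.Perm.mul_apply, h.sq]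
      rfl
    have h5 := Nat.le_of_dvd (by norm_num) (h3.trans (orderOf_dvd_of_pow_eq_one h4))
    omega
  have h2 := Multiset.eq_replicate_card.mpr h1
  have h3 : μ.support = Finset.univ.erase o := by
    ext x
    rw [Equiv.Perm.mem_support, Finset.mem_erase, ne_eq, h.fix]
    simp
  have h4 := μ.sum_cycleType
  rw [h2, Multiset.sum_replicate, h3, Finset.card_erase_of_mem (Finset.mem_univ o),
    Finset.card_univ, smul_eq_mul] at h4
  rw [h2]
  congr 1
  omega

/-- two matchings are conjugate -/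
theorem IsMat.conj {μ μ' : Equiv.Perm ι} {o o' : ι} (h : IsMat μ o) (h' : IsMat μ' o') :
    ∃ ρ : Equiv.Perm ι, ρ * μ * ρ⁻¹ = μ' := by
  have h1 := Equiv.Perm.isConj_of_cycleType_eq (h.cycleType.trans h'.cycleType.symm)
  exact isConj_iff.mp h1

/-- for every `y` with `y i = y j` a conjugate of the given matching contains `{i, j}` and is
compatible with `y` -/
theorem exists_conj {μ : Equiv.Perm ι} {o : ι} (h : IsMat μ o) (hodd : Odd (Fintype.card ι))
    (y : ι → ZMod 2) {i j : ι} (hij : i ≠ j) (hy : y i = y j) :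
    ∃ ρ : Equiv.Perm ι, (ρ * μ * ρ⁻¹) i = j ∧ ∀ x, y ((ρ * μ * ρ⁻¹) x) = y x := by
  obtain ⟨μ', o', h1, h2, h3⟩ := exists_mat hodd y hij hy
  obtain ⟨ρ, hρ⟩ := h.conj h1
  exact ⟨ρ, by rw [hρ]; exact h2, by rw [hρ]; exact h3⟩

end Cfsg.Agent.Omega.NSix.Mat

end

section


/-!
# OMEGA N6, #14568 (E) for a minimal parabolic `L` (not `N_G(V)`)

`SixL V L S ε W`: `Six` and: `S` is a Sylow 2-subgroup of `G` inside `L` which commutes with a
perfect matching of the labels, the `W i j` are 2-groups.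
`SixL.nn_le`: `N_ij ≤ N_G(V)`; `SixL.false`.
-/

set_option autoImplicit false

namespace Cfsg.Agent.Omega.NSix.EndL

open Subgroup Cfsg Cfsg.Agent.ZN Cfsg.Agent.MinSimple.VModule
open Cfsg.Agent.Omega.S5.Def Cfsg.Agent.Omega.NSix.Base Cfsg.Agent.Omega.NSix.Basic
open Cfsg.Agent.Omega.NSix.One Cfsg.Agent.Omega.NSix.End Cfsg.Agent.Omega.NSix.Mat

universe u

variable {G : Type u} [Group G] {n : ℕ} {V L : Subgroup G} {ε : (Fin n → ZMod 2) → G}
  {W : Fin n → Fin n → Subgroup G}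

/-- the situation (H1), (H2) for a parabolic `L` over the Sylow 2-subgroup `S` -/
structure SixL (V L : Subgroup G) (S : Sylow 2 G) (ε : (Fin n → ZMod 2) → G)
    (W : Fin n → Fin n → Subgroup G) : Prop extends Six V L ε W where
  le : (S : Subgroup G) ≤ L
  two : ∀ i j, i ≠ j → IsPGroup 2 (W i j)
  mat : ∃ (μ : Equiv.Perm (Fin n)) (o : Fin n), IsMat μ o ∧
    ∀ s ∈ (S : Subgroup G), ∀ σ, Acts ε s σ → σ * μ = μ * σ

/-- conjugation into a Sylow 2-subgroup inside `C`, where `S` normalises `C` -/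
theorem exists_conj_sylow [Finite G] (S : Sylow 2 G) {C : Subgroup G}
    (hSC : (S : Subgroup G) ≤ normalizer (C : Set G)) {x : G} (hx : x ∈ C)
    (hx2 : IsPGroup 2 (zpowers x)) : ∃ y ∈ C, y * x * y⁻¹ ∈ (S : Subgroup G) := by
  have : Fact (Nat.Prime 2) := ⟨Nat.prime_two⟩
  set D : Subgroup G := (S : Subgroup G) ⊔ C with hD
  have hSD : (S : Subgroup G) ≤ D := le_sup_left
  have hxD : x ∈ D := (le_sup_right : C ≤ D) hx
  have hX : IsPGroup 2 ((zpowers x).subgroupOf D) := hx2.comap_subtype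
  obtain ⟨Q, hQ⟩ := hX.exists_le_sylow
  obtain ⟨g, hg⟩ := MulAction.exists_smul_eq D Q (S.subtype hSD)
  have h1 : (⟨x, hxD⟩ : D) ∈ (Q : Subgroup D) := hQ (mem_subgroupOf.mpr (mem_zpowers x))
  have h2 : g * ⟨x, hxD⟩ * g⁻¹ ∈ ((g • Q : Sylow 2 D) : Subgroup D) := by
    have := smul_mem_pointwise_smul _ (MulAut.conj g) (Q : Subgroup D) h1
    exact this
  rw [hg] at h2
  have h3 : (g : G) * x * (g : G)⁻¹ ∈ (S : Subgroup G) := h2
  have h4 : (g : G) ∈ ((S : Subgroup G) ⊔ C : Subgroup G) := g.2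
  have h5 : (g : G) ∈ (((S : Subgroup G) ⊔ C : Subgroup G) : Set G) := h4
  rw [coe_mul_of_left_le_normalizer_right _ _ hSC] at h5
  obtain ⟨s, hs, y, hy, hsy⟩ := h5
  refine ⟨y, hy, ?_⟩
  have h6 := mul_mem (mul_mem (inv_mem (show s ∈ (S : Subgroup G) from hs)) h3) hs
  have h7 : s⁻¹ * ((g : G) * x * (g : G)⁻¹) * s = y * x * y⁻¹ := by
    have h8 : s * y = (g : G) := hsy
    rw [← h8]
    group
  rwa [h7] at h6

/-- an element commuting with the pairs of a matching commutes with the sets compatible with it -/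
theorem comm_inv (h : EvenSet n V L ε) {μ : Equiv.Perm (Fin n)} {o : Fin n} (hm : IsMat μ o)
    {g : G} (hg : ∀ a, g * rr ε a (μ a) * g⁻¹ = rr ε a (μ a)) {y : Fin n → ZMod 2}
    (hy : ∀ x, y (μ x) = y x) : g * ε y * g⁻¹ = ε y := by
  have hsing : ∀ a : Fin n, (Pi.single a 1 : Fin n → ZMod 2) ∘ μ = Pi.single (μ a) 1 := by
    intro a
    funext x
    rw [Function.comp_apply]
    by_cases hx : x = μ a
    · rw [hx, hm.sq, Pi.single_eq_same, Pi.single_eq_same]
    · have h1 : μ x ≠ a := fun h => hx (by rw [← h, hm.sq])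
      rw [Pi.single_eq_of_ne h1, Pi.single_eq_of_ne hx]
  have key : ∀ A : Finset (Fin n),
      g * ε ((∑ a ∈ A, Pi.single a 1) + (∑ a ∈ A, Pi.single a 1) ∘ μ) * g⁻¹ =
        ε ((∑ a ∈ A, Pi.single a 1) + (∑ a ∈ A, Pi.single a 1) ∘ μ) := by
    intro A
    induction A using Finset.induction_on with
    | empty =>
      rw [Finset.sum_empty, Pi.zero_comp, add_zero, h.zero]
      group
    | insert k A hk ih =>
      rw [Finset.sum_insert hk]
      have e1 : (Pi.single k 1 + ∑ a ∈ A, Pi.single a 1 : Fin n → ZMod 2) +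
          (Pi.single k 1 + ∑ a ∈ A, Pi.single a 1 : Fin n → ZMod 2) ∘ μ =
          (Pi.single k 1 + Pi.single (μ k) 1) +
            ((∑ a ∈ A, Pi.single a 1) + (∑ a ∈ A, Pi.single a 1 : Fin n → ZMod 2) ∘ μ) := by
        rw [Pi.add_comp, hsing]
        abel
      have e2 : ε (Pi.single k 1 + Pi.single (μ k) 1) = rr ε k (μ k) := by
        rw [h.add]
        rfl
      rw [e1, h.add, e2]
      calc g * (rr ε k (μ k) *
            ε ((∑ a ∈ A, Pi.single a 1) + (∑ a ∈ A, Pi.single a 1) ∘ μ)) * g⁻¹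
          = (g * rr ε k (μ k) * g⁻¹) *
            (g * ε ((∑ a ∈ A, Pi.single a 1) + (∑ a ∈ A, Pi.single a 1) ∘ μ) * g⁻¹) := by group
        _ = _ := by rw [hg, ih]
  have hsum : ∀ f : Fin n → ZMod 2,
      f = ∑ k ∈ Finset.univ.filter (fun k => f k ≠ 0), Pi.single k 1 := by
    intro f
    funext m
    rw [Finset.sum_apply]
    by_cases hm : f m = 0
    · rw [hm, Finset.sum_eq_zero]
      intro k hk
      have : m ≠ k := by
        rintro rfl
        exact (Finset.mem_filter.mp hk).2 hm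
      exact Pi.single_eq_of_ne this _
    · rw [Finset.sum_eq_single m]
      · rw [Pi.single_eq_same]; exact Tv.z2_one hm
      · intro k _ hk
        exact Pi.single_eq_of_ne (Ne.symm hk) _
      · intro h0
        exfalso
        apply h0
        rw [Finset.mem_filter]
        exact ⟨Finset.mem_univ _, hm⟩
  have zero : ∀ y : Fin n → ZMod 2, (∀ x, y (μ x) = y x) → y o = 0 → g * ε y * g⁻¹ = ε y := by
    intro y hy h0
    set f : Fin n → ZMod 2 := fun x => if x < μ x then y x else 0 with hf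
    have e1 : y = f + f ∘ μ := by
      funext x
      rw [Pi.add_apply, Function.comp_apply, hf]
      simp only [hm.sq, hy]
      rcases lt_trichotomy x (μ x) with h1 | h1 | h1
      · rw [if_pos h1, if_neg (not_lt_of_gt h1), add_zero]
      · have h2 : x = o := (hm.fix x).mp h1.symm
        rw [if_neg (by rw [← h1]; exact lt_irrefl x), if_neg (by rw [← h1]; exact lt_irrefl x),
          add_zero, h2, h0]
      · rw [if_neg (not_lt_of_gt h1), if_pos h1, zero_add]
    rw [e1, hsum f]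
    exact key _
  rcases Tv.z2 (y o) with h0 | h0
  · exact zero y hy h0
  · have h1 : ε (y + 1) = ε y := by rw [h.add, h.one, mul_one]
    rw [← h1]
    apply zero
    · intro x
      rw [Pi.add_apply, Pi.add_apply, hy]
      rfl
    · rw [Pi.add_apply, h0, Pi.one_apply]
      decide

/-- the elements of `U_ij ≤ V` are orthogonal to `{i, j}` -/
theorem uu_coord [Finite G] (b : Six V L ε W) (hn : 7 ≤ n) {i j : Fin n} (hij : i ≠ j)
    {y : Fin n → ZMod 2} (hu : ε y ∈ UU ε i j) : y i = y j := by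
  obtain ⟨w, hw, hws⟩ := b.mov i j hij
  have h1 := b.cen i j hij _ hu w hw
  have h2 : ε (y ∘ (Equiv.swap i j).symm) = ε y := by
    rw [← hws y, ← h1, mul_inv_cancel_right]
  rcases b.ev.eq_iff.mp h2 with h3 | h3
  · have h4 := congrFun h3 i
    rw [Function.comp_apply, Equiv.symm_swap, Equiv.swap_apply_left] at h4
    exact h4.symm
  · obtain ⟨k, l, hkl, ⟨k1, k2, -, -⟩, -⟩ := Six.exists_off (by omega) i j i j
    have h4 := congrFun h3 k
    rw [Function.comp_apply, Equiv.symm_swap, Equiv.swap_apply_of_ne_of_ne k1 k2,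
      Pi.add_apply, Pi.one_apply] at h4
    exact absurd (left_eq_add.mp h4) (by decide)

namespace SixL

variable [Finite G] {S : Sylow 2 G}

/-- (E): `N_ij ≤ N_G(V)` -/
theorem nn_le (b : SixL V L S ε W) (hodd : Odd n) (hn : 7 ≤ n) {i j : Fin n} (hij : i ≠ j) :
    NN ε i j ≤ normalizer (V : Set G) := by
  have hn3 : 3 ≤ n := by omega
  intro g hg
  obtain ⟨k, l, hkl, ⟨ki, kj, -, -⟩, li, lj, -, -⟩ := Six.exists_off (by omega) i j i j
  obtain ⟨w, hw, hws⟩ := b.mov k l hkl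
  set c := g * rr ε k l * g⁻¹ with hc
  set x := g * w * g⁻¹ with hx
  have wit : Wit ε i j c g k l := ⟨hg, hkl, ki, kj, li, lj, hc⟩
  have hxc : Wc ε W i j c x := by
    rw [wc_iff b.toBase wit]
    have : g⁻¹ * x * g = w := by rw [hx]; group
    rwa [this]
  have hxN := wc_NN b.toBase hxc
  have hcK := wc_kk hxc
  have hcne := kk_ne b.toBase hn3 hcK
  have hcU := kk_mem_UU hcK
  have hpt : ∀ m, m ≠ i → m ≠ j → x * zz ε m * x⁻¹ = zz ε m ∨ x * zz ε m * x⁻¹ = zz ε m * c :=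
    fun m h1 h2 => wc_act b.toBase hij hxc (zz_mem_UU (ε := ε) h1 h2)
  -- `x` commutes with a pair `r_mm'`
  have hpair : ∀ m m', m ≠ m' → m ≠ i → m ≠ j → m' ≠ i → m' ≠ j →
      (x * zz ε m * x⁻¹ = zz ε m ↔ x * zz ε m' * x⁻¹ = zz ε m') →
      x ∈ normalizer (V : Set G) := by
    intro m m' hmm mi mj mi' mj' hiff
    have h1 := hpt m mi mj
    have h2 := hpt m' mi' mj'
    have h3 : x ∈ NN ε m m' := by
      rw [mem_NN']
      unfold rr
      have h4 : x * (zz ε m * zz ε m') * x⁻¹ = (x * zz ε m * x⁻¹) * (x * zz ε m' * x⁻¹) := by group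
      rw [h4]
      by_cases h5 : x * zz ε m * x⁻¹ = zz ε m
      · rw [h5, hiff.mp h5]
      · rw [h1.resolve_left h5, h2.resolve_left (fun h => h5 (hiff.mpr h))]
        have h6 := uu_comm b.toBase hij hcU (zz_mem_UU (ε := ε) mi' mj')
        calc zz ε m * c * (zz ε m' * c) = zz ε m * (c * zz ε m') * c := by group
          _ = zz ε m * zz ε m' * (c * c) := by rw [h6]; group
          _ = _ := by rw [kk_sq b.toBase hcK, mul_one]
    exact b.toSix.two_norm hodd hn hij hmm mi mj mi' mj' hxN h3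
  have hxV : x ∈ normalizer (V : Set G) := by
    obtain ⟨p, q, hpq, ⟨p1, p2, p3, -⟩, q1, q2, q3, -⟩ := Six.exists_off (by omega) i j k k
    by_cases h1 : x * zz ε p * x⁻¹ = zz ε p
    · by_cases h2 : x * zz ε q * x⁻¹ = zz ε q
      · exact hpair p q hpq p1 p2 q1 q2 ⟨fun _ => h2, fun _ => h1⟩
      · by_cases h3 : x * zz ε k * x⁻¹ = zz ε k
        · exact hpair p k p3 p1 p2 ki kj ⟨fun _ => h3, fun _ => h1⟩
        · exact hpair q k q3 q1 q2 ki kj ⟨fun h => absurd h h2, fun h => absurd h h3⟩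
    · by_cases h2 : x * zz ε q * x⁻¹ = zz ε q
      · by_cases h3 : x * zz ε k * x⁻¹ = zz ε k
        · exact hpair q k q3 q1 q2 ki kj ⟨fun _ => h3, fun _ => h2⟩
        · exact hpair p k p3 p1 p2 ki kj ⟨fun h => absurd h h1, fun h => absurd h h3⟩
      · exact hpair p q hpq p1 p2 q1 q2 ⟨fun h => absurd h h1, fun h => absurd h h2⟩
  -- the label of `c`
  obtain ⟨y, hyc⟩ := b.ev.surj c (b.toSix.uu_le_V hodd hn hij hcU)
  have hyij : y i = y j := uu_coord b.toSix hn hij (by rw [hyc]; exact hcU)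
  -- (SYM): `x` commutes with `r_aa'` if `y a = y a'`
  have hsym : ∀ a a', a ≠ a' → a ≠ i → a ≠ j → a' ≠ i → a' ≠ j → y a = y a' →
      x * rr ε a a' * x⁻¹ = rr ε a a' := by
    intro a a' haa ai aj ai' aj' hya
    have hS := sys b.toBase hn3 hij
    obtain ⟨f, hf⟩ := exists_f b.toBase hn3 hij hxc
    set C : AU b.toBase hij := One.mk b.toBase hij hcU with hC
    set D : AU b.toBase hij := pp b.toBase hij a + pp b.toBase hij a' with hD
    have qa : Qf i j a := ⟨ai, aj⟩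
    have qa' : Qf i j a' := ⟨ai', aj'⟩
    have hDv : val D = rr ε a a' := val_pp_add b.toBase hij qa qa'
    have hCK : C ∈ {a : AU b.toBase hij | KK ε i j (val a)} := hcK
    have hDK : D ∈ {a : AU b.toBase hij | KK ε i j (val a)} := by
      change KK ε i j (val D)
      rw [hDv]
      exact ⟨1, a, a', wit_one qa qa' haa⟩
    rcases Tv.z2 (f D) with h0 | h0
    · rw [hf.iff_zero hcne, hDv] at h0
      exact h0
    · exfalso
      have h1 : Tv.Adj (FF b.toBase hij) C D := ⟨f, ⟨x, hxc, hf⟩, h0⟩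
      obtain ⟨g', ⟨x1, hx1, hg'⟩, hg1⟩ := hS.sym hCK hDK h1
      have h2 : g' C = 0 := by
        rw [hg'.iff_zero (kk_ne b.toBase hn3 hDK)]
        rw [hDv, wc_rr b.toBase qa qa' haa] at hx1
        change x1 * c * x1⁻¹ = c
        rw [← hyc]
        rcases b.act a a' haa x1 hx1 with h3 | h3
        · exact h3 y
        · rw [h3 y]
          congr 1
          funext m
          rw [Function.comp_apply, Equiv.symm_swap]
          by_cases h4 : m = a
          · rw [h4, Equiv.swap_apply_left, hya]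
          by_cases h5 : m = a'
          · rw [h5, Equiv.swap_apply_right, hya]
          rw [Equiv.swap_apply_of_ne_of_ne h4 h5]
      rw [h2] at hg1
      exact absurd hg1 (by decide)
  -- the matching
  obtain ⟨μ, o, hμ, hSμ⟩ := b.mat
  obtain ⟨ρ, hρ1, hρ2⟩ := exists_conj hμ (by rw [Fintype.card_fin]; exact hodd) y hij hyij
  obtain ⟨l0, hl0, hl0s⟩ := b.ev.full ρ
  set ν : Equiv.Perm (Fin n) := ρ * μ * ρ⁻¹ with hν
  have hνm : IsMat ν (ρ o) := by
    constructor
    · intro x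
      change ρ (μ (ρ⁻¹ (ρ (μ (ρ⁻¹ x))))) = x
      have e : ∀ m, ρ⁻¹ (ρ m) = m := fun m => ρ.symm_apply_apply m
      have e' : ∀ m, ρ (ρ⁻¹ m) = m := fun m => ρ.apply_symm_apply m
      rw [e, hμ.sq, e']
    · intro x
      change ρ (μ (ρ⁻¹ x)) = x ↔ x = ρ o
      have e : ∀ m, ρ⁻¹ (ρ m) = m := fun m => ρ.symm_apply_apply m
      have e' : ∀ m, ρ (ρ⁻¹ m) = m := fun m => ρ.apply_symm_apply m
      constructor
      · intro h
        have h1 : μ (ρ⁻¹ x) = ρ⁻¹ x := by rw [← e (μ (ρ⁻¹ x)), h]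
        rw [hμ.fix] at h1
        rw [← h1, e']
      · intro h
        rw [h, e, (hμ.fix o).mpr rfl]
  have hνi : ν i = j := hρ1
  have hνj : ν j = i := by rw [← hνi, hνm.sq]
  have hxν : ∀ a, x * rr ε a (ν a) * x⁻¹ = rr ε a (ν a) := by
    intro a
    by_cases h1 : ν a = a
    · have h2 : rr ε a (ν a) = 1 := by
        rw [h1]
        exact zz_sq b.ev a
      rw [h2]
      group
    by_cases h2 : a = i
    · rw [h2, hνi]
      exact mem_NN'.mp hxN
    by_cases h3 : a = j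
    · rw [h3, hνj, rr_symm b.ev]
      exact mem_NN'.mp hxN
    have h4 : ν a ≠ i := fun h => h3 (by rw [← hνi, ← h, hνm.sq])
    have h5 : ν a ≠ j := fun h => h2 (by rw [← hνj, ← h, hνm.sq])
    exact hsym a (ν a) (Ne.symm h1) h2 h3 h4 h5 (hρ2 a).symm
  -- the subgroup `C`
  set C : Subgroup G := normalizer (V : Set G) ⊓
    centralizer {v | ∃ a, v = rr ε a (μ a)} with hC
  have memC : ∀ z, z ∈ C ↔ z ∈ normalizer (V : Set G) ∧ ∀ a, z * rr ε a (μ a) * z⁻¹ = rr ε a (μ a) := by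
    intro z
    rw [hC, mem_inf, mem_centralizer_iff]
    constructor
    · rintro ⟨h1, h2⟩
      exact ⟨h1, fun a => by rw [← h2 _ ⟨a, rfl⟩, mul_inv_cancel_right]⟩
    · rintro ⟨h1, h2⟩
      refine ⟨h1, ?_⟩
      rintro _ ⟨a, rfl⟩
      have := h2 a
      rw [mul_inv_eq_iff_eq_mul] at this
      exact this.symm
  have hSC : (S : Subgroup G) ≤ normalizer (C : Set G) := by
    have key : ∀ s ∈ (S : Subgroup G), ∀ z ∈ C, s * z * s⁻¹ ∈ C := by
      intro s hs z hz
      rw [memC] at hz ⊢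
      have hsV : s ∈ normalizer (V : Set G) := b.ev.le_normalizer (b.le hs)
      refine ⟨mul_mem (mul_mem hsV hz.1) (inv_mem hsV), fun a => ?_⟩
      obtain ⟨σ, hσ⟩ := b.ev.perm s (b.le hs)
      have h1 := rr_conj hσ (σ⁻¹ a) (μ (σ⁻¹ a))
      have h2 : σ (μ (σ⁻¹ a)) = μ (σ (σ⁻¹ a)) := by
        change (σ * μ) (σ⁻¹ a) = (μ * σ) (σ⁻¹ a)
        rw [hSμ s hs σ hσ]
      have e' : σ (σ⁻¹ a) = a := σ.apply_symm_apply a
      rw [h2, e'] at h1
      have h3 := hz.2 (σ⁻¹ a)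
      calc s * z * s⁻¹ * rr ε a (μ a) * (s * z * s⁻¹)⁻¹
          = s * (z * (s⁻¹ * rr ε a (μ a) * s) * z⁻¹) * s⁻¹ := by group
        _ = s * (z * rr ε (σ⁻¹ a) (μ (σ⁻¹ a)) * z⁻¹) * s⁻¹ := by rw [← h1]; group
        _ = rr ε a (μ a) := by rw [h3, h1]
    intro s hs
    rw [mem_normalizer_iff]
    refine fun z => ⟨key s hs z, fun hz => ?_⟩
    have h1 := key s⁻¹ (inv_mem hs) _ hz
    have h2 : s⁻¹ * (s * z * s⁻¹) * s⁻¹⁻¹ = z := by group
    rwa [h2] at h1
  -- transport by `l0`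
  have hl0V : l0 ∈ normalizer (V : Set G) := b.ev.le_normalizer hl0
  have htr : ∀ a, l0 * rr ε (ρ⁻¹ a) (μ (ρ⁻¹ a)) * l0⁻¹ = rr ε a (ν a) := by
    intro a
    have e' : ρ (ρ⁻¹ a) = a := ρ.apply_symm_apply a
    rw [rr_conj hl0s, e']
    rfl
  have htr2 : ∀ a, l0 * rr ε a (μ a) * l0⁻¹ = rr ε (ρ a) (ν (ρ a)) := by
    intro a
    have h1 := htr (ρ a)
    have e' : ρ⁻¹ (ρ a) = a := ρ.symm_apply_apply a
    rwa [e'] at h1
  have hx1 : l0⁻¹ * x * l0 ∈ C := by
    rw [memC]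
    refine ⟨mul_mem (mul_mem (inv_mem hl0V) hxV) hl0V, fun a => ?_⟩
    calc l0⁻¹ * x * l0 * rr ε a (μ a) * (l0⁻¹ * x * l0)⁻¹
        = l0⁻¹ * (x * (l0 * rr ε a (μ a) * l0⁻¹) * x⁻¹) * l0 := by group
      _ = l0⁻¹ * (l0 * rr ε a (μ a) * l0⁻¹) * l0 := by rw [htr2, hxν]
      _ = rr ε a (μ a) := by group
  have hx2 : IsPGroup 2 (zpowers (l0⁻¹ * x * l0)) := by
    obtain ⟨t, ht⟩ := b.two k l hkl ⟨w, hw⟩
    have ht' : w ^ 2 ^ t = 1 := congrArg Subtype.val ht
    have h1 : (l0⁻¹ * x * l0) ^ 2 ^ t = 1 := by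
      have h2 : l0⁻¹ * x * l0 = (l0⁻¹ * g) * w * (l0⁻¹ * g)⁻¹ := by rw [hx]; group
      rw [h2, conj_pow, ht', mul_one, mul_inv_cancel]
    rintro ⟨z, hz⟩
    obtain ⟨s, rfl⟩ := mem_zpowers_iff.mp hz
    refine ⟨t, Subtype.ext ?_⟩
    change ((l0⁻¹ * x * l0) ^ s) ^ 2 ^ t = 1
    rw [← zpow_natCast, ← zpow_mul, mul_comm, zpow_mul, zpow_natCast, h1, one_zpow]
  obtain ⟨y1, hy1, hy1S⟩ := exists_conj_sylow S hSC hx1 hx2
  rw [memC] at hy1
  set y0 := l0 * y1 * l0⁻¹ with hy0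
  have hy0ν : ∀ a, y0 * rr ε a (ν a) * y0⁻¹ = rr ε a (ν a) := by
    intro a
    rw [← htr a]
    calc y0 * (l0 * rr ε (ρ⁻¹ a) (μ (ρ⁻¹ a)) * l0⁻¹) * y0⁻¹
        = l0 * (y1 * rr ε (ρ⁻¹ a) (μ (ρ⁻¹ a)) * y1⁻¹) * l0⁻¹ := by rw [hy0]; group
      _ = _ := by rw [hy1.2]
  have hy0N : y0 ∈ NN ε i j := by
    have h1 := hy0ν i
    rw [hνi] at h1
    exact mem_NN'.mpr h1
  have hy0c : y0 * c * y0⁻¹ = c := by
    rw [← hyc]
    exact comm_inv b.ev hνm hy0ν hρ2
  have hy0c' : y0⁻¹ * c * y0 = c := by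
    calc y0⁻¹ * c * y0 = y0⁻¹ * (y0 * c * y0⁻¹) * y0 := by rw [hy0c]
      _ = c := by group
  set x' := y0 * x * y0⁻¹ with hx'
  have hx'L : x' ∈ L := by
    have h1 := mul_mem (mul_mem hl0 (b.le hy1S)) (inv_mem hl0)
    have h2 : l0 * (y1 * (l0⁻¹ * x * l0) * y1⁻¹) * l0⁻¹ = x' := by rw [hx', hy0]; group
    rwa [h2] at h1
  obtain ⟨τ, hτ⟩ := b.ev.perm x' hx'L
  -- `x'` acts on `U_ij` as a transvection with centre `c`
  have hx'act : ∀ u ∈ UU ε i j, x' * u * x'⁻¹ = u ∨ x' * u * x'⁻¹ = u * c := by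
    intro u hu
    have h1 : y0⁻¹ * u * y0 ∈ UU ε i j := by
      have := UU_normal (inv_mem hy0N) hu
      rwa [inv_inv] at this
    have h2 : x' * u * x'⁻¹ = y0 * (x * (y0⁻¹ * u * y0) * x⁻¹) * y0⁻¹ := by rw [hx']; group
    rcases wc_act b.toBase hij hxc h1 with h3 | h3
    · left
      rw [h2, h3]
      group
    · right
      rw [h2, h3]
      calc y0 * (y0⁻¹ * u * y0 * c) * y0⁻¹ = u * (y0 * c * y0⁻¹) := by group
        _ = u * c := by rw [hy0c]
  -- `x'` moves a point off `i`, `j`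
  obtain ⟨m, mi, mj, hm⟩ : ∃ m, m ≠ i ∧ m ≠ j ∧ τ m ≠ m := by
    by_contra hno
    push Not at hno
    set u := g * zz ε k * g⁻¹ with hu
    have huU : u ∈ UU ε i j := UU_normal hg (zz_mem_UU (ε := ε) ki kj)
    have h1 := b.toSix.uu_fixed hodd hn hij (UU_normal hy0N huU) hτ
      (fun m h1 h2 => hno m h1 h2)
    have h2 : x' * (y0 * u * y0⁻¹) * x'⁻¹ = y0 * (x * u * x⁻¹) * y0⁻¹ := by rw [hx']; group
    rw [h2] at h1
    have h3 : x * u * x⁻¹ = u := mul_left_cancel (mul_right_cancel h1)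
    have h4 : x * u * x⁻¹ = g * (w * zz ε k * w⁻¹) * g⁻¹ := by rw [hx, hu]; group
    rw [h4, zz_conj hws, Equiv.swap_apply_left, hu] at h3
    have h5 : zz ε l = zz ε k := mul_left_cancel (mul_right_cancel h3)
    exact hkl (b.ev.single_inj hn3 h5.symm)
  have hcm : c = rr ε m (τ m) := by
    rcases hx'act _ (zz_mem_UU (ε := ε) mi mj) with h1 | h1
    · rw [zz_conj hτ] at h1
      exact absurd (b.ev.single_inj hn3 h1) hm
    · rw [zz_conj hτ] at h1
      unfold rr
      rw [h1, ← mul_assoc, zz_sq b.ev, one_mul]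
  -- `τ m` is off `i`, `j`
  obtain ⟨p, hp, hps⟩ := b.mov i j hij
  have hcp : p * c * p⁻¹ = c := by
    rw [← b.cen i j hij _ hcU p hp, mul_inv_cancel_right]
  rw [hcm, rr_conj hps, swap_fix mi mj] at hcp
  have hcp2 : zz ε (Equiv.swap i j (τ m)) = zz ε (τ m) := mul_left_cancel hcp
  have hcp3 := b.ev.single_inj hn3 hcp2
  have si : τ m ≠ i := by
    intro h
    rw [h, Equiv.swap_apply_left] at hcp3
    exact hij hcp3.symm
  have sj : τ m ≠ j := by
    intro h
    rw [h, Equiv.swap_apply_right] at hcp3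
    exact hij hcp3
  obtain ⟨π, t1, t2, t3⟩ := exists_perm hkl (Ne.symm hm)
  obtain ⟨s, hs, hss⟩ := b.ev.full π
  have hsN : s ∈ NN ε i j := by
    rw [mem_NN', rr_conj hss, t3 i (Ne.symm ki) (Ne.symm li) (Ne.symm mi) (Ne.symm si),
      t3 j (Ne.symm kj) (Ne.symm lj) (Ne.symm mj) (Ne.symm sj)]
  have h1 : s * rr ε k l * s⁻¹ = c := by rw [rr_conj hss, t1, t2, hcm]
  have h2 : s⁻¹ * g ∈ NN ε k l := by
    rw [mem_NN']
    calc s⁻¹ * g * rr ε k l * (s⁻¹ * g)⁻¹ = s⁻¹ * (g * rr ε k l * g⁻¹) * s := by group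
      _ = s⁻¹ * (s * rr ε k l * s⁻¹) * s := by rw [← hc, h1]
      _ = rr ε k l := by group
  have h3 := b.toSix.two_norm hodd hn hij hkl ki kj li lj (mul_mem (inv_mem hsN) hg) h2
  have h4 := mul_mem (b.ev.le_normalizer hs) h3
  rwa [mul_inv_cancel_left] at h4

/-- **`(H1)`, `(H2)` are contradictory.** -/
theorem false (b : SixL V L S ε W) (hodd : Odd n) (hn : 7 ≤ n) {i j : Fin n} (hij : i ≠ j)
    (hW : W i j ≤ WW V ε i j) : False := by
  have h1 := b.nn_le hodd hn hij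
  have h2 : WW V ε i j ≤ V := by
    unfold WW
    rw [closure_le]
    rintro x ⟨g, hg, v, hv, rfl⟩
    exact (mem_normalizer_iff.mp (h1 hg) v).mp hv
  obtain ⟨w, hw, hws⟩ := b.mov i j hij
  have h3 := zz_conj hws i
  rw [b.ev.comm_mem (h2 (hW hw)) (zz_mem b.ev _), mul_inv_cancel_right,
    Equiv.swap_apply_left] at h3
  exact hij (b.ev.single_inj (by omega) h3)

end SixL

end Cfsg.Agent.Omega.NSix.EndL

end

section


/-!
# OMEGA N6 / LeafF4 (O4), #17439 (helper300): good elements over `Base`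

`GoodAt ε W t i j`: `W_ij` acts on `t` as a transvection.  Local versions of `fv_spec`, `fv_add`, `exists_fix` of
`NSix/End.lean` (101) over `Base` (no minimality of `V`).
-/

set_option autoImplicit false

namespace Cfsg.Agent.Omega.NSix.Free

open Subgroup Cfsg Cfsg.Agent.ZN Cfsg.Agent.MinSimple.VModule
open Cfsg.Agent.Omega.S5.Def Cfsg.Agent.Omega.NSix.Base Cfsg.Agent.Omega.NSix.Basic
open Cfsg.Agent.Omega.NSix.One
open Cfsg.Agent.Omega.NSix.End.Six (fv)

universe u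

variable {G : Type u} [Group G] {n : ℕ} {V L : Subgroup G} {ε : (Fin n → ZMod 2) → G}
  {W : Fin n → Fin n → Subgroup G}

/-- induction on the elements of `V` -/
theorem v_ind (b : Base V L ε W) (P : G → Prop) (h1 : P 1) (hz : ∀ k x, x ∈ V → P x → P (zz ε k * x)) :
    ∀ v ∈ V, P v := by
  have key : ∀ S : Finset (Fin n), P (ε (∑ k ∈ S, Pi.single k 1)) := by
    intro S
    induction S using Finset.induction_on with
    | empty => rw [Finset.sum_empty, b.ev.zero]; exact h1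
    | insert k S hk ih =>
      rw [Finset.sum_insert hk, b.ev.add]
      exact hz k _ (b.ev.mem _) ih
  intro v hv
  obtain ⟨x, rfl⟩ := b.ev.surj v hv
  have h1 : x = ∑ k ∈ Finset.univ.filter (fun k => x k ≠ 0), Pi.single k 1 := by
    funext m
    rw [Finset.sum_apply]
    by_cases hm : x m = 0
    · rw [hm, Finset.sum_eq_zero]
      intro k hk
      have : m ≠ k := by
        rintro rfl
        exact (Finset.mem_filter.mp hk).2 hm
      exact Pi.single_eq_of_ne this _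
    · rw [Finset.sum_eq_single m]
      · rw [Pi.single_eq_same]; exact Tv.z2_one hm
      · intro k _ hk
        exact Pi.single_eq_of_ne (Ne.symm hk) _
      · intro h0
        exfalso
        apply h0
        rw [Finset.mem_filter]
        exact ⟨Finset.mem_univ _, hm⟩
  rw [h1]
  exact key _

/-- `t` is acted on by `W_ij` as a vector with a transvection -/
structure GoodAt (ε : (Fin n → ZMod 2) → G) (W : Fin n → Fin n → Subgroup G) (t : G) (i j : Fin n) : Prop where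
  triv : ∀ w ∈ W i j, Acts ε w 1 → w * t * w⁻¹ = t
  act : ∀ w ∈ W i j, w * t * w⁻¹ = t ∨ w * t * w⁻¹ = t * rr ε i j

theorem fv_spec (b : Base V L ε W) {t : G} {i j : Fin n} (h : GoodAt ε W t i j) (hij : i ≠ j) {w : G}
    (hw : w ∈ W i j) (hs : Acts ε w (Equiv.swap i j)) :
    w * t * w⁻¹ = t * pw (rr ε i j) (fv W t i j) := by
  unfold fv
  by_cases hc : ∀ w ∈ W i j, w * t * w⁻¹ = t
  · rw [if_pos hc, pw_zero, mul_one]
    exact hc w hw
  · rw [if_neg hc, pw_one]
    push Not at hc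
    obtain ⟨x, hx, hxt⟩ := hc
    have hx2 := (h.act x hx).resolve_left hxt
    rcases b.act i j hij x hx with hx1 | hx1
    · exact absurd (h.triv x hx hx1) hxt
    · have h1 : Acts ε (x⁻¹ * w) 1 := by
        have := hx1.inv.mul hs
        rwa [inv_mul_cancel] at this
      have h2 := h.triv _ (mul_mem (inv_mem hx) hw) h1
      calc w * t * w⁻¹ = x * ((x⁻¹ * w) * t * (x⁻¹ * w)⁻¹) * x⁻¹ := by group
        _ = _ := by rw [h2, hx2]

theorem fv_symm (b : Base V L ε W) (t : G) {i j : Fin n} (hij : i ≠ j) :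
    fv W t i j = fv W t j i := by
  unfold fv
  rw [w_symm b hij]

/-- `f_13 = f_12 + f_23` -/
theorem fv_add (b : Base V L ε W) (hn : 3 ≤ n) {t : G} {i j k : Fin n}
    (gij : GoodAt ε W t i j) (gjk : GoodAt ε W t j k) (gik : GoodAt ε W t i k)
    (hij : i ≠ j) (hjk : j ≠ k) (hik : i ≠ k) : fv W t i k = fv W t i j + fv W t j k := by
  obtain ⟨w, hw, hws⟩ := b.mov i j hij
  obtain ⟨y, hy, hys⟩ := b.mov j k hjk
  have hx := b.wc y _ hys i j hij w hw
  rw [swap_fix hij hik, Equiv.swap_apply_left] at hx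
  have hxs : Acts ε (y * w * y⁻¹) (Equiv.swap i k) := by
    have h1 := hys.conj hws
    have h2 : Equiv.swap j k * Equiv.swap i j * (Equiv.swap j k)⁻¹ = Equiv.swap i k := by
      have h3 := Equiv.swap_apply_apply (Equiv.swap j k) i j
      rw [swap_fix hij hik, Equiv.swap_apply_left] at h3
      exact h3.symm
    rwa [h2] at h1
  have e1 := fv_spec b gik hik hx hxs
  have e2 := fv_spec b gij hij hw hws
  have e3 := fv_spec b gjk hjk hy hys
  have e3' := fv_spec b gjk hjk (inv_mem hy) (by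
    have := hys.inv
    rwa [Equiv.swap_inv] at this)
  -- conjugation of the pairs
  have p1 : ∀ s, w * pw (rr ε j k) s * w⁻¹ = pw (rr ε i k) s := by
    intro s
    rcases Tv.z2 s with h0 | h0
    · rw [h0, pw_zero, pw_zero]; group
    · rw [h0, pw_one, pw_one, rr_conj hws, Equiv.swap_apply_right, swap_fix hik.symm hjk.symm]
  have p2 : ∀ s, y * pw (rr ε i j) s * y⁻¹ = pw (rr ε i k) s := by
    intro s
    rcases Tv.z2 s with h0 | h0
    · rw [h0, pw_zero, pw_zero]; group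
    · rw [h0, pw_one, pw_one, rr_conj hys, Equiv.swap_apply_left, swap_fix hij hik]
  have p3 : ∀ s, y * pw (rr ε i k) s * y⁻¹ = pw (rr ε i j) s := by
    intro s
    rcases Tv.z2 s with h0 | h0
    · rw [h0, pw_zero, pw_zero]; group
    · rw [h0, pw_one, pw_one, rr_conj hys, Equiv.swap_apply_right, swap_fix hij hik]
  have e4 : y * w * y⁻¹ * t * (y * w * y⁻¹)⁻¹ =
      t * (pw (rr ε j k) (fv W t j k) * pw (rr ε i k) (fv W t i j) *
        pw (rr ε i j) (fv W t j k)) := by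
    calc y * w * y⁻¹ * t * (y * w * y⁻¹)⁻¹
        = y * (w * (y⁻¹ * t * y⁻¹⁻¹) * w⁻¹) * y⁻¹ := by group
      _ = y * ((w * t * w⁻¹) * (w * pw (rr ε j k) (fv W t j k) * w⁻¹)) * y⁻¹ := by
          rw [e3']; group
      _ = y * (t * pw (rr ε i j) (fv W t i j) * pw (rr ε i k) (fv W t j k)) * y⁻¹ := by
          rw [e2, p1]
      _ = (y * t * y⁻¹) * (y * pw (rr ε i j) (fv W t i j) * y⁻¹) *
            (y * pw (rr ε i k) (fv W t j k) * y⁻¹) := by group
      _ = _ := by rw [e3, p2, p3]; group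
  rw [e4] at e1
  have e5 := mul_left_cancel e1
  -- compare
  have hik1 := rr_ne_one b.ev hn hik
  have hij1 := rr_ne_one b.ev hn hij
  have q1 : rr ε j k * rr ε i j = rr ε i k := by
    rw [b.ev.comm_mem (rr_mem b.ev j k) (rr_mem b.ev i j), rr_add b.ev]
  rcases Tv.z2 (fv W t j k) with h1 | h1 <;> rcases Tv.z2 (fv W t i j) with h2 | h2 <;>
    rcases Tv.z2 (fv W t i k) with h3 | h3 <;> rw [h1, h2, h3] at e5 <;> rw [h1, h2, h3]
  · decide
  · simp only [pw_zero, pw_one, one_mul, mul_one] at e5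
    exact absurd e5.symm hik1
  · simp only [pw_zero, pw_one, one_mul, mul_one] at e5
    exact absurd e5 hik1
  · decide
  · simp only [pw_zero, pw_one, mul_one] at e5
    rw [q1] at e5
    exact absurd e5 hik1
  · decide
  · decide
  · simp only [pw_one] at e5
    rw [mul_assoc, b.ev.comm_mem (rr_mem b.ev i k) (rr_mem b.ev i j), ← mul_assoc, q1,
      rr_sq b.ev] at e5
    exact absurd e5.symm hik1

/-- a vector which is good on the letters `P` is fixed up to an element `ε y`, `y` supported in `P` -/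
theorem exists_fix_on (b : Base V L ε W) (hn : 3 ≤ n) {P : Fin n → Prop} {t : G}
    (h : ∀ a c, P a → P c → a ≠ c → GoodAt ε W t a c) :
    ∃ y : Fin n → ZMod 2, (∀ m, ¬ P m → y m = 0) ∧
      ∀ a c, P a → P c → a ≠ c → ∀ w ∈ W a c, w * (t * ε y) * w⁻¹ = t * ε y := by
  classical
  by_cases hP : ∃ o, P o
  swap
  · exact ⟨0, fun _ _ => rfl, fun a _ ha => absurd ⟨a, ha⟩ hP⟩
  obtain ⟨o, ho⟩ := hP
  set x : Fin n → ZMod 2 := fun i => if P i then (if i = o then 0 else fv W t o i) else 0 with hx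
  have hval : ∀ i j, P i → P j → i ≠ j → fv W t i j = x i + x j := by
    intro i j pi pj hij
    by_cases h1 : i = o
    · have h2 : j ≠ o := fun h2 => hij (h1.trans h2.symm)
      rw [hx]
      simp only [if_pos pi, if_pos pj, if_pos h1, if_neg h2, zero_add]
      rw [h1]
    · by_cases h2 : j = o
      · rw [hx]
        simp only [if_pos pi, if_pos pj, if_neg h1, if_pos h2, add_zero]
        rw [h2, fv_symm b _ h1]
      · rw [hx]
        simp only [if_pos pi, if_pos pj, if_neg h1, if_neg h2]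
        have h3 := fv_add b hn (h _ _ ho pi (Ne.symm h1)) (h _ _ pi pj hij) (h _ _ ho pj (Ne.symm h2))
          (Ne.symm h1) hij (Ne.symm h2)
        rw [h3, ← add_assoc, Tv.z2_add, zero_add]
  have hswap : ∀ i j : Fin n, i ≠ j → x ∘ (Equiv.swap i j).symm =
      x + (x i + x j) • (Pi.single i 1 + Pi.single j 1) := by
    intro i j hij
    funext k
    rw [Function.comp_apply, Equiv.symm_swap, Pi.add_apply, Pi.smul_apply, Pi.add_apply]
    by_cases h1 : k = i
    · subst h1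
      rw [Equiv.swap_apply_left, Pi.single_eq_same, Pi.single_eq_of_ne hij, add_zero, smul_eq_mul,
        mul_one, ← add_assoc, Tv.z2_add, zero_add]
    by_cases h2 : k = j
    · subst h2
      rw [Equiv.swap_apply_right, Pi.single_eq_same, Pi.single_eq_of_ne h1, zero_add, smul_eq_mul,
        mul_one, add_comm (x i), ← add_assoc, Tv.z2_add, zero_add]
    · rw [Equiv.swap_apply_of_ne_of_ne h1 h2, Pi.single_eq_of_ne h1, Pi.single_eq_of_ne h2,
        add_zero, smul_zero, add_zero]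
  have hact : ∀ i j, i ≠ j → ∀ w, Acts ε w (Equiv.swap i j) →
      w * ε x * w⁻¹ = ε x * pw (rr ε i j) (x i + x j) := by
    intro i j hij w hw
    rw [hw x, hswap i j hij, b.ev.add]
    congr 1
    rcases Tv.z2 (x i + x j) with h1 | h1
    · rw [h1, zero_smul, pw_zero, b.ev.zero]
    · rw [h1, one_smul, pw_one, b.ev.add]
      rfl
  refine ⟨x, fun m hm => by rw [hx]; exact if_neg hm, fun i j pi pj hij w hw => ?_⟩
  rcases b.act i j hij w hw with h1 | h1
  · have h2 := (h i j pi pj hij).triv w hw h1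
    have h3 : w * ε x * w⁻¹ = ε x := h1 x
    calc w * (t * ε x) * w⁻¹ = (w * t * w⁻¹) * (w * ε x * w⁻¹) := by group
      _ = _ := by rw [h2, h3]
  · have h2 := fv_spec b (h i j pi pj hij) hij hw h1
    have h3 := hact i j hij w h1
    have hpV : pw (rr ε i j) (x i + x j) ∈ V := by
      rcases Tv.z2 (x i + x j) with h0 | h0
      · rw [h0, pw_zero]; exact one_mem _
      · rw [h0, pw_one]; exact rr_mem b.ev i j
    calc w * (t * ε x) * w⁻¹ = (w * t * w⁻¹) * (w * ε x * w⁻¹) := by group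
      _ = t * (pw (rr ε i j) (x i + x j) * ε x) * pw (rr ε i j) (x i + x j) := by
          rw [h2, h3, hval i j pi pj hij]; group
      _ = t * (ε x * pw (rr ε i j) (x i + x j)) * pw (rr ε i j) (x i + x j) := by
          rw [b.ev.comm_mem hpV (b.ev.mem x)]
      _ = t * ε x * (pw (rr ε i j) (x i + x j) * pw (rr ε i j) (x i + x j)) := by group
      _ = t * ε x := by rw [b.ev.sq_mem hpV, mul_one]

end Cfsg.Agent.Omega.NSix.Free

end

section


/-!
# OMEGA N6 / LeafF4 (O4), #17439 (helper300), (1): `U_12 ∩ U_34 ≤ V Σ`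

`SG ε = ⋂ U_p` (`Σ`), `BB V ε = V Σ`.  `inter`: `U_ij ∩ U_kl ≤ V Σ` for disjoint pairs.
-/

set_option autoImplicit false

namespace Cfsg.Agent.Omega.NSix.Free

open Subgroup Cfsg Cfsg.Agent.ZN Cfsg.Agent.MinSimple.VModule
open Cfsg.Agent.Omega.S5.Def Cfsg.Agent.Omega.NSix.Base Cfsg.Agent.Omega.NSix.Basic
open Cfsg.Agent.Omega.NSix.One
open Cfsg.Agent.Omega.NSix.End.Six (exists_off)

universe u

variable {G : Type u} [Group G] {n : ℕ} {V L : Subgroup G} {ε : (Fin n → ZMod 2) → G}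
  {W : Fin n → Fin n → Subgroup G}

/-- `Σ = ⋂ U_p` -/
def SG (ε : (Fin n → ZMod 2) → G) : Subgroup G where
  carrier := {x | ∀ i j, i ≠ j → x ∈ UU ε i j}
  one_mem' := fun _ _ _ => one_mem _
  mul_mem' := fun hx hy i j hij => mul_mem (hx i j hij) (hy i j hij)
  inv_mem' := fun hx i j hij => inv_mem (hx i j hij)

theorem mem_SG {x : G} : x ∈ SG ε ↔ ∀ i j, i ≠ j → x ∈ UU ε i j := Iff.rfl

/-- `B = V Σ` -/
def BB (V : Subgroup G) (ε : (Fin n → ZMod 2) → G) : Subgroup G := V ⊔ SG ε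

theorem v_le_BB : V ≤ BB V ε := le_sup_left

theorem sg_le_BB : SG ε ≤ BB V ε := le_sup_right

theorem sg_conj {g : G} {σ : Equiv.Perm (Fin n)} (hg : Acts ε g σ) {x : G} (hx : x ∈ SG ε) :
    g * x * g⁻¹ ∈ SG ε := by
  intro i j hij
  have h1 := UU_conj hg (hx (σ⁻¹ i) (σ⁻¹ j) (fun h => hij (σ⁻¹.injective h)))
  have e : ∀ m, σ (σ⁻¹ m) = m := fun m => σ.apply_symm_apply m
  rwa [e, e] at h1

theorem sg_cen (b : Base V L ε W) {x : G} (hx : x ∈ SG ε) {i j : Fin n} (hij : i ≠ j) {w : G}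
    (hw : w ∈ W i j) : w * x * w⁻¹ = x := by
  rw [mul_inv_eq_iff_eq_mul]
  exact (b.cen i j hij x (hx i j hij) w hw).symm

theorem exists_ne (hn : 2 ≤ n) : ∃ i j : Fin n, i ≠ j :=
  ⟨⟨0, by omega⟩, ⟨1, by omega⟩, by intro h; simp at h⟩

theorem sg_comm (b : Base V L ε W) (hn : 2 ≤ n) {x v : G} (hx : x ∈ SG ε) (hv : v ∈ V) :
    x * v = v * x := by
  obtain ⟨i, j, hij⟩ := exists_ne hn
  exact b.cen i j hij x (hx i j hij) v (b.Vle i j hij hv)

theorem sg_sg (b : Base V L ε W) (hn : 2 ≤ n) {x y : G} (hx : x ∈ SG ε) (hy : y ∈ SG ε) :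
    x * y = y * x := by
  obtain ⟨i, j, hij⟩ := exists_ne hn
  exact uu_comm b hij (hx i j hij) (hy i j hij)

theorem mem_BB (b : Base V L ε W) (hn : 2 ≤ n) {x : G} :
    x ∈ BB V ε ↔ ∃ v ∈ V, ∃ s ∈ SG ε, x = v * s := by
  constructor
  · intro hx
    have hle : V ≤ normalizer (SG ε : Set G) := by
      intro v hv
      rw [mem_normalizer_iff]
      intro s
      constructor
      · intro hs
        rw [← sg_comm b hn hs hv, mul_inv_cancel_right]
        exact hs
      · intro hs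
        have h1 := sg_comm b hn hs hv
        have h2 : v * s = v * s * v⁻¹ * v := by group
        have h3 : s = v⁻¹ * (v * s * v⁻¹) * v := by group
        have h4 : v⁻¹ * (v * s * v⁻¹) * v = v * s * v⁻¹ := by
          rw [mul_assoc, h1]; group
        rw [h3, h4]
        exact hs
    have h1 : x ∈ ((V ⊔ SG ε : Subgroup G) : Set G) := hx
    rw [coe_mul_of_left_le_normalizer_right _ _ hle] at h1
    obtain ⟨v, hv, s, hs, h2⟩ := h1
    exact ⟨v, hv, s, hs, h2.symm⟩
  · rintro ⟨v, hv, s, hs, rfl⟩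
    exact mul_mem (v_le_BB hv) (sg_le_BB hs)

theorem bb_comm (b : Base V L ε W) (hn : 2 ≤ n) {x y : G} (hx : x ∈ BB V ε) (hy : y ∈ BB V ε) :
    x * y = y * x := by
  obtain ⟨v, hv, s, hs, rfl⟩ := (mem_BB b hn).mp hx
  obtain ⟨v', hv', s', hs', rfl⟩ := (mem_BB b hn).mp hy
  calc v * s * (v' * s') = v * (s * v') * s' := by group
    _ = v * (v' * s) * s' := by rw [sg_comm b hn hs hv']
    _ = (v * v') * (s * s') := by group
    _ = (v' * v) * (s' * s) := by rw [b.ev.comm_mem hv hv', sg_sg b hn hs hs']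
    _ = v' * (v * s') * s := by group
    _ = v' * (s' * v) * s := by rw [sg_comm b hn hs' hv]
    _ = _ := by group

theorem bb_sq (b : Base V L ε W) (hn : 2 ≤ n) {x : G} (hx : x ∈ BB V ε) : x * x = 1 := by
  obtain ⟨i, j, hij⟩ := exists_ne hn
  obtain ⟨v, hv, s, hs, rfl⟩ := (mem_BB b hn).mp hx
  calc v * s * (v * s) = v * (s * v) * s := by group
    _ = v * (v * s) * s := by rw [sg_comm b hn hs hv]
    _ = (v * v) * (s * s) := by group
    _ = 1 := by rw [b.ev.sq_mem hv, uu_sq b hij (hs i j hij), one_mul]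

/-! ### coordinates -/

theorem exists_third (hn : 3 ≤ n) (i j : Fin n) : ∃ k : Fin n, k ≠ i ∧ k ≠ j := by
  obtain ⟨k, -, hk⟩ := Finset.exists_mem_notMem_of_card_lt_card (s := ({i, j} : Finset (Fin n)))
    (t := Finset.univ) (by
      rw [Finset.card_univ, Fintype.card_fin]
      exact lt_of_le_of_lt Finset.card_le_two (by omega))
  simp only [Finset.mem_insert, Finset.mem_singleton, not_or] at hk
  exact ⟨k, hk.1, hk.2⟩

theorem coord (h : EvenSet n V L ε) (hn : 3 ≤ n) {i j : Fin n} {w : G}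
    (hw : Acts ε w (Equiv.swap i j)) {y : Fin n → ZMod 2} (hf : w * ε y * w⁻¹ = ε y) : y i = y j := by
  have h2 : ε (y ∘ (Equiv.swap i j).symm) = ε y := by rw [← hw y, hf]
  rcases h.eq_iff.mp h2 with h3 | h3
  · have h4 := congrFun h3 i
    rw [Function.comp_apply, Equiv.symm_swap, Equiv.swap_apply_left] at h4
    exact h4.symm
  · obtain ⟨k, k1, k2⟩ := exists_third hn i j
    have h4 := congrFun h3 k
    rw [Function.comp_apply, Equiv.symm_swap, Equiv.swap_apply_of_ne_of_ne k1 k2,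
      Pi.add_apply, Pi.one_apply] at h4
    exact absurd (left_eq_add.mp h4) (by decide)

theorem mem_uu_zero (h : EvenSet n V L ε) {i j : Fin n} {y : Fin n → ZMod 2}
    (hi : y i = 0) (hj : y j = 0) : ε y ∈ UU ε i j := by
  have key : ∀ S : Finset (Fin n), i ∉ S → j ∉ S → ε (∑ k ∈ S, Pi.single k 1) ∈ UU ε i j := by
    intro S
    induction S using Finset.induction_on with
    | empty => intro _ _; rw [Finset.sum_empty, h.zero]; exact one_mem _
    | insert k S hk ih =>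
      intro h1 h2
      rw [Finset.mem_insert, not_or] at h1 h2
      rw [Finset.sum_insert hk, h.add]
      exact mul_mem (zz_mem_UU (Ne.symm h1.1) (Ne.symm h2.1)) (ih h1.2 h2.2)
  have h1 : y = ∑ k ∈ Finset.univ.filter (fun k => y k ≠ 0), Pi.single k 1 := by
    funext m
    rw [Finset.sum_apply]
    by_cases hm : y m = 0
    · rw [hm, Finset.sum_eq_zero]
      intro k hk
      have : m ≠ k := by
        rintro rfl
        exact (Finset.mem_filter.mp hk).2 hm
      exact Pi.single_eq_of_ne this _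
    · rw [Finset.sum_eq_single m]
      · rw [Pi.single_eq_same]; exact Tv.z2_one hm
      · intro k _ hk
        exact Pi.single_eq_of_ne (Ne.symm hk) _
      · intro h0
        exfalso
        apply h0
        rw [Finset.mem_filter]
        exact ⟨Finset.mem_univ _, hm⟩
  rw [h1]
  exact key _ (by simp [hi]) (by simp [hj])

theorem mem_uu_coord (h : EvenSet n V L ε) {i j : Fin n} {y : Fin n → ZMod 2}
    (hy : y i = y j) : ε y ∈ UU ε i j := by
  rcases Tv.z2 (y i) with h0 | h0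
  · exact mem_uu_zero h h0 (by rw [← hy, h0])
  · have h1 : ε (y + 1) = ε y := by rw [h.add, h.one, mul_one]
    rw [← h1]
    refine mem_uu_zero h ?_ ?_
    · rw [Pi.add_apply, h0, Pi.one_apply]; decide
    · rw [Pi.add_apply, ← hy, h0, Pi.one_apply]; decide

/-- an element of `V` which is fixed by the transposition `(i j)` is in `U_ij` -/
theorem v_mem_uu (h : EvenSet n V L ε) (hn : 3 ≤ n) {i j : Fin n} {w v : G}
    (hw : Acts ε w (Equiv.swap i j)) (hv : v ∈ V) (hf : w * v * w⁻¹ = v) : v ∈ UU ε i j := by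
  obtain ⟨y, rfl⟩ := h.surj v hv
  exact mem_uu_coord h (coord h hn hw hf)

/-! ### spreading -/

/-- the letters in `P` can be exchanged -/
theorem spread_swap (b : Base V L ε W) {P : Fin n → Prop} {x : G}
    (hx : ∀ a c, P a → P c → a ≠ c → ∀ w ∈ W a c, w * x * w⁻¹ = x) {k l p q : Fin n}
    (hp : P p) (hq : P q) (hkl : x ∈ UU ε k l) : x ∈ UU ε (Equiv.swap p q k) (Equiv.swap p q l) := by
  by_cases hpq : p = q
  · subst hpq
    rw [Equiv.swap_self]
    exact hkl
  · obtain ⟨w, hw, hws⟩ := b.mov p q hpq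
    have h1 := UU_conj hws hkl
    rwa [hx p q hp hq hpq w hw] at h1

theorem spread (b : Base V L ε W) {P : Fin n → Prop} {x : G}
    (hx : ∀ a c, P a → P c → a ≠ c → ∀ w ∈ W a c, w * x * w⁻¹ = x) {k l a c : Fin n}
    (hk : P k) (hl : P l) (ha : P a) (hc : P c) (hkl' : k ≠ l) (hac : a ≠ c)
    (hkl : x ∈ UU ε k l) : x ∈ UU ε a c := by
  have key : ∀ {k l c : Fin n}, P k → P l → P c → k ≠ l → k ≠ c → x ∈ UU ε k l → x ∈ UU ε k c := by
    intro k l c _ hl hc hkl hkc h
    have h1 := spread_swap b hx hl hc h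
    rwa [Equiv.swap_apply_of_ne_of_ne hkl hkc, Equiv.swap_apply_left] at h1
  by_cases h1 : a = k
  · subst h1
    exact key hk hl hc hkl' hac hkl
  by_cases h2 : a = l
  · subst h2
    rw [UU_symm b.ev] at hkl
    exact key hl hk hc hkl'.symm hac hkl
  · have h3 := key hk hl ha hkl' (Ne.symm h1) hkl
    rw [UU_symm b.ev] at h3
    exact key ha hk hc h1 hac h3

/-- an element of some `U_p` fixed by all `W_q` is in `Σ` -/
theorem fix_mem_SG (b : Base V L ε W) {x : G} {k l : Fin n} (hkl' : k ≠ l)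
    (hx : ∀ a c, a ≠ c → ∀ w ∈ W a c, w * x * w⁻¹ = x) (hkl : x ∈ UU ε k l) : x ∈ SG ε :=
  fun _ _ hac => spread b (P := fun _ => True) (fun a c _ _ h => hx a c h) trivial trivial trivial
    trivial hkl' hac hkl

section

variable [Finite G] (b : Base V L ε W) (hodd : Odd n) (hn : 7 ≤ n)
include b hodd hn

/-- elements of `U_ij` are good for the pairs disjoint from `{i, j}` -/
theorem goodAt_of_disj {i j a c : Fin n} (hij : i ≠ j) (hac : a ≠ c) (ai : a ≠ i) (aj : a ≠ j)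
    (ci : c ≠ i) (cj : c ≠ j) {u : G} (hu : u ∈ UU ε i j) : GoodAt ε W u a c where
  triv := fun _ hw hw1 => one b hodd hn hij hac ai aj ci cj hw hw1 hu
  act := fun w hw => b.tra i j a c hij hac ai.symm ci.symm aj.symm cj.symm u hu w hw

/-- an element of `U_ij` is fixed by all `W_q` up to an element of `V`, once it is good for all
pairs; then it is in `V Σ` -/
theorem good_mem_BB {i j : Fin n} (hij : i ≠ j) {u : G} (hu : u ∈ UU ε i j)
    (hg : ∀ a c, a ≠ c → GoodAt ε W u a c) : u ∈ BB V ε := by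
  obtain ⟨y, -, hy⟩ := exists_fix_on b (by omega) (P := fun _ => True) (t := u)
    (fun a c _ _ h => hg a c h)
  have hy' : ∀ a c, a ≠ c → ∀ w ∈ W a c, w * (u * ε y) * w⁻¹ = u * ε y :=
    fun a c h => hy a c trivial trivial h
  obtain ⟨w, hw, hws⟩ := b.mov i j hij
  have h1 : w * u * w⁻¹ = u := by
    rw [mul_inv_eq_iff_eq_mul]
    exact (b.cen i j hij u hu w hw).symm
  have h2 : w * ε y * w⁻¹ = ε y := by
    have h3 := hy' i j hij w hw
    have h4 : w * (u * ε y) * w⁻¹ = (w * u * w⁻¹) * (w * ε y * w⁻¹) := by group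
    rw [h4, h1] at h3
    exact mul_left_cancel h3
  have h3 : ε y ∈ UU ε i j := v_mem_uu b.ev (by omega) hws (b.ev.mem y) h2
  have h4 : u * ε y ∈ SG ε := fix_mem_SG b hij hy' (mul_mem hu h3)
  have h5 : u = (u * ε y) * (ε y)⁻¹ := by group
  rw [h5]
  exact mul_mem (sg_le_BB h4) (inv_mem (v_le_BB (b.ev.mem y)))

/-- **(1)**: `U_ij ∩ U_kl ≤ V Σ` for disjoint pairs -/
theorem inter {i j k l : Fin n} (hij : i ≠ j) (hkl : k ≠ l) (ki : k ≠ i) (kj : k ≠ j) (li : l ≠ i)
    (lj : l ≠ j) {u : G} (h1 : u ∈ UU ε i j) (h2 : u ∈ UU ε k l) : u ∈ BB V ε := by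
  obtain ⟨y, hy0, hy⟩ := exists_fix_on b (by omega) (P := fun m => m ≠ i ∧ m ≠ j) (t := u)
    (fun a c ha hc hac => goodAt_of_disj b hodd hn hij hac ha.1 ha.2 hc.1 hc.2 h1)
  have hyi : y i = 0 := hy0 i (fun h => h.1 rfl)
  have hyj : y j = 0 := hy0 j (fun h => h.2 rfl)
  have hyU : ε y ∈ UU ε i j := mem_uu_zero b.ev hyi hyj
  obtain ⟨w, hw, hws⟩ := b.mov k l hkl
  have h3 : w * u * w⁻¹ = u := by
    rw [mul_inv_eq_iff_eq_mul]
    exact (b.cen k l hkl u h2 w hw).symm
  have h4 : w * ε y * w⁻¹ = ε y := by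
    have h3' := hy k l ⟨ki, kj⟩ ⟨li, lj⟩ hkl w hw
    have h4 : w * (u * ε y) * w⁻¹ = (w * u * w⁻¹) * (w * ε y * w⁻¹) := by group
    rw [h4, h3] at h3'
    exact mul_left_cancel h3'
  have h5 : ε y ∈ UU ε k l := v_mem_uu b.ev (by omega) hws (b.ev.mem y) h4
  set x := u * ε y with hx
  have hx1 : x ∈ UU ε i j := mul_mem h1 hyU
  have hx2 : x ∈ UU ε k l := mul_mem h2 h5
  have hx3 : ∀ a c, a ≠ i ∧ a ≠ j → c ≠ i ∧ c ≠ j → a ≠ c → x ∈ UU ε a c := fun a c ha hc hac =>
    spread b (P := fun m => m ≠ i ∧ m ≠ j) hy ⟨ki, kj⟩ ⟨li, lj⟩ ha hc hkl hac hx2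
  have hx4 : x ∈ BB V ε := by
    refine good_mem_BB b hodd hn hij hx1 fun a c hac => ?_
    obtain ⟨p, q, hpq, ⟨p1, p2, p3, p4⟩, q1, q2, q3, q4⟩ := exists_off (by omega) i j a c
    exact goodAt_of_disj b hodd hn hpq hac p3.symm q3.symm p4.symm q4.symm
      (hx3 p q ⟨p1, p2⟩ ⟨q1, q2⟩ hpq)
  have h6 : u = x * (ε y)⁻¹ := by rw [hx]; group
  rw [h6]
  exact mul_mem hx4 (inv_mem (v_le_BB (b.ev.mem y)))

end

end Cfsg.Agent.Omega.NSix.Free

end

section


/-!
# OMEGA N6 / LeafF4 (O4), #17439 (helper300), (2), (3): `N_ij ∩ N_kl` and `D'` normalise `V Σ`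

`DD ε W i j = ⟨W_c : c ∈ K⟩ = ⟨W_34 ^ {N_12}⟩`.
`wc_BB`: `W_c` moves an element of `U_ij ∩ V Σ` ⇒ `c ∈ V Σ`.
`two_norm`: `N_ij ∩ N_kl ≤ N_G(V Σ)` for disjoint pairs.  `dd_le`: `DD ≤ N_G(V Σ)`.
-/

set_option autoImplicit false

namespace Cfsg.Agent.Omega.NSix.Free

open Subgroup Cfsg Cfsg.Agent.ZN Cfsg.Agent.MinSimple.VModule
open Cfsg.Agent.Omega.S5.Def Cfsg.Agent.Omega.NSix.Base Cfsg.Agent.Omega.NSix.Basic
open Cfsg.Agent.Omega.NSix.One
open Cfsg.Agent.Omega.NSix.End.Six (exists_off)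

universe u

variable {G : Type u} [Group G] {n : ℕ} {V L : Subgroup G} {ε : (Fin n → ZMod 2) → G}
  {W : Fin n → Fin n → Subgroup G}

/-! ### generation -/

theorem eps_mem (h : EvenSet n V L ε) {H : Subgroup G} {y : Fin n → ZMod 2}
    (hz : ∀ k, y k ≠ 0 → zz ε k ∈ H) : ε y ∈ H := by
  have key : ∀ S : Finset (Fin n), (∀ k ∈ S, y k ≠ 0) → ε (∑ k ∈ S, Pi.single k 1) ∈ H := by
    intro S
    induction S using Finset.induction_on with
    | empty => intro _; rw [Finset.sum_empty, h.zero]; exact one_mem _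
    | insert k S hk ih =>
      intro h1
      rw [Finset.sum_insert hk, h.add]
      exact mul_mem (hz k (h1 k (Finset.mem_insert_self _ _)))
        (ih fun m hm => h1 m (Finset.mem_insert_of_mem hm))
  have h1 : y = ∑ k ∈ Finset.univ.filter (fun k => y k ≠ 0), Pi.single k 1 := by
    funext m
    rw [Finset.sum_apply]
    by_cases hm : y m = 0
    · rw [hm, Finset.sum_eq_zero]
      intro k hk
      have : m ≠ k := by
        rintro rfl
        exact (Finset.mem_filter.mp hk).2 hm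
      exact Pi.single_eq_of_ne this _
    · rw [Finset.sum_eq_single m]
      · rw [Pi.single_eq_same]; exact Tv.z2_one hm
      · intro k _ hk
        exact Pi.single_eq_of_ne (Ne.symm hk) _
      · intro h0
        exfalso
        apply h0
        rw [Finset.mem_filter]
        exact ⟨Finset.mem_univ _, hm⟩
  rw [h1]
  exact key _ fun k hk => (Finset.mem_filter.mp hk).2

/-- a subgroup which contains all points contains `V` -/
theorem v_le_of_zz (h : EvenSet n V L ε) {H : Subgroup G} (hz : ∀ k, zz ε k ∈ H) : V ≤ H := by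
  intro v hv
  obtain ⟨y, rfl⟩ := h.surj v hv
  exact eps_mem h fun k _ => hz k

/-- a subgroup which contains the points off `i`, `j` contains `V ∩ U_ij` -/
theorem v_uu_le_of_zz (b : Base V L ε W) (hn : 3 ≤ n) {i j : Fin n} (hij : i ≠ j) {H : Subgroup G}
    (hz : ∀ k, k ≠ i → k ≠ j → zz ε k ∈ H) {v : G} (hv : v ∈ V) (hvU : v ∈ UU ε i j) : v ∈ H := by
  obtain ⟨y, rfl⟩ := b.ev.surj v hv
  obtain ⟨w, hw, hws⟩ := b.mov i j hij
  have h1 : y i = y j := by
    refine coord b.ev hn hws ?_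
    rw [mul_inv_eq_iff_eq_mul]
    exact (b.cen i j hij _ hvU w hw).symm
  have key : ∀ y : Fin n → ZMod 2, y i = 0 → y j = 0 → ε y ∈ H := by
    intro y hi hj
    refine eps_mem b.ev fun k hk => hz k ?_ ?_
    · rintro rfl; exact hk hi
    · rintro rfl; exact hk hj
  rcases Tv.z2 (y i) with h0 | h0
  · exact key y h0 (by rw [← h1, h0])
  · have h2 : ε (y + 1) = ε y := by rw [b.ev.add, b.ev.one, mul_one]
    rw [← h2]
    refine key _ ?_ ?_
    · rw [Pi.add_apply, h0, Pi.one_apply]; decide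
    · rw [Pi.add_apply, ← h1, h0, Pi.one_apply]; decide

/-- a subgroup which contains `r_ij` and the pairs off `i`, `j` contains the points off `i`, `j` -/
theorem zz_mem_of_rr (h : EvenSet n V L ε) (hodd : Odd n) (hn : 3 ≤ n) {i j : Fin n} (hij : i ≠ j)
    {H : Subgroup G} (h1 : rr ε i j ∈ H)
    (h2 : ∀ a c, a ≠ c → a ≠ i → a ≠ j → c ≠ i → c ≠ j → rr ε a c ∈ H) {m : Fin n} (mi : m ≠ i)
    (mj : m ≠ j) : zz ε m ∈ H := by
  have h3 := compl_rr h hij (fun t y => y ∈ V ∧ y * zz ε m ^ t ∈ H)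
    ⟨one_mem _, by rw [pow_zero, mul_one]; exact one_mem _⟩ (by
      rintro k ki kj t y ⟨hy, hyH⟩
      refine ⟨mul_mem (zz_mem h k) hy, ?_⟩
      have h4 : zz ε k * y * zz ε m ^ (t + 1) = (zz ε k * zz ε m) * (y * zz ε m ^ t) := by
        rw [pow_succ']
        calc zz ε k * y * (zz ε m * zz ε m ^ t) = zz ε k * (y * zz ε m) * zz ε m ^ t := by group
          _ = zz ε k * (zz ε m * y) * zz ε m ^ t := by rw [h.comm_mem hy (zz_mem h m)]
          _ = _ := by group
      rw [h4]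
      refine mul_mem ?_ hyH
      by_cases hkm : k = m
      · subst hkm; rw [zz_sq h]; exact one_mem _
      · exact h2 k m hkm ki kj mi mj)
  obtain ⟨t, ht⟩ := hodd
  have h4 : zz ε m ^ (n - 2) = zz ε m := by
    have h5 : n - 2 = 2 * (t - 1) + 1 := by omega
    rw [h5, pow_add, pow_mul, pow_one, pow_two, zz_sq h, one_pow, one_mul]
  rw [h4] at h3
  have h5 := mul_mem (inv_mem h1) h3.2
  rwa [inv_mul_cancel_left] at h5

/-- exchange of letters -/
theorem spread_abs {P : Fin n → Prop} {Q : Fin n → Fin n → Prop} (symm : ∀ a c, Q a c → Q c a)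
    (sw : ∀ p q a c, P p → P q → p ≠ q → Q a c → Q (Equiv.swap p q a) (Equiv.swap p q c))
    {k l a c : Fin n} (hk : P k) (hl : P l) (ha : P a) (hc : P c) (hkl : k ≠ l) (hac : a ≠ c)
    (h : Q k l) : Q a c := by
  have key : ∀ {k l c : Fin n}, P k → P l → P c → k ≠ l → k ≠ c → Q k l → Q k c := by
    intro k l c _ hl hc hkl hkc h
    by_cases hlc : l = c
    · subst hlc; exact h
    · have h1 := sw l c k l hl hc hlc h
      rwa [Equiv.swap_apply_of_ne_of_ne hkl hkc, Equiv.swap_apply_left] at h1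
  by_cases h1 : a = k
  · subst h1
    exact key hk hl hc hkl hac h
  by_cases h2 : a = l
  · subst h2
    exact key hl hk hc hkl.symm hac (symm _ _ h)
  · exact key ha hk hc h1 hac (symm _ _ (key hk hl ha hkl (Ne.symm h1) h))

theorem mem_normalizer_of_le [Finite G] {H : Subgroup G} {g : G} (h : ∀ x ∈ H, g * x * g⁻¹ ∈ H) :
    g ∈ normalizer (H : Set G) := by
  apply mem_normalizer_of_map_le
  rintro _ ⟨v, hv, rfl⟩
  exact h v hv

/-- three letters off four letters -/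
theorem exists_three (hn : 7 ≤ n) (a c d e : Fin n) : ∃ p q r : Fin n, p ≠ q ∧ p ≠ r ∧ q ≠ r ∧
    (p ≠ a ∧ p ≠ c ∧ p ≠ d ∧ p ≠ e) ∧ (q ≠ a ∧ q ≠ c ∧ q ≠ d ∧ q ≠ e) ∧
    (r ≠ a ∧ r ≠ c ∧ r ≠ d ∧ r ≠ e) := by
  have hcard : 2 < (Finset.univ \ {a, c, d, e} : Finset (Fin n)).card := by
    have h1 := Finset.le_card_sdiff {a, c, d, e} (Finset.univ : Finset (Fin n))
    rw [Finset.card_univ, Fintype.card_fin] at h1
    have h2 : ({a, c, d, e} : Finset (Fin n)).card ≤ 4 := Finset.card_le_four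
    omega
  obtain ⟨p, hp, q, hq, r, hr, hpq, hpr, hqr⟩ := Finset.two_lt_card.mp hcard
  simp only [Finset.mem_sdiff, Finset.mem_univ, true_and, Finset.mem_insert,
    Finset.mem_singleton, not_or] at hp hq hr
  exact ⟨p, q, r, hpq, hpr, hqr, hp, hq, hr⟩

section

variable (b : Base V L ε W)
include b

/-- if `x ∈ W_c` treats two points in the same way then it commutes with the pair -/
theorem pair_of_iff {i j : Fin n} (hij : i ≠ j) {c x : G} (hx : Wc ε W i j c x) {a d : Fin n}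
    (ai : a ≠ i) (aj : a ≠ j) (di : d ≠ i) (dj : d ≠ j)
    (hiff : x * zz ε a * x⁻¹ = zz ε a ↔ x * zz ε d * x⁻¹ = zz ε d) : x ∈ NN ε a d := by
  have h1 := wc_act b hij hx (zz_mem_UU (ε := ε) ai aj)
  have h2 := wc_act b hij hx (zz_mem_UU (ε := ε) di dj)
  have hcK := wc_kk hx
  rw [mem_NN']
  unfold rr
  have h4 : x * (zz ε a * zz ε d) * x⁻¹ = (x * zz ε a * x⁻¹) * (x * zz ε d * x⁻¹) := by group
  rw [h4]
  by_cases h5 : x * zz ε a * x⁻¹ = zz ε a
  · rw [h5, hiff.mp h5]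
  · rw [h1.resolve_left h5, h2.resolve_left (fun h => h5 (hiff.mpr h))]
    have h6 := uu_comm b hij (kk_mem_UU hcK) (zz_mem_UU (ε := ε) di dj)
    calc zz ε a * c * (zz ε d * c) = zz ε a * (c * zz ε d) * c := by group
      _ = zz ε a * zz ε d * (c * c) := by rw [h6]; group
      _ = _ := by rw [kk_sq b hcK, mul_one]

/-- among three letters there is a pair commuting with `x ∈ W_c` -/
theorem pair_of_three (hn : 7 ≤ n) {i j : Fin n} (hij : i ≠ j) {c x : G} (hx : Wc ε W i j c x)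
    (c1 c2 : Fin n) : ∃ a d : Fin n, a ≠ d ∧ (a ≠ i ∧ a ≠ j ∧ a ≠ c1 ∧ a ≠ c2) ∧
      (d ≠ i ∧ d ≠ j ∧ d ≠ c1 ∧ d ≠ c2) ∧ x ∈ NN ε a d := by
  obtain ⟨p, q, r, hpq, hpr, hqr, hp, hq, hr⟩ := exists_three hn i j c1 c2
  by_cases h1 : x * zz ε p * x⁻¹ = zz ε p <;> by_cases h2 : x * zz ε q * x⁻¹ = zz ε q <;>
    by_cases h3 : x * zz ε r * x⁻¹ = zz ε r
  · exact ⟨p, q, hpq, hp, hq, pair_of_iff b hij hx hp.1 hp.2.1 hq.1 hq.2.1 (iff_of_true h1 h2)⟩
  · exact ⟨p, q, hpq, hp, hq, pair_of_iff b hij hx hp.1 hp.2.1 hq.1 hq.2.1 (iff_of_true h1 h2)⟩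
  · exact ⟨p, r, hpr, hp, hr, pair_of_iff b hij hx hp.1 hp.2.1 hr.1 hr.2.1 (iff_of_true h1 h3)⟩
  · exact ⟨q, r, hqr, hq, hr, pair_of_iff b hij hx hq.1 hq.2.1 hr.1 hr.2.1 (iff_of_false h2 h3)⟩
  · exact ⟨q, r, hqr, hq, hr, pair_of_iff b hij hx hq.1 hq.2.1 hr.1 hr.2.1 (iff_of_true h2 h3)⟩
  · exact ⟨p, r, hpr, hp, hr, pair_of_iff b hij hx hp.1 hp.2.1 hr.1 hr.2.1 (iff_of_false h1 h3)⟩
  · exact ⟨p, q, hpq, hp, hq, pair_of_iff b hij hx hp.1 hp.2.1 hq.1 hq.2.1 (iff_of_false h1 h2)⟩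
  · exact ⟨p, q, hpq, hp, hq, pair_of_iff b hij hx hp.1 hp.2.1 hq.1 hq.2.1 (iff_of_false h1 h2)⟩

end

/-- `D' = ⟨W_c : c ∈ K⟩` -/
def DD (ε : (Fin n → ZMod 2) → G) (W : Fin n → Fin n → Subgroup G) (i j : Fin n) : Subgroup G :=
  closure {x | ∃ c, Wc ε W i j c x}

theorem wc_le_DD {i j : Fin n} {c x : G} (hx : Wc ε W i j c x) : x ∈ DD ε W i j :=
  subset_closure ⟨c, hx⟩

theorem dd_le_NN (b : Base V L ε W) (i j : Fin n) : DD ε W i j ≤ NN ε i j := by
  unfold DD
  rw [closure_le]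
  rintro x ⟨c, hx⟩
  exact wc_NN b hx

theorem dd_normal {i j : Fin n} : NN ε i j ≤ normalizer (DD ε W i j : Set G) := by
  have key : ∀ g ∈ NN ε i j, ∀ x ∈ DD ε W i j, g * x * g⁻¹ ∈ DD ε W i j := by
    intro g hg x hx
    have h1 : DD ε W i j ≤ (DD ε W i j).comap (MulAut.conj g).toMonoidHom := by
      conv_lhs => unfold DD
      rw [closure_le]
      rintro y ⟨c, hy⟩
      exact wc_le_DD (wc_conj hy hg)
    exact h1 hx
  intro g hg
  rw [mem_normalizer_iff]
  refine fun x => ⟨key g hg x, fun hx => ?_⟩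
  have := key g⁻¹ (inv_mem hg) _ hx
  have e : g⁻¹ * (g * x * g⁻¹) * g⁻¹⁻¹ = x := by group
  rwa [e] at this

/-- the pairs off `i`, `j` are conjugate under `D'` -/
theorem dd_trans (b : Base V L ε W) {i j k l a c : Fin n} (ki : k ≠ i) (kj : k ≠ j) (li : l ≠ i)
    (lj : l ≠ j) (hkl : k ≠ l) (ai : a ≠ i) (aj : a ≠ j) (ci : c ≠ i) (cj : c ≠ j) (hac : a ≠ c) :
    ∃ d ∈ DD ε W i j, d * rr ε k l * d⁻¹ = rr ε a c := by
  refine spread_abs (P := fun m => m ≠ i ∧ m ≠ j)
    (Q := fun a c => ∃ d ∈ DD ε W i j, d * rr ε k l * d⁻¹ = rr ε a c) ?_ ?_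
    ⟨ki, kj⟩ ⟨li, lj⟩ ⟨ai, aj⟩ ⟨ci, cj⟩ hkl hac ⟨1, one_mem _, by group⟩
  · rintro a c ⟨d, hd, h⟩
    exact ⟨d, hd, by rw [h, rr_symm b.ev]⟩
  · rintro p q a c hp hq hpq ⟨d, hd, h⟩
    obtain ⟨w, hw, hws⟩ := b.mov p q hpq
    refine ⟨w * d, mul_mem (wc_le_DD ((wc_rr b hp hq hpq).mpr hw)) hd, ?_⟩
    rw [← rr_conj hws, ← h]
    group

section

variable [Finite G] (b : Base V L ε W) (hodd : Odd n) (hn : 7 ≤ n)
include b hodd hn

/-- **(2)**: if `W_c` moves an element of `U_ij ∩ V Σ` then `c ∈ V Σ` -/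
theorem wc_BB {i j : Fin n} (hij : i ≠ j) {c x t : G} (hx : Wc ε W i j c x) (ht : t ∈ UU ε i j)
    (htB : t ∈ BB V ε) (hm : x * t * x⁻¹ ≠ t) : c ∈ BB V ε := by
  by_contra hcB
  have hcK := wc_kk hx
  have hcU := kk_mem_UU hcK
  have hcne := kk_ne b (by omega) hcK
  have hA : ∀ a d, a ≠ d → a ≠ i → a ≠ j → d ≠ i → d ≠ j → x ∈ NN ε a d → ∀ u ∈ UU ε i j,
      u ∈ UU ε a d → x * u * x⁻¹ = u := by
    intro a d had ai aj di dj hxN u hu hu2
    rcases wc_act b hij hx hu with h | h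
    · exact h
    · exfalso
      apply hcB
      have h1 := UU_normal hxN hu2
      rw [h] at h1
      have h2 : c ∈ UU ε a d := by
        have := mul_mem (inv_mem hu2) h1
        rwa [inv_mul_cancel_left] at this
      exact inter b hodd hn hij had ai aj di dj hcU h2
  have hpt := fun m (hmi : m ≠ i) (hmj : m ≠ j) => wc_act b hij hx (zz_mem_UU (ε := ε) hmi hmj)
  have hC : ∀ c1 c2, c1 ≠ i → c1 ≠ j → c2 ≠ i → c2 ≠ j →
      x * rr ε c1 c2 * x⁻¹ = rr ε c1 c2 := by
    intro c1 c2 h1 h2 h3 h4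
    obtain ⟨a, d, had, ⟨a1, a2, a3, a4⟩, ⟨d1, d2, d3, d4⟩, hxN⟩ := pair_of_three b hn hij hx c1 c2
    exact hA a d had a1 a2 d1 d2 hxN _ (rr_mem_UU h1 h2 h3 h4)
      (rr_mem_UU (Ne.symm a3) (Ne.symm d3) (Ne.symm a4) (Ne.symm d4))
  have hr : x * rr ε i j * x⁻¹ = rr ε i j := mem_NN'.mp (wc_NN b hx)
  have hD : ∀ m, m ≠ i → m ≠ j → x * zz ε m * x⁻¹ = zz ε m := by
    intro m mi mj
    have h1 : zz ε m ∈ centralizer ({x} : Set G) := by
      refine zz_mem_of_rr b.ev hodd (by omega) hij ?_ ?_ mi mj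
      · rw [mem_centralizer_singleton_iff]
        exact (mul_inv_eq_iff_eq_mul.mp hr).symm
      · intro a d _ ai aj di dj
        rw [mem_centralizer_singleton_iff]
        exact (mul_inv_eq_iff_eq_mul.mp (hC a d ai aj di dj)).symm
    rw [mem_centralizer_singleton_iff] at h1
    rw [← h1, mul_inv_cancel_right]
  obtain ⟨v, hv, s, hs, rfl⟩ := (mem_BB b (by omega)).mp htB
  have hsU := hs i j hij
  have hvU : v ∈ UU ε i j := by
    have := mul_mem ht (inv_mem hsU)
    rwa [mul_inv_cancel_right] at this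
  have hxv : x * v * x⁻¹ = v := by
    have h1 : v ∈ centralizer ({x} : Set G) := by
      refine v_uu_le_of_zz b (by omega) hij (fun k ki kj => ?_) hv hvU
      rw [mem_centralizer_singleton_iff]
      exact (mul_inv_eq_iff_eq_mul.mp (hD k ki kj)).symm
    rw [mem_centralizer_singleton_iff] at h1
    rw [← h1, mul_inv_cancel_right]
  apply hm
  obtain ⟨a, d, had, ⟨a1, a2, -, -⟩, ⟨d1, d2, -, -⟩, hxN⟩ := pair_of_three b hn hij hx i i
  have h2 := hA a d had a1 a2 d1 d2 hxN s hsU (hs a d had)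
  calc x * (v * s) * x⁻¹ = (x * v * x⁻¹) * (x * s * x⁻¹) := by group
    _ = _ := by rw [hxv, h2]

/-- `D'` normalises `U_ij ∩ V Σ` -/
theorem dd_AS {i j : Fin n} (hij : i ≠ j) :
    DD ε W i j ≤ normalizer ((UU ε i j ⊓ BB V ε : Subgroup G) : Set G) := by
  conv_lhs => unfold DD
  rw [closure_le]
  rintro x ⟨c, hx⟩
  refine mem_normalizer_of_le ?_
  intro t ht
  obtain ⟨h1, h2⟩ := Subgroup.mem_inf.mp ht
  by_cases hm : x * t * x⁻¹ = t
  · rw [hm]; exact ht
  · rw [(wc_act b hij hx h1).resolve_left hm]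
    exact Subgroup.mem_inf.mpr ⟨mul_mem h1 (kk_mem_UU (wc_kk hx)),
      mul_mem h2 (wc_BB b hodd hn hij hx h1 h2 hm)⟩

/-- `N_ij ∩ N_kl` normalises `U_ij ∩ V Σ` (mod `V Σ`) -/
theorem yy_AS {i j k l : Fin n} (hij : i ≠ j) (hkl : k ≠ l) (ki : k ≠ i) (kj : k ≠ j) (li : l ≠ i)
    (lj : l ≠ j) {y t : G} (hy1 : y ∈ NN ε i j) (hy2 : y ∈ NN ε k l) (ht : t ∈ UU ε i j)
    (htB : t ∈ BB V ε) : y * t * y⁻¹ ∈ BB V ε := by
  have hs : ∀ s ∈ SG ε, y * s * y⁻¹ ∈ BB V ε := fun s hs =>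
    inter b hodd hn hij hkl ki kj li lj (UU_normal hy1 (hs i j hij)) (UU_normal hy2 (hs k l hkl))
  have hz : ∀ m, m ≠ i → m ≠ j → zz ε m ∈ (BB V ε).comap (MulAut.conj y).toMonoidHom := by
    intro m mi mj
    refine zz_mem_of_rr b.ev hodd (by omega) hij ?_ ?_ mi mj
    · change y * rr ε i j * y⁻¹ ∈ BB V ε
      rw [mem_NN'.mp hy1]
      exact v_le_BB (rr_mem b.ev i j)
    · intro a c hac ai aj ci cj
      change y * rr ε a c * y⁻¹ ∈ BB V ε
      obtain ⟨d, hd, h1⟩ := dd_trans b ki kj li lj hkl ai aj ci cj hac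
      have h2 : y * d * y⁻¹ ∈ DD ε W i j := (mem_normalizer_iff.mp (dd_normal hy1) d).mp hd
      have h3 : rr ε k l ∈ (UU ε i j ⊓ BB V ε : Subgroup G) :=
        Subgroup.mem_inf.mpr ⟨rr_mem_UU ki kj li lj, v_le_BB (rr_mem b.ev k l)⟩
      have h4 := (mem_normalizer_iff.mp (dd_AS b hodd hn hij h2) _).mp h3
      have h5 : y * rr ε a c * y⁻¹ = y * d * y⁻¹ * rr ε k l * (y * d * y⁻¹)⁻¹ := by
        have h6 : y⁻¹ * rr ε k l * y = rr ε k l := by
          have := mem_NN'.mp (inv_mem hy2)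
          rwa [inv_inv] at this
        rw [← h1]
        calc y * (d * rr ε k l * d⁻¹) * y⁻¹ = y * d * (rr ε k l) * d⁻¹ * y⁻¹ := by group
          _ = y * d * (y⁻¹ * rr ε k l * y) * d⁻¹ * y⁻¹ := by rw [h6]
          _ = _ := by group
      rw [h5]
      exact (Subgroup.mem_inf.mp h4).2
  obtain ⟨v, hv, s, hs', rfl⟩ := (mem_BB b (by omega)).mp htB
  have hvU : v ∈ UU ε i j := by
    have := mul_mem ht (inv_mem (hs' i j hij))
    rwa [mul_inv_cancel_right] at this
  have h1 : y * v * y⁻¹ ∈ BB V ε := v_uu_le_of_zz b (by omega) hij hz hv hvU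
  have h2 : y * (v * s) * y⁻¹ = (y * v * y⁻¹) * (y * s * y⁻¹) := by group
  rw [h2]
  exact mul_mem h1 (hs s hs')

/-- **(3)**: `N_ij ∩ N_kl ≤ N_G(V Σ)` -/
theorem two_norm {i j k l : Fin n} (hij : i ≠ j) (hkl : k ≠ l) (ki : k ≠ i) (kj : k ≠ j)
    (li : l ≠ i) (lj : l ≠ j) {y : G} (hy1 : y ∈ NN ε i j) (hy2 : y ∈ NN ε k l) :
    y ∈ normalizer (BB V ε : Set G) := by
  refine mem_normalizer_of_le ?_
  have hs : ∀ s ∈ SG ε, y * s * y⁻¹ ∈ BB V ε := fun s hs =>
    inter b hodd hn hij hkl ki kj li lj (UU_normal hy1 (hs i j hij)) (UU_normal hy2 (hs k l hkl))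
  have hV : V ≤ (BB V ε).comap (MulAut.conj y).toMonoidHom := by
    refine v_le_of_zz b.ev fun m => ?_
    change y * zz ε m * y⁻¹ ∈ BB V ε
    by_cases hm : m ≠ i ∧ m ≠ j
    · exact yy_AS b hodd hn hij hkl ki kj li lj hy1 hy2 (zz_mem_UU hm.1 hm.2) (v_le_BB (zz_mem b.ev m))
    · have hm' : m ≠ k ∧ m ≠ l := by
        constructor
        · rintro rfl; exact hm ⟨ki, kj⟩
        · rintro rfl; exact hm ⟨li, lj⟩
      exact yy_AS b hodd hn hkl hij (Ne.symm ki) (Ne.symm li) (Ne.symm kj) (Ne.symm lj) hy2 hy1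
        (zz_mem_UU hm'.1 hm'.2) (v_le_BB (zz_mem b.ev m))
  intro x hx
  obtain ⟨v, hv, s, hs', rfl⟩ := (mem_BB b (by omega)).mp hx
  have h2 : y * (v * s) * y⁻¹ = (y * v * y⁻¹) * (y * s * y⁻¹) := by group
  rw [h2]
  exact mul_mem (hV hv) (hs s hs')

/-- `D' ≤ N_G(V Σ)` -/
theorem dd_le {i j : Fin n} (hij : i ≠ j) : DD ε W i j ≤ normalizer (BB V ε : Set G) := by
  unfold DD
  rw [closure_le]
  rintro x ⟨c, hx⟩
  obtain ⟨a, d, had, ⟨a1, a2, -, -⟩, ⟨d1, d2, -, -⟩, hxN⟩ := pair_of_three b hn hij hx i i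
  exact two_norm b hodd hn hij had a1 a2 d1 d2 (wc_NN b hx) hxN

end

end Cfsg.Agent.Omega.NSix.Free

end
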