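import Cfsg.Agent.Mrg.Omega.S5.Syl
import Cfsg.Agent.Mrg.Omega.FFMutual
import Cfsg.Agent.Mrg.Omega.FrameI

section


/-!
# II.c: normal position of a mutual pair; pairs with members of type `S_{2^m+1}`

* `exists_pos` : `V' = (V_{P₂})^y ≤ S` and `V_{P₁} ≤ S^y` after a change of `x`;
* `Side V A ε` : `A` acts on the labelled module `V` by products of disjoint transpositions, all of which are induced
  by `A`;
* `Side.comm_eq`, `match_swap` : a transposition induced by `V'` on `V` has the same commutator `⟨n⟩` as a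
  transposition induced by `V` on `V'`.
-/

set_option autoImplicit false

namespace Cfsg.Agent.Omega.S5.Pair

open Subgroup Pointwise Cfsg Cfsg.Agent.ZN Cfsg.Agent.ZN.ChoiceBase
open Cfsg.Agent.Omega.MinPar Cfsg.Agent.Omega.FFThm
open Cfsg.Agent.Omega.FrameFF (cv Free)
open Cfsg.Agent.Omega.FrameMulti (IsSym IsNat Typed AllTyped)
open Cfsg.Agent.Omega.S5.Def Cfsg.Agent.Omega.S5.Syl
open Cfsg.Agent.MinSimple.VModule (le_normalizer_zl)

universe u

variable {G : Type u} [Group G]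

/-! ### Normal position -/

theorem Mutual.change {S P₁ P₂ : Subgroup G} {x y : G} (h : Mutual S P₁ P₂ x)
    (hxy : cj y (zl S P₂) = cj x (zl S P₂)) : Mutual S P₁ P₂ y := by
  have e : (MulAut.conj y • zl S P₂ : Subgroup G) = MulAut.conj x • zl S P₂ := hxy
  refine ⟨h.star₁, h.star₂, ?_, ?_, ?_⟩
  · rw [e]; exact h.le₁
  · rw [e]; exact h.le₂
  · rw [e]; exact h.ne

theorem Mutual.conj_left {S P₁ P₂ : Subgroup G} {x n : G} (h : Mutual S P₁ P₂ x)
    (hn : n ∈ normalizer (zl S P₁ : Set G)) : Mutual S P₁ P₂ (n * x) := by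
  have e : (MulAut.conj (n * x) • zl S P₂ : Subgroup G) = MulAut.conj n • MulAut.conj x • zl S P₂ :=
    (cj_cj n x _).symm
  have e1 : (MulAut.conj n • zl S P₁ : Subgroup G) = zl S P₁ := cj_eq_of_mem_normalizer hn
  refine ⟨h.star₁, h.star₂, ?_, ?_, ?_⟩
  · rw [e, MinSimple.CosetFam.normalizer_conj, ← e1]
    exact conj_smul_mono_iff.mpr h.le₁
  · have h1 := conj_smul_mono_iff (g := n) |>.mpr h.le₂
    rw [← MinSimple.CosetFam.normalizer_conj, e1] at h1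
    rw [e]
    exact h1
  · intro h0
    apply h.ne
    have h2 : (⁅zl S P₁, MulAut.conj (n * x) • zl S P₂⁆ : Subgroup G) =
        MulAut.conj n • ⁅zl S P₁, MulAut.conj x • zl S P₂⁆ := by
      rw [conj_smul_commutator, e1, e]
    have h3 : MulAut.conj n⁻¹ • ⁅zl S P₁, MulAut.conj (n * x) • zl S P₂⁆ =
        ⁅zl S P₁, MulAut.conj x • zl S P₂⁆ := by
      rw [h2, conj_inv_smul]
    rw [← h3, h0]
    exact smul_bot _

/-- **Normal position.** -/
theorem exists_pos [Finite G] (hc : IsCharacteristicTwoType G) (S : Sylow 2 G) {P₁ P₂ : Subgroup G} {x : G}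
    (h : Mutual (S : Subgroup G) P₁ P₂ x) : ∃ y : G, Mutual (S : Subgroup G) P₁ P₂ y ∧
      cj y (zl (S : Subgroup G) P₂) ≤ (S : Subgroup G) ∧ zl (S : Subgroup G) P₁ ≤ cj y (S : Subgroup G) := by
  have e1 := elem_zl hc S h.star₁.isLoc
  have e2 := elem_zl hc S h.star₂.isLoc
  obtain ⟨n, hn, h1⟩ := exists_conj_le S (h.star₁.le.trans (le_normalizer_zl _ _))
    (isPGroup_of_elem (isElementaryAbelian_cj x e2)) h.le₂
  have hm1 := Mutual.conj_left h hn
  rw [cj_cj] at h1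
  have h2 : cj (n * x)⁻¹ (zl (S : Subgroup G) P₁) ≤ normalizer (zl (S : Subgroup G) P₂ : Set G) := by
    rw [cj_le_iff, inv_inv, cj_normalizer]
    exact hm1.le₁
  obtain ⟨k, hk, h3⟩ := exists_conj_le S (h.star₂.le.trans (le_normalizer_zl _ _))
    (isPGroup_of_elem (isElementaryAbelian_cj (n * x)⁻¹ e1)) h2
  have h4 : cj (n * x * k⁻¹) (zl (S : Subgroup G) P₂) = cj (n * x) (zl (S : Subgroup G) P₂) := by
    rw [← cj_cj, cj_eq_of_mem_normalizer (Subgroup.inv_mem _ hk)]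
  refine ⟨n * x * k⁻¹, Mutual.change hm1 h4, ?_, ?_⟩
  · rw [h4]
    exact h1
  · rw [cj_cj, cj_le_iff] at h3
    have h5 : (k * (n * x)⁻¹)⁻¹ = n * x * k⁻¹ := by group
    rwa [h5] at h3

/-! ### One side -/

/-- `A` acts on the labelled module by products of disjoint transpositions induced by `A`. -/
def Side {n : ℕ} (A : Subgroup G) (ε : (Fin n → ZMod 2) → G) : Prop :=
  ∀ a ∈ A, ∃ τ : Equiv.Perm (Fin n), Acts ε a τ ∧ ∀ i, τ i ≠ i → τ (τ i) = i ∧
    ∃ b ∈ A, Acts ε b (Equiv.swap i (τ i))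

theorem Side.conj {n : ℕ} {A : Subgroup G} {ε : (Fin n → ZMod 2) → G} (h : Side A ε) (c : G) :
    Side (cj c A) (fun x => c * ε x * c⁻¹) := by
  intro a ha
  rw [mem_cj] at ha
  obtain ⟨τ, h1, h2⟩ := h _ ha
  have e : c * (c⁻¹ * a * c) * c⁻¹ = a := by group
  refine ⟨τ, ?_, fun i hi => ⟨(h2 i hi).1, ?_⟩⟩
  · have h3 := h1.conj_label c
    rwa [e] at h3
  · obtain ⟨b, hb, h3⟩ := (h2 i hi).2
    refine ⟨c * b * c⁻¹, ?_, h3.conj_label c⟩
    rw [mem_cj]
    have e' : c⁻¹ * (c * b * c⁻¹) * c = b := by group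
    rwa [e']

/-- The members of type `S_{2^m+1}` with `C_V(O²(P)) = 1` are labelled. -/
theorem exists_lab (S : Subgroup G) {P : Subgroup G} {m : ℕ} (hm : 2 ≤ m) (hSP : S ≤ P)
    (h : IsSym S P 1 m) (hF : Free S P) :
    ∃ ε : (Fin (2 ^ m + 1) → ZMod 2) → G, EvenSet (2 ^ m + 1) (zl S P) P ε ∧ Fix0 ε S ∧
      ∀ A : Subgroup G, A ≤ S → Off (zl S P) A → Side A ε := by
  obtain ⟨N⟩ := h
  have hm1 : 1 ≤ m := by omega
  exact ⟨_, Of.evenSet N hF hm1 (le_normalizer_zl _ _), Of.fix0 N hF hm1 (le_normalizer_zl _ _) hSP,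
    fun A hA hoff a ha => Of.off N hF hm1 (le_normalizer_zl _ _) hSP hA hoff ha⟩

/-! ### Transpositions -/

section swap

variable {n : ℕ} {V L : Subgroup G} {ε : (Fin n → ZMod 2) → G}

theorem comp_swap (u : Fin n → ZMod 2) (i j : Fin n) :
    u ∘ (Equiv.swap i j).symm = u + (u i + u j) • (Pi.single i 1 + Pi.single j 1) := by
  have h01 : ∀ a b : ZMod 2, b = a + (a + b) * 1 := by decide
  funext k
  simp only [Function.comp_apply, Equiv.symm_swap, Pi.add_apply, Pi.smul_apply, smul_eq_mul]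
  by_cases hij : i = j
  · subst hij
    rw [CharTwo.add_self_eq_zero, zero_mul, add_zero]
    simp
  · by_cases hi : k = i
    · subst hi
      rw [Equiv.swap_apply_left, Pi.single_eq_same, Pi.single_eq_of_ne hij, add_zero]
      exact h01 _ _
    · by_cases hj : k = j
      · subst hj
        rw [Equiv.swap_apply_right, Pi.single_eq_same, Pi.single_eq_of_ne hi, zero_add, add_comm (u i)]
        exact h01 _ _
      · rw [Equiv.swap_apply_of_ne_of_ne hi hj, Pi.single_eq_of_ne hi, Pi.single_eq_of_ne hj, add_zero,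
          mul_zero, add_zero]

/-- A transposition acts as a transvection. -/
theorem acts_swap (h : EvenSet n V L ε) {b : G} {i j : Fin n} (hb : Acts ε b (Equiv.swap i j))
    (u : Fin n → ZMod 2) :
    (u i = u j → b * ε u = ε u * b) ∧
      (u i ≠ u j → b * ε u * b⁻¹ = ε u * ε (Pi.single i 1 + Pi.single j 1)) := by
  have h01 : ∀ a b : ZMod 2, a ≠ b → a + b = 1 := by decide
  have h1 := hb u
  rw [comp_swap] at h1
  constructor
  · intro hu
    rw [hu, CharTwo.add_self_eq_zero, zero_smul, add_zero] at h1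
    calc b * ε u = b * ε u * b⁻¹ * b := by group
      _ = ε u * b := by rw [h1]
  · intro hu
    rw [h01 _ _ hu, one_smul, h.add] at h1
    exact h1

theorem pair_ne_one (h : EvenSet n V L ε) (hn : 3 ≤ n) {i j : Fin n} (hij : i ≠ j) :
    ε (Pi.single i 1 + Pi.single j 1) ≠ 1 := by
  intro h0
  rw [h.add] at h0
  refine hij (h.single_inj hn ?_)
  rw [← h.inv (Pi.single j 1)]
  exact eq_inv_of_mul_eq_one_left h0

/-- `b` acting as `(i j)` commutes with `ε u` iff `u i = u j`. -/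
theorem swap_comm_iff (h : EvenSet n V L ε) (hn : 3 ≤ n) {b : G} {i j : Fin n} (hij : i ≠ j)
    (hb : Acts ε b (Equiv.swap i j)) (u : Fin n → ZMod 2) : b * ε u = ε u * b ↔ u i = u j := by
  refine ⟨fun h1 => ?_, (acts_swap h hb u).1⟩
  by_contra hu
  have h2 := (acts_swap h hb u).2 hu
  rw [h1, mul_inv_cancel_right, left_eq_mul] at h2
  exact pair_ne_one h hn hij h2

end swap

/-- **Matching.** A transposition induced by `V'` on `V` and a transposition induced by `V` on `V'` with the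
same commutator. -/
theorem match_swap {n n' : ℕ} {V V' L L' : Subgroup G} {ε : (Fin n → ZMod 2) → G}
    {ε' : (Fin n' → ZMod 2) → G} (h : EvenSet n V L ε) (h' : EvenSet n' V' L' ε') (hn : 3 ≤ n) (hn' : 3 ≤ n')
    (hs : Side V ε') {b : G} (hb : b ∈ V') {i j : Fin n} (hij : i ≠ j) (hbs : Acts ε b (Equiv.swap i j)) :
    ∃ k l : Fin n', k ≠ l ∧ ε (Pi.single i 1 + Pi.single j 1) = ε' (Pi.single k 1 + Pi.single l 1) ∧
      ∃ c ∈ V, Acts ε' c (Equiv.swap k l) ∧ b * c ≠ c * b := by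
  obtain ⟨w, rfl⟩ := h'.surj b hb
  -- `v = ε (single i)` does not commute with `b`
  have hv : ε' w * ε (Pi.single i 1) ≠ ε (Pi.single i 1) * ε' w := by
    intro h1
    have h2 := (swap_comm_iff h hn hij hbs _).mp h1
    rw [Pi.single_eq_same, Pi.single_eq_of_ne hij.symm] at h2
    exact one_ne_zero h2
  obtain ⟨τ, hτ, hτ2⟩ := hs _ (h.mem (Pi.single i 1))
  have hk : ∃ k, w (τ.symm k) ≠ w k := by
    by_contra hc
    push Not at hc
    have h1 := hτ w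
    have h2 : w ∘ τ.symm = w := funext hc
    rw [h2] at h1
    apply hv
    calc ε' w * ε (Pi.single i 1) = ε (Pi.single i 1) * ε' w * (ε (Pi.single i 1))⁻¹ * ε (Pi.single i 1) := by
          rw [h1]
      _ = ε (Pi.single i 1) * ε' w := by group
  obtain ⟨k, hk⟩ := hk
  have hkk : τ k ≠ k := by
    intro h0
    have h1 : τ.symm k = k := by rw [Equiv.symm_apply_eq]; exact h0.symm
    rw [h1] at hk
    exact hk rfl
  obtain ⟨h2, c, hc, hcs⟩ := hτ2 k hkk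
  have hτk : τ.symm k = τ k := by rw [Equiv.symm_apply_eq]; exact h2.symm
  rw [hτk] at hk
  obtain ⟨u, rfl⟩ := h.surj c hc
  have e1 := (acts_swap h' hcs w).2 (Ne.symm hk)
  have hne : ε' w * ε u ≠ ε u * ε' w := by
    intro h0
    rw [← h0, mul_inv_cancel_right, left_eq_mul] at e1
    exact pair_ne_one h' hn' hkk.symm e1
  refine ⟨k, τ k, hkk.symm, ?_, ε u, hc, hcs, hne⟩
  have hu : u i ≠ u j := fun h0 => hne ((acts_swap h hbs u).1 h0)
  have e2 := (acts_swap h hbs u).2 hu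
  -- both are the commutator
  have e3 : ε u * ε' w * (ε u)⁻¹ = ε' (Pi.single k 1 + Pi.single (τ k) 1) * ε' w := by
    rw [e1, h'.comm]
  have e4 : ε' w * ε u * (ε' w)⁻¹ = ε u * ε (Pi.single i 1 + Pi.single j 1) := e2
  have e5 : ε' (Pi.single k 1 + Pi.single (τ k) 1) = ε u * ε' w * (ε u)⁻¹ * (ε' w)⁻¹ := by
    rw [e3, mul_inv_cancel_right]
  have e6 : ε (Pi.single i 1 + Pi.single j 1) = (ε u)⁻¹ * (ε' w * ε u * (ε' w)⁻¹) := by
    rw [e4, inv_mul_cancel_left]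
  rw [e5, e6, h.inv u]
  have e7 : ε u * ε' w * ε u * (ε' w)⁻¹ = ε u * (ε' w * ε u * (ε' w)⁻¹) := by group
  rw [e7]

end Cfsg.Agent.Omega.S5.Pair

end

section


/-!
# II.c: a natural `SL₂(q)`-module against the even-subset module: `q = 2`
-/

set_option autoImplicit false

namespace Cfsg.Agent.Omega.S5.Nat

open Subgroup Pointwise Cfsg Cfsg.Agent.ZN Cfsg.Agent.ZN.ChoiceBase
open Cfsg.Agent.Omega.MinPar Cfsg.Agent.Omega.FFThm
open Cfsg.Agent.Omega.FrameFF (cv Free)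
open Cfsg.Agent.Omega.FrameMulti (IsSym IsNat Typed AllTyped)
open Cfsg.Agent.Omega.NatPair (ap ap_zero' ap_one')
open Cfsg.Agent.Omega.S5.Def Cfsg.Agent.Omega.S5.Syl Cfsg.Agent.Omega.S5.Pair
open Cfsg.Agent.Lib.SL2Mat

universe u

variable {G : Type u} [Group G]

section nat

variable {F : Type} [Field F] {T H V D : Subgroup G}

theorem e_one (h : NatK F T H V D 1) : h.e 1 = 0 := by
  have h1 := h.mul 1 V.one_mem 1 V.one_mem
  rw [mul_one] at h1
  exact left_eq_add.mp h1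

theorem e_inv (h : NatK F T H V D 1) {v : G} (hv : v ∈ V) : h.e v⁻¹ = - h.e v := by
  have h1 := h.mul v hv v⁻¹ (V.inv_mem hv)
  rw [mul_inv_cancel, e_one h] at h1
  exact eq_neg_of_add_eq_zero_right h1.symm

theorem e_inj (h : NatK F T H V D 1) (hD : D = ⊥) {v w : G} (hv : v ∈ V) (hw : w ∈ V) (hvw : h.e v = h.e w) :
    v = w := by
  have h1 := h.mul v hv w⁻¹ (V.inv_mem hw)
  rw [e_inv h hw, hvw, add_neg_cancel] at h1
  have h3 := (h.ker _ (V.mul_mem hv (V.inv_mem hw))).mp h1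
  rw [hD, mem_bot, mul_inv_eq_one] at h3
  exact h3

/-- `|V| = |F|²` -/
theorem card_eq (h : NatK F T H V D 1) (hD : D = ⊥) : Nat.card V = Nat.card F ^ 2 := by
  have h1 : Nat.card V = Nat.card (Fin 1 → Fin 2 → F) := by
    refine Nat.card_congr (Equiv.ofBijective (fun v : V => h.e (v : G)) ⟨?_, ?_⟩)
    · intro v w hvw
      exact Subtype.ext (e_inj h hD v.2 w.2 hvw)
    · intro x
      obtain ⟨v, hv, hx⟩ := h.surj x
      exact ⟨⟨v, hv⟩, hx⟩
  rw [h1, Nat.card_fun, Nat.card_fun]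
  simp

/-- The commutators of an offender element. -/
theorem exists_comm (h : NatK F T H V D 1) (hD : D = ⊥) (hHV : H ≤ normalizer (V : Set G)) (hTH : T ≤ H)
    {A : Subgroup G} (hA : A ≤ T) (hoff : Off V A)
    {c : G} (hc : c ∈ A) (hne : ¬ ∀ v ∈ V, c * v = v * c) :
    ∃ f : F → G, Function.Injective f ∧ ∀ z, ∃ v ∈ V, f z = c * v * c⁻¹ * v⁻¹ := by
  obtain ⟨I, h1, -⟩ := h.off A hA hoff
  obtain ⟨b, -, hb, -⟩ := h1 c hc
  have hcN : ∀ v ∈ V, c * v * c⁻¹ ∈ V := fun v hv => (mem_normalizer_iff.mp (hHV (hTH (hA hc))) v).mp hv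
  have hb0 : b 0 ≠ 0 := by
    intro h0
    apply hne
    intro v hv
    have h2 : c * v * c⁻¹ = v := by
      refine e_inj h hD (hcN v hv) hv ?_
      funext i
      have h4 : b i = 0 := by rw [Subsingleton.elim i 0]; exact h0
      have h3 : up (0 : F) = 1 := by
        apply Subtype.ext
        funext a b
        fin_cases a <;> fin_cases b <;> simp [up, Lib.SL2Mat.mk]
      rw [hb v hv i]
      change ap (up (b i)) _ = _
      rw [h4, h3, NatPair.ap_one]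
    calc c * v = c * v * c⁻¹ * c := by group
      _ = v * c := by rw [h2]
  choose w hw hwx using fun z : F => h.surj fun _ => ![0, z]
  refine ⟨fun z => c * w z * c⁻¹ * (w z)⁻¹, ?_, fun z => ⟨w z, hw z, rfl⟩⟩
  intro z z' hz
  have e1 : ∀ z, h.e (c * w z * c⁻¹ * (w z)⁻¹) 0 0 = b 0 * z := by
    intro z
    rw [h.mul _ (hcN _ (hw z)) _ (V.inv_mem (hw z)), e_inv h (hw z), Pi.add_apply, Pi.add_apply, hb _ (hw z) 0,
      hwx, ap_zero']
    simp
  have e2 : b 0 * z = b 0 * z' := by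
    rw [← e1, ← e1]
    exact congrArg (fun g => h.e g 0 0) hz
  exact mul_left_cancel₀ hb0 e2

end nat

theorem acts_swap_unique {n : ℕ} (hn : 3 ≤ n) {V L : Subgroup G} {ε : (Fin n → ZMod 2) → G}
    (h : EvenSet n V L ε) {b b' : G} (hbb : b * b' = b' * b) {i j k : Fin n} (hij : i ≠ j) (hik : i ≠ k)
    (hb : Acts ε b (Equiv.swap i j)) (hb' : Acts ε b' (Equiv.swap i k)) : j = k := by
  have h1 := hb.conj hb'
  have h2 : b * b' * b⁻¹ = b' := by rw [hbb, mul_inv_cancel_right]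
  rw [h2] at h1
  have h3 := h.acts_unique hn h1 hb'
  by_contra hjk
  have h4 : (Equiv.swap i j * Equiv.swap i k * (Equiv.swap i j)⁻¹) i = i := by
    rw [Equiv.swap_inv, Equiv.Perm.mul_apply, Equiv.Perm.mul_apply, Equiv.swap_apply_left,
      Equiv.swap_apply_of_ne_of_ne (Ne.symm hij) hjk, Equiv.swap_apply_right]
  rw [h3, Equiv.swap_apply_left] at h4
  exact hik h4.symm

/-- A transposition in an acting group. -/
theorem exists_swap {n : ℕ} {V L A : Subgroup G} {ε : (Fin n → ZMod 2) → G}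
    (h : EvenSet n V L ε) (hs : Side A ε) (hne : ¬ A ≤ centralizer (V : Set G)) :
    ∃ b ∈ A, ∃ i j, i ≠ j ∧ Acts ε b (Equiv.swap i j) := by
  have h1 : ¬ ∀ a ∈ A, a ∈ centralizer (V : Set G) := hne
  push Not at h1
  obtain ⟨a, ha, hac⟩ := h1
  obtain ⟨τ, hτ, hτ2⟩ := hs a ha
  have h2 : ∃ i, τ i ≠ i := by
    by_contra hcon
    push Not at hcon
    have h3 : τ = 1 := Equiv.ext hcon
    rw [h3] at hτ
    exact hac (h.acts_one_iff.mp hτ)
  obtain ⟨i, hi⟩ := h2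
  obtain ⟨-, b, hb, hbs⟩ := hτ2 i hi
  exact ⟨b, hb, i, τ i, Ne.symm hi, hbs⟩

/-- `[z_i, A] = ⟨n_ij⟩` if `A` contains the transposition `(i j)`. -/
theorem comm_single {n : ℕ} (hn : 3 ≤ n) {V L A : Subgroup G} {ε : (Fin n → ZMod 2) → G}
    (h : EvenSet n V L ε) (hs : Side A ε) (hA : ∀ a ∈ A, ∀ b ∈ A, a * b = b * a)
    {b : G} (hb : b ∈ A) {i j : Fin n} (hij : i ≠ j) (hbs : Acts ε b (Equiv.swap i j)) {a : G} (ha : a ∈ A) :
    ε (Pi.single i 1) * a * (ε (Pi.single i 1))⁻¹ * a⁻¹ = 1 ∨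
      ε (Pi.single i 1) * a * (ε (Pi.single i 1))⁻¹ * a⁻¹ = ε (Pi.single i 1 + Pi.single j 1) := by
  obtain ⟨τ, hτ, hτ2⟩ := hs a ha
  have h1 := hτ.single i
  have h2 : ε (Pi.single i 1) * a * (ε (Pi.single i 1))⁻¹ * a⁻¹ =
      ε (Pi.single i 1) * ε (Pi.single (τ i) 1) := by
    rw [← h1, h.inv]
    group
  rw [h2]
  by_cases hi : τ i = i
  · left
    rw [hi, h.sq]
  · right
    obtain ⟨-, b', hb', hbs'⟩ := hτ2 i hi
    have h3 := acts_swap_unique hn h (hA b hb b' hb') hij (Ne.symm hi) hbs hbs'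
    rw [← h3, h.add]

/-- **Natural against `S_{2^m+1}`: `|V_{P₂}| = 4`.** -/
theorem card_four [Finite G] (S : Sylow 2 G) {P₁ P₂ : Subgroup G} {y : G} {n : ℕ} (hn : 3 ≤ n)
    (o1 : Off (zl (S : Subgroup G) P₁) (cj y (zl (S : Subgroup G) P₂)))
    (o2 : Off (cj y (zl (S : Subgroup G) P₂)) (zl (S : Subgroup G) P₁))
    (hSP : (S : Subgroup G) ≤ P₂)
    (hle : zl (S : Subgroup G) P₁ ≤ cj y (S : Subgroup G))
    {ε : (Fin n → ZMod 2) → G} (h : EvenSet n (zl (S : Subgroup G) P₁) P₁ ε)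
    (hs : Side (cj y (zl (S : Subgroup G) P₂)) ε) (hN : IsNat (S : Subgroup G) P₂ 1)
    (hF : Free (S : Subgroup G) P₂) : Nat.card (zl (S : Subgroup G) P₂) = 4 := by
  obtain ⟨F, i1, i2, i3, ⟨M⟩⟩ := hN
  obtain ⟨b, hb, i, j, hij, hbs⟩ := exists_swap h hs o1.ne
  have hab : ∀ a ∈ cj y (zl (S : Subgroup G) P₂), ∀ b ∈ cj y (zl (S : Subgroup G) P₂), a * b = b * a := by
    intro a ha b hb
    have h1 := o1.elem.1
    exact congrArg Subtype.val (h1.is_comm.comm (⟨a, ha⟩ : ↥(cj y (zl (S : Subgroup G) P₂))) ⟨b, hb⟩)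
  set c : G := ε (Pi.single i 1) with hc
  have hcb : b * c ≠ c * b := by
    intro h1
    have h2 := (swap_comm_iff h hn hij hbs _).mp h1
    rw [Pi.single_eq_same, Pi.single_eq_of_ne hij.symm] at h2
    exact one_ne_zero h2
  have hcomm : ∀ a ∈ cj y (zl (S : Subgroup G) P₂), c * a * c⁻¹ * a⁻¹ = 1 ∨
      c * a * c⁻¹ * a⁻¹ = ε (Pi.single i 1 + Pi.single j 1) :=
    fun a ha => comm_single hn h hs hab hb hij hbs ha
  -- the natural side
  have o3 := off_cj o2 y⁻¹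
  rw [cj_inv_cj] at o3
  have hA : cj y⁻¹ (zl (S : Subgroup G) P₁) ≤ (S : Subgroup G) := by
    rw [cj_le_iff, inv_inv]
    exact hle
  have hcA : y⁻¹ * c * y ∈ cj y⁻¹ (zl (S : Subgroup G) P₁) := by
    rw [mem_cj]
    have e : y⁻¹⁻¹ * (y⁻¹ * c * y) * y⁻¹ = c := by group
    rw [e]
    exact h.mem _
  have hcne : ¬ ∀ v ∈ zl (S : Subgroup G) P₂, y⁻¹ * c * y * v = v * (y⁻¹ * c * y) := by
    intro h1
    apply hcb
    have h2 := h1 (y⁻¹ * b * y) (mem_cj.mp hb)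
    have e1 : b * c = y * (y⁻¹ * b * y * (y⁻¹ * c * y)) * y⁻¹ := by group
    have e2 : c * b = y * (y⁻¹ * c * y * (y⁻¹ * b * y)) * y⁻¹ := by group
    rw [e1, e2, h2]
  obtain ⟨f, hf, hfv⟩ := exists_comm M hF (Cfsg.Agent.MinSimple.VModule.le_normalizer_zl _ _) hSP hA o3 hcA hcne
  have hfin : ∀ z, y * f z * y⁻¹ = 1 ∨ y * f z * y⁻¹ = ε (Pi.single i 1 + Pi.single j 1) := by
    intro z
    obtain ⟨v, hv, h1⟩ := hfv z
    have hv' : y * v * y⁻¹ ∈ cj y (zl (S : Subgroup G) P₂) := by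
      rw [mem_cj]
      have e : y⁻¹ * (y * v * y⁻¹) * y = v := by group
      rwa [e]
    have h2 := hcomm _ hv'
    have e : y * f z * y⁻¹ = c * (y * v * y⁻¹) * c⁻¹ * (y * v * y⁻¹)⁻¹ := by
      rw [h1]; group
    rw [e]
    exact h2
  have hinj : Function.Injective fun z => y * f z * y⁻¹ :=
    fun z z' hz => hf (mul_left_cancel (mul_right_cancel hz))
  have hle2 : Nat.card F ≤ 2 := by
    classical
    have : Fintype F := Fintype.ofFinite F
    rw [Nat.card_eq_fintype_card, ← Finset.card_univ]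
    refine (Finset.card_le_card_of_injOn (fun z => y * f z * y⁻¹) (t := {1, ε (Pi.single i 1 + Pi.single j 1)})
      ?_ hinj.injOn).trans Finset.card_le_two
    intro z _
    rw [Finset.coe_insert, Finset.coe_singleton]
    exact hfin z
  have hge2 : 2 ≤ Nat.card F := by
    have : Nontrivial F := inferInstance
    exact Finite.one_lt_card
  rw [card_eq M hF, le_antisymm hle2 hge2]
  norm_num

end Cfsg.Agent.Omega.S5.Nat

end

section


/-!
# OMEGA II.c: the leaf `FrameMulti.LeafC` from its inputs (assembler: helper629)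

A mutual pair `V = V_{P₁}`, `V' = (V_{P₂})^y` with one factor and `C_V(O²(P)) = 1`, `P₁` of type `S_{2^m+1}`.

* `exists_pos` : normal position `V' ≤ S`, `V ≤ S^y`, offenders both ways;
* `Lab S P₁ P₂ y m ε` : the labelled position: `V` is the even-subset module with labels `ε`, `S` fixes the
  label `0`, `V'` acts by products of disjoint transpositions which are all induced by `V'`;
* `ExitN2 S P` : `P ∈ P*(S)`, `|V_P| = 4`, `⟨P, C_G(Z)⟩` nonlocal; `NodeN2` = `NodeN2a` (some `V_P^g`,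
  `g ∈ C_G(Z)`, does not commute with `V_P`) + `NodeN2b` (all commute);
* inputs (named Props): `NatFive`, `TTCen`, `TTNon` (`m = 2`), `NatBig`, `SymBig` (`m ≥ 3` or `m' ≥ 3`);
* `leafC` : the inputs imply `FrameMulti.LeafC K`.
-/

set_option autoImplicit false

namespace Cfsg.Agent.Omega.S5.Main

open Subgroup Pointwise Cfsg Cfsg.Agent.ZN Cfsg.Agent.ZN.ChoiceBase Cfsg.Agent.Omega.MinPar
open Cfsg.Agent.Omega.Frame Cfsg.Agent.Omega.FFThm
open Cfsg.Agent.Omega.FrameLE (AllIn)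
open Cfsg.Agent.Omega.FrameNOFF (CZ)
open Cfsg.Agent.Omega.FrameFF (cv Single Free)
open Cfsg.Agent.Omega.FrameMulti (IsSym IsNat Typed AllTyped NoWr SymFree LeafC)
open Cfsg.Agent.Omega.S5.Def Cfsg.Agent.Omega.S5.Syl Cfsg.Agent.Omega.S5.Pair
open Cfsg.Agent.MinSimple.VModule (le_normalizer_zl zc_le_zl)

universe u

/-! ### Positions -/

section pos

variable {G : Type u} [Group G]

/-- Normal position of a mutual pair. -/
structure Pos [Finite G] (S : Sylow 2 G) (P₁ P₂ : Subgroup G) (y : G) : Prop where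
  pair : Mutual (S : Subgroup G) P₁ P₂ y
  le : cj y (zl (S : Subgroup G) P₂) ≤ (S : Subgroup G)
  ge : zl (S : Subgroup G) P₁ ≤ cj y (S : Subgroup G)
  off₁ : Off (zl (S : Subgroup G) P₁) (cj y (zl (S : Subgroup G) P₂))
  off₂ : Off (cj y (zl (S : Subgroup G) P₂)) (zl (S : Subgroup G) P₁)

variable [Finite G]

/-- Both members of a mutual pair are offenders on each other. -/
theorem off_both (hG : IsCharacteristicTwoType G) (S : Sylow 2 G) (hT : AllTyped (S : Subgroup G))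
    {P₁ P₂ : Subgroup G} {y : G} (h : Mutual (S : Subgroup G) P₁ P₂ y) :
    Off (zl (S : Subgroup G) P₁) (cj y (zl (S : Subgroup G) P₂)) ∧
      Off (cj y (zl (S : Subgroup G) P₂)) (zl (S : Subgroup G) P₁) := by
  have e1 := elem_zl hG S h.star₁.isLoc
  have e2 := elem_zl hG S h.star₂.isLoc
  have key : ∀ {Q₁ Q₂ : Subgroup G} {z : G}, Mutual (S : Subgroup G) Q₁ Q₂ z →
      Off (zl (S : Subgroup G) Q₁) (cj z (zl (S : Subgroup G) Q₂)) →
      Off (cj z (zl (S : Subgroup G) Q₂)) (zl (S : Subgroup G) Q₁) := by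
    intro Q₁ Q₂ z hm ho
    refine ⟨elem_zl hG S hm.star₁.isLoc, fun h2 => ho.ne (le_centralizer_iff.mp h2), ?_⟩
    exact le_of_noOver S hm.star₁.le (le_normalizer_zl _ _) (hT Q₁ Q₂ z hm).1.noOver ho.elem hm.le₂
  rcases off_or e1 (isElementaryAbelian_cj y e2) (Mutual.not_le h) with h1 | h1
  · exact ⟨h1, key h h1⟩
  · have h2 := off_cj h1 y⁻¹
    rw [cj_inv_cj] at h2
    have h3 := off_cj (key h.symm h2) y
    rw [cj_cj_inv] at h3
    exact ⟨h3, h1⟩

/-- **Normal position.** -/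
theorem exists_pos (hG : IsCharacteristicTwoType G) (S : Sylow 2 G) (hT : AllTyped (S : Subgroup G))
    {P₁ P₂ : Subgroup G} {x : G} (h : Mutual (S : Subgroup G) P₁ P₂ x) : ∃ y, Pos S P₁ P₂ y := by
  obtain ⟨y, h1, h2, h3⟩ := Pair.exists_pos hG S h
  obtain ⟨o1, o2⟩ := off_both hG S hT h1
  exact ⟨y, h1, h2, h3, o1, o2⟩

/-- The labelled position: `V` is the even-subset module of degree `2^m + 1` with the labels `ε`. -/
structure Lab (S : Sylow 2 G) (P₁ P₂ : Subgroup G) (y : G) (m : ℕ)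
    (ε : (Fin (2 ^ m + 1) → ZMod 2) → G) : Prop extends Pos S P₁ P₂ y where
  even : EvenSet (2 ^ m + 1) (zl (S : Subgroup G) P₁) P₁ ε
  fix0 : Fix0 ε (S : Subgroup G)
  side : Side (cj y (zl (S : Subgroup G) P₂)) ε

/-- Both members are even-subset modules (`V'` with the labels `y ε₂ y⁻¹`). -/
structure LabTwo (S : Sylow 2 G) (P₁ P₂ : Subgroup G) (y : G) (m m' : ℕ)
    (ε : (Fin (2 ^ m + 1) → ZMod 2) → G) (ε₂ : (Fin (2 ^ m' + 1) → ZMod 2) → G) : Prop
    extends Lab S P₁ P₂ y m ε where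
  even₂ : EvenSet (2 ^ m' + 1) (zl (S : Subgroup G) P₂) P₂ ε₂
  fix0₂ : Fix0 ε₂ (S : Subgroup G)
  side₂ : Side (zl (S : Subgroup G) P₁) fun x => y * ε₂ x * y⁻¹

theorem Pos.lab {S : Sylow 2 G} {P₁ P₂ : Subgroup G} {y : G} (h : Pos S P₁ P₂ y) {m : ℕ} (hm : 2 ≤ m)
    (hS : IsSym (S : Subgroup G) P₁ 1 m) (hF : Free (S : Subgroup G) P₁) : ∃ ε, Lab S P₁ P₂ y m ε := by
  obtain ⟨ε, h1, h2, h3⟩ := exists_lab (S : Subgroup G) hm h.pair.star₁.le hS hF
  exact ⟨ε, h, h1, h2, h3 _ h.le h.off₁⟩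

theorem Pos.labTwo {S : Sylow 2 G} {P₁ P₂ : Subgroup G} {y : G} (h : Pos S P₁ P₂ y) {m m' : ℕ} (hm : 2 ≤ m)
    (hm' : 2 ≤ m') (hS : IsSym (S : Subgroup G) P₁ 1 m) (hF : Free (S : Subgroup G) P₁)
    (hS' : IsSym (S : Subgroup G) P₂ 1 m') (hF' : Free (S : Subgroup G) P₂) :
    ∃ ε ε₂, LabTwo S P₁ P₂ y m m' ε ε₂ := by
  obtain ⟨ε, h1⟩ := h.lab hm hS hF
  obtain ⟨ε₂, h2, h3, h4⟩ := exists_lab (S : Subgroup G) hm' h.pair.star₂.le hS' hF'
  have h5 := off_cj h.off₂ y⁻¹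
  rw [cj_inv_cj] at h5
  have h6 : cj y⁻¹ (zl (S : Subgroup G) P₁) ≤ (S : Subgroup G) := by
    rw [cj_le_iff, inv_inv]
    exact h.ge
  have h7 := (h4 _ h6 h5).conj y
  rw [cj_cj_inv] at h7
  exact ⟨ε, ε₂, h1, h2, h3, h7⟩

/-- Some Sylow 2-subgroup centralises `[V, V']` (the vector `n` of a T-T pair is 2-central). -/
def Cen (V V' : Subgroup G) : Prop :=
  ∃ T : Sylow 2 G, (T : Subgroup G) ≤ centralizer ((⁅V, V'⁆ : Subgroup G) : Set G)

/-- Exit N2: `P ∈ P*(S)`, `|V_P| = 4`, `⟨P, C_G(Z)⟩` is nonlocal. -/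
structure ExitN2 (S P : Subgroup G) : Prop where
  star : IsParS S P
  card : Nat.card (zl S P) = 4
  nonloc : NonLoc P (CZ S)

end pos

/-! ### The node N2 -/

section node

variable (K : Cls.{u})

/-- **N2**: a point of order 4 with `⟨P, C_G(Z)⟩` nonlocal (also the exit of II.d, `q = 2`). -/
def NodeN2 : Prop :=
  ∀ (G : Type u) [Group G] [Finite G], Ctx G → K G → ∀ (S : Sylow 2 G), Full (S : Subgroup G) →
    AllIn (S : Subgroup G) → ∀ P : Subgroup G, ExitN2 (S : Subgroup G) P → IsKnownSimple' G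

/-- **N2a**: `⟨V_P^{C_G(Z)}⟩` nonabelian. (II.a, `q = 2` without `AllFree`: helper338, Omega/FFTwoA/Final.lean,
through `FrameExtra.NodeSympl`.) -/
def NodeN2a : Prop :=
  ∀ (G : Type u) [Group G] [Finite G], Ctx G → K G → ∀ (S : Sylow 2 G), Full (S : Subgroup G) →
    AllIn (S : Subgroup G) → ∀ P : Subgroup G, ExitN2 (S : Subgroup G) P →
      (∃ g ∈ CZ (S : Subgroup G), ⁅zl (S : Subgroup G) P, cj g (zl (S : Subgroup G) P)⁆ ≠ ⊥) →
        IsKnownSimple' G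

/-- **N2b**: `⟨V_P^{C_G(Z)}⟩` abelian (NO-3S, `q = 2`, for the one line type `V_P`; mutual pairs of other types are
allowed). -/
def NodeN2b : Prop :=
  ∀ (G : Type u) [Group G] [Finite G], Ctx G → K G → ∀ (S : Sylow 2 G), Full (S : Subgroup G) →
    AllIn (S : Subgroup G) → ∀ P : Subgroup G, ExitN2 (S : Subgroup G) P →
      (∀ g ∈ CZ (S : Subgroup G), ⁅zl (S : Subgroup G) P, cj g (zl (S : Subgroup G) P)⁆ = ⊥) →
        IsKnownSimple' G

variable {K}

theorem nodeN2 (ha : NodeN2a K) (hb : NodeN2b K) : NodeN2 K := by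
  intro G _ _ hG hcl S hF hI P hP
  by_cases h : ∃ g ∈ CZ (S : Subgroup G), ⁅zl (S : Subgroup G) P, cj g (zl (S : Subgroup G) P)⁆ ≠ ⊥
  · exact ha G hG hcl S hF hI P hP h
  · push Not at h
    exact hb G hG hcl S hF hI P hP h

end node

/-! ### The inputs -/

section inputs

variable (K : Cls.{u})

/-- `m = 2`, natural `SL₂(2)` against a transposition: exit N2. (#12859 (1)-(4), #13542 (B1); typist helper501,
Omega/NTwo) -/
def NatFive : Prop :=
  ∀ (G : Type u) [Group G] [Finite G], Ctx G → ∀ (S : Sylow 2 G), Full (S : Subgroup G) →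
    AllIn (S : Subgroup G) → ∀ (P₁ P₂ : Subgroup G) (y : G) (ε : (Fin (2 ^ 2 + 1) → ZMod 2) → G),
      Lab S P₁ P₂ y 2 ε → IsNat (S : Subgroup G) P₂ 1 → Free (S : Subgroup G) P₂ →
        Nat.card (zl (S : Subgroup G) P₂) = 4 → ∃ P : Subgroup G, ExitN2 (S : Subgroup G) P

/-- T-T, `n` 2-central: exit N2. (HALF LEMMA, #12859, #13542 (B1); typist helper501, Omega/NTwo) -/
def TTCen : Prop :=
  ∀ (G : Type u) [Group G] [Finite G], Ctx G → ∀ (S : Sylow 2 G), Full (S : Subgroup G) →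
    AllIn (S : Subgroup G) → ∀ (P₁ P₂ : Subgroup G) (y : G) (ε ε₂ : (Fin (2 ^ 2 + 1) → ZMod 2) → G),
      LabTwo S P₁ P₂ y 2 2 ε ε₂ →
        Types.TwoAct (cj y (zl (S : Subgroup G) P₂)) (zl (S : Subgroup G) P₁) →
        Types.TwoAct (zl (S : Subgroup G) P₁) (cj y (zl (S : Subgroup G) P₂)) →
        Cen (zl (S : Subgroup G) P₁) (cj y (zl (S : Subgroup G) P₂)) →
          ∃ P : Subgroup G, ExitN2 (S : Subgroup G) P

/-- T-T, `n` not 2-central, `V_P ≤ O₂(C_G(Z))`: impossible. (normal form: helper375, helper107; `U_n ≤ Q_a`: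
helper429 #13318 + #13720, typist helper849; `U_n ≰ Q_a`: helper439 #14261; frame: helper421, Omega/TTn) -/
def TTNon : Prop :=
  ∀ (G : Type u) [Group G] [Finite G], Ctx G → ∀ (S : Sylow 2 G), Full (S : Subgroup G) →
    AllIn (S : Subgroup G) → ∀ (P₁ P₂ : Subgroup G) (y : G) (ε ε₂ : (Fin (2 ^ 2 + 1) → ZMod 2) → G),
      LabTwo S P₁ P₂ y 2 2 ε ε₂ →
        Types.TwoAct (cj y (zl (S : Subgroup G) P₂)) (zl (S : Subgroup G) P₁) →
        Types.TwoAct (zl (S : Subgroup G) P₁) (cj y (zl (S : Subgroup G) P₂)) →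
        ¬ Cen (zl (S : Subgroup G) P₁) (cj y (zl (S : Subgroup G) P₂)) → False

/-- `m ≥ 3`, natural `SL₂(2)` against a transposition. (N6: helper16, 140, 666, 945) -/
def NatBig : Prop :=
  ∀ (G : Type u) [Group G] [Finite G], Ctx G → K G → ∀ (S : Sylow 2 G), Full (S : Subgroup G) →
    AllIn (S : Subgroup G) → AllTyped (S : Subgroup G) → NoWr (S : Subgroup G) →
    SymFree (S : Subgroup G) →
    ∀ (P₁ P₂ : Subgroup G) (y : G) (m : ℕ) (ε : (Fin (2 ^ m + 1) → ZMod 2) → G), 3 ≤ m →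
      Lab S P₁ P₂ y m ε → IsNat (S : Subgroup G) P₂ 1 → Free (S : Subgroup G) P₂ →
        Nat.card (zl (S : Subgroup G) P₂) = 4 → IsKnownSimple' G

/-- `S_{2^m+1}` against `S_{2^m'+1}`, `m ≥ 3` or `m' ≥ 3`. (N6: helper16, 140, 666, 945, 101, 827) -/
def SymBig : Prop :=
  ∀ (G : Type u) [Group G] [Finite G], Ctx G → K G → ∀ (S : Sylow 2 G), Full (S : Subgroup G) →
    AllIn (S : Subgroup G) → AllTyped (S : Subgroup G) → NoWr (S : Subgroup G) →
    SymFree (S : Subgroup G) →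
    ∀ (P₁ P₂ : Subgroup G) (y : G) (m m' : ℕ) (ε : (Fin (2 ^ m + 1) → ZMod 2) → G)
      (ε₂ : (Fin (2 ^ m' + 1) → ZMod 2) → G), 2 ≤ m → 2 ≤ m' → 3 ≤ m ∨ 3 ≤ m' →
        LabTwo S P₁ P₂ y m m' ε ε₂ → IsKnownSimple' G

end inputs

/-! ### The leaf -/

section leaf

variable {K : Cls.{u}}

/-- **II.c.** -/
theorem leafC (hN2 : NodeN2 K) (h1 : NatFive.{u}) (h2 : TTCen.{u}) (h3 : TTNon.{u}) (h4 : NatBig K)
    (h5 : SymBig K) : LeafC K := by
  intro G _ _ hG hcl S hF hI hT hW hSF P₁ P₂ x hm hF₁ hF₂ m hm2 hS hc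
  obtain ⟨y, hp⟩ := exists_pos hG.char2 S hT hm
  rcases hc with hN | ⟨m', hm2', hS'⟩
  · obtain ⟨ε, hl⟩ := hp.lab hm2 hS hF₁
    have h4' := Nat.card_four S (three_le (by omega : 1 ≤ m)) hp.off₁ hp.off₂ hp.pair.star₂.le hp.ge hl.even
      hl.side hN hF₂
    by_cases hm3 : m = 2
    · subst hm3
      obtain ⟨P, hP⟩ := h1 G hG S hF hI P₁ P₂ y ε hl hN hF₂ h4'
      exact hN2 G hG hcl S hF hI P hP
    · exact h4 G hG hcl S hF hI hT hW hSF P₁ P₂ y m ε (by omega) hl hN hF₂ h4'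
  · obtain ⟨ε, ε₂, hl⟩ := hp.labTwo hm2 hm2' hS hF₁ hS' hF₂
    by_cases hbig : 3 ≤ m ∨ 3 ≤ m'
    · exact h5 G hG hcl S hF hI hT hW hSF P₁ P₂ y m m' ε ε₂ hm2 hm2' hbig hl
    · obtain rfl : m = 2 := by omega
      obtain rfl : m' = 2 := by omega
      obtain ⟨t1, t2⟩ := OfEven.index_le_two hG.char2 S hl.even hl.even₂ hp.pair.star₁.le hp.pair.star₂.le
        (zc_le_zl _ _) (zc_le_zl _ _) (g := y) hp.pair.le₂ hp.pair.le₁
      by_cases hC : Cen (zl (S : Subgroup G) P₁) (cj y (zl (S : Subgroup G) P₂))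
      · obtain ⟨P, hP⟩ := h2 G hG S hF hI P₁ P₂ y ε ε₂ hl t1 t2 hC
        exact hN2 G hG hcl S hF hI P hP
      · exact (h3 G hG S hF hI P₁ P₂ y ε ε₂ hl t1 t2 hC).elim

end leaf

end Cfsg.Agent.Omega.S5.Main

end

section


/-!
# LeafF4: members of type `S_{2^m+1}` with `C_V(O²(P)) ≠ 1` (#15257)

* `Split S P m A ε` : `V_P = V₀ × A`, `V₀ = cv S P` centralised by `P`, `A` the even-subset module with labels `ε`;
* `Split.zc_mul`, `Split.cv_le_zc`, `Split.card_zc` : `Ω₁(Z(S)) = V₀ × ⟨z₀⟩`, `|Ω₁(Z(S))| = 2 |V₀|`;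
* `LabZ`, `LabTwoZ` : the labelled positions of mutual pairs (`S5.Main.Lab`, `LabTwo` with `V₀`).
-/

set_option autoImplicit false

namespace Cfsg.Agent.Omega.F4Leaf.Def

open Subgroup Pointwise Cfsg Cfsg.Agent.ZN Cfsg.Agent.ZN.ChoiceBase Cfsg.Agent.Omega.MinPar
open Cfsg.Agent.Omega.Frame Cfsg.Agent.Omega.FFThm
open Cfsg.Agent.Omega.FrameFF (cv Single Free)
open Cfsg.Agent.Omega.FrameMulti (IsSym IsNat Typed AllTyped NoWr)
open Cfsg.Agent.Omega.S5.Def Cfsg.Agent.Omega.S5.Syl Cfsg.Agent.Omega.S5.Pair Cfsg.Agent.Omega.S5.Main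
open Cfsg.Agent.MinSimple.VModule (le_normalizer_zl zc_le_zl mem_zc zc_comm zc_sq zc_le zl_le zl_comm zl_sq)

universe u

variable {G : Type u} [Group G]

/-- `V_P = V₀ × A`, `V₀ = C_{V_P}(O²(P))` centralised by `P`, `A` the even-subset module of degree `2^m + 1` with
labels `ε`, `S` fixes the label `0`. -/
structure Split (S P : Subgroup G) (m : ℕ) (A : Subgroup G) (ε : (Fin (2 ^ m + 1) → ZMod 2) → G) : Prop where
  even : EvenSet (2 ^ m + 1) A P ε
  fix0 : Fix0 ε S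
  cen : P ≤ centralizer (cv S P : Set G)
  sup : cv S P ⊔ A = zl S P
  disj : cv S P ⊓ A = ⊥
  side : ∀ B : Subgroup G, B ≤ S → Off (zl S P) B → Side B ε

/-- The labelled position of a mutual pair with first member of type `S_{2^m+1}`. -/
structure LabZ [Finite G] (S : Sylow 2 G) (P₁ P₂ : Subgroup G) (y : G) (m : ℕ) (A : Subgroup G)
    (ε : (Fin (2 ^ m + 1) → ZMod 2) → G) : Prop extends Pos S P₁ P₂ y where
  split : Split (S : Subgroup G) P₁ m A ε
  side : Side (cj y (zl (S : Subgroup G) P₂)) ε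

/-- Both members are of type `S_{2^m+1}`, `S_{2^m'+1}`. -/
structure LabTwoZ [Finite G] (S : Sylow 2 G) (P₁ P₂ : Subgroup G) (y : G) (m m' : ℕ) (A : Subgroup G)
    (ε : (Fin (2 ^ m + 1) → ZMod 2) → G) (A₂ : Subgroup G) (ε₂ : (Fin (2 ^ m' + 1) → ZMod 2) → G) : Prop
    extends LabZ S P₁ P₂ y m A ε where
  split₂ : Split (S : Subgroup G) P₂ m' A₂ ε₂
  side₂ : Side (zl (S : Subgroup G) P₁) fun x => y * ε₂ x * y⁻¹

namespace Split

section basic

variable {S P A : Subgroup G} {m : ℕ} {ε : (Fin (2 ^ m + 1) → ZMod 2) → G} (h : Split S P m A ε)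
include h

theorem A_le : A ≤ zl S P := h.sup ▸ le_sup_right

theorem comm {g v : G} (hg : g ∈ P) (hv : v ∈ cv S P) : g * v = v * g :=
  (mem_centralizer_iff.mp (h.cen hg) v hv).symm

end basic

section fin

variable [Finite G] {S : Sylow 2 G} {P A : Subgroup G} {m : ℕ} {ε : (Fin (2 ^ m + 1) → ZMod 2) → G}
  (h : Split (S : Subgroup G) P m A ε) (hG : IsCharacteristicTwoType G) (hP : IsParS (S : Subgroup G) P)
include h hG hP

theorem mul_eq {x : G} (hx : x ∈ zl (S : Subgroup G) P) : ∃ v ∈ cv (S : Subgroup G) P, ∃ a ∈ A, x = v * a := by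
  have h1 : x ∈ cv (S : Subgroup G) P ⊔ A := h.sup.symm ▸ hx
  have e := elem_zl hG S hP.isLoc
  have hn : A ≤ normalizer (cv (S : Subgroup G) P : Set G) := by
    intro a ha
    rw [mem_normalizer_iff]
    have hc : ∀ v ∈ zl (S : Subgroup G) P, a * v * a⁻¹ = v := by
      intro v hv
      have h2 : a * v = v * a := congrArg Subtype.val (e.1.1.comm ⟨a, h.A_le ha⟩ ⟨v, hv⟩)
      rw [h2, mul_inv_cancel_right]
    have hc' : ∀ v ∈ zl (S : Subgroup G) P, a⁻¹ * v * a = v := by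
      intro v hv
      have h2 : a * v = v * a := congrArg Subtype.val (e.1.1.comm ⟨a, h.A_le ha⟩ ⟨v, hv⟩)
      calc a⁻¹ * v * a = a⁻¹ * (v * a) := by group
        _ = v := by rw [← h2]; group
    refine fun v => ⟨fun hv => ?_, fun hv => ?_⟩
    · rwa [hc v hv.1]
    · have h3 := hc' _ hv.1
      have h4 : a⁻¹ * (a * v * a⁻¹) * a = v := by group
      rw [h4] at h3
      rwa [h3]
  rw [← SetLike.mem_coe, coe_mul_of_right_le_normalizer_left _ _ hn] at h1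
  obtain ⟨v, hv, a, ha, rfl⟩ := h1
  exact ⟨v, hv, a, ha, rfl⟩

theorem cv_le_zc : cv (S : Subgroup G) P ≤ zc (S : Subgroup G) := by
  intro v hv
  have hS : Nat.card G ≠ 0 := Nat.card_pos.ne'
  have hvS : v ∈ (S : Subgroup G) := by
    have h2 := MinSimple.VModule.zl_le_zc (S := (S : Subgroup G)) hP.le S.isPGroup'
      (MinSimple.Basic.not_dvd_relIndex S hP.le) (hP.isLoc.char2 S hG) hv.1
    exact MinSimple.VModule.o2_le_of_sylow S.isPGroup' (MinSimple.Basic.not_dvd_relIndex S hP.le) (zc_le _ h2)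
  exact MinSimple.VModule.mem_zc.mpr ⟨hvS, fun s hs => h.comm (hP.le hs) hv, zl_sq hP.le S.isPGroup'
    (MinSimple.Basic.not_dvd_relIndex S hP.le) (hP.isLoc.char2 S hG) v hv.1⟩

/-- `Ω₁(Z(S)) = V₀ × ⟨z₀⟩` -/
theorem zc_mul (hm : 1 ≤ m) {z : G} (hz : z ∈ zc (S : Subgroup G)) :
    z ∈ cv (S : Subgroup G) P ∨ z * ε (Pi.single 0 1) ∈ cv (S : Subgroup G) P := by
  obtain ⟨v, hv, a, ha, rfl⟩ := h.mul_eq hG hP (zc_le_zl _ _ hz)
  have h1 : ∀ s ∈ (S : Subgroup G), s * a = a * s := by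
    intro s hs
    have h2 := (MinSimple.VModule.mem_zc.mp hz).2.1 s hs
    have h3 := h.comm (hP.le hs) hv
    calc s * a = v⁻¹ * (v * s) * a := by group
      _ = v⁻¹ * (s * v) * a := by rw [h3]
      _ = v⁻¹ * (s * (v * a)) := by group
      _ = v⁻¹ * (v * a * s) := by rw [h2]
      _ = a * s := by group
  rcases S5.Syl.fixed hm h.even hP.le (MinSimple.Basic.not_dvd_relIndex S hP.le) h.fix0 ha h1 with h2 | h2
  · left
    rw [h2, mul_one]
    exact hv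
  · right
    rw [h2, mul_assoc, h.even.sq, mul_one]
    exact hv

theorem z0_mem (hm : 1 ≤ m) : ε (Pi.single 0 1) ∈ zc (S : Subgroup G) := by
  have hA := h.A_le (h.even.mem (Pi.single 0 1))
  have hvS : ε (Pi.single 0 1) ∈ (S : Subgroup G) := by
    have h2 := MinSimple.VModule.zl_le_zc (S := (S : Subgroup G)) hP.le S.isPGroup'
      (MinSimple.Basic.not_dvd_relIndex S hP.le) (hP.isLoc.char2 S hG) hA
    exact MinSimple.VModule.o2_le_of_sylow S.isPGroup' (MinSimple.Basic.not_dvd_relIndex S hP.le) (zc_le _ h2)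
  refine MinSimple.VModule.mem_zc.mpr ⟨hvS, fun s hs => ?_, h.even.sq _ ▸ pow_two _⟩
  obtain ⟨σ, hσ⟩ := h.even.perm s (hP.le hs)
  exact (h.even.fixes_iff (three_le hm) hσ 0).mpr (h.fix0 s hs σ hσ)

/-- `|Ω₁(Z(S))| = 2 |V₀|` -/
theorem card_zc (hm : 1 ≤ m) : Nat.card (zc (S : Subgroup G)) = 2 * Nat.card (cv (S : Subgroup G) P) := by
  have h1 : ((cv (S : Subgroup G) P).subgroupOf (zc (S : Subgroup G))).index = 2 := by
    rw [index_eq_two_iff]
    refine ⟨⟨ε (Pi.single 0 1), h.z0_mem hG hP hm⟩, fun b => ?_⟩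
    have key : b * ⟨ε (Pi.single 0 1), h.z0_mem hG hP hm⟩ ∈ (cv (S : Subgroup G) P).subgroupOf (zc (S : Subgroup G)) ↔
        (b : G) * ε (Pi.single 0 1) ∈ cv (S : Subgroup G) P := mem_subgroupOf
    have key2 : b ∈ (cv (S : Subgroup G) P).subgroupOf (zc (S : Subgroup G)) ↔
        (b : G) ∈ cv (S : Subgroup G) P := mem_subgroupOf
    rw [key, key2]
    have hnot : ¬ ((b : G) * ε (Pi.single 0 1) ∈ cv (S : Subgroup G) P ∧ (b : G) ∈ cv (S : Subgroup G) P) := by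
      rintro ⟨h2, h3⟩
      have h4 : ε (Pi.single 0 1) ∈ cv (S : Subgroup G) P := by
        have h5 := mul_mem (inv_mem h3) h2
        rwa [inv_mul_cancel_left] at h5
      have h5 : ε (Pi.single 0 1) ∈ (⊥ : Subgroup G) := h.disj ▸ ⟨h4, h.even.mem _⟩
      exact h.even.single_ne_one (three_le hm) 0 (mem_bot.mp h5)
    rcases h.zc_mul hG hP hm b.2 with h2 | h2
    · exact Or.inr ⟨h2, fun h3 => hnot ⟨h3, h2⟩⟩
    · exact Or.inl ⟨h2, fun h3 => hnot ⟨h2, h3⟩⟩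
  have h2 := card_mul_index ((cv (S : Subgroup G) P).subgroupOf (zc (S : Subgroup G)))
  rw [h1, Nat.card_congr (subgroupOfEquivOfLe (h.cv_le_zc hG hP)).toEquiv] at h2
  rw [← h2, mul_comm]

end fin

end Split

end Cfsg.Agent.Omega.F4Leaf.Def

end

section


/-!
# OMEGA: the leaf `FrameMulti.LeafF4` from its inputs (assembler: helper816; text #15257)

A mutual pair `V = V_{P₁}`, `V' = (V_{P₂})^y` with one factor, `P₁` of type `S_{2^m+1}`, `V₀ = C_V(O²(P₁)) ≠ 1`.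

* steps: `SplitStep` (`V = V₀ × A`), `NatStep` (natural partner: `q = 2`, `|Z| = 2 |C_{V'}(O²(P₂))|`);
* inputs: `F4NC` (`m = m' = 2`, `n` not 2-central), `F4Cen` (`m = m' = 2`, `n` 2-central), `F4Nat` (`m = 2`, natural
  partner), `F4NatBig`, `F4SymBig` (`m ≥ 3` or `m' ≥ 3`);
* `leafF4_of` : the inputs imply `FrameMulti.LeafF4 K`.
-/

set_option autoImplicit false

namespace Cfsg.Agent.Omega.F4Leaf.Main

open Subgroup Pointwise Cfsg Cfsg.Agent.ZN Cfsg.Agent.ZN.ChoiceBase Cfsg.Agent.Omega.MinPar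
open Cfsg.Agent.Omega.Frame Cfsg.Agent.Omega.FFThm
open Cfsg.Agent.Omega.FrameLE (AllIn)
open Cfsg.Agent.Omega.FrameFF (cv Single Free)
open Cfsg.Agent.Omega.FrameMulti (IsSym IsNat Typed AllTyped NoWr LeafF4)
open Cfsg.Agent.Omega.S5.Def Cfsg.Agent.Omega.S5.Syl Cfsg.Agent.Omega.S5.Pair Cfsg.Agent.Omega.S5.Main
open Cfsg.Agent.Omega.F4Leaf.Def

universe u

/-! ### The steps (0) -/

/-- `V_P = V₀ × A` for a member of type `S_{2^m+1}`. (helper816, F4Leaf/Split.lean) -/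
def SplitStep : Prop :=
  ∀ (G : Type u) [Group G] [Finite G], IsCharacteristicTwoType G → ∀ (S : Sylow 2 G) (P : Subgroup G) (m : ℕ),
    2 ≤ m → IsParS (S : Subgroup G) P → IsSym (S : Subgroup G) P 1 m →
      ∃ (A : Subgroup G) (ε : (Fin (2 ^ m + 1) → ZMod 2) → G), Split (S : Subgroup G) P m A ε

/-- A natural partner of a member of type `S_{2^m+1}`: `q = 2`, `|Z| = 2 |C_{V'}(O²(P₂))|`. (helper392) -/
def NatStep : Prop :=
  ∀ (G : Type u) [Group G] [Finite G], IsCharacteristicTwoType G → ∀ (S : Sylow 2 G)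
    (P₁ P₂ : Subgroup G) (y : G) (m : ℕ) (A : Subgroup G) (ε : (Fin (2 ^ m + 1) → ZMod 2) → G), 2 ≤ m →
      LabZ S P₁ P₂ y m A ε → IsNat (S : Subgroup G) P₂ 1 →
        Nat.card (zl (S : Subgroup G) P₂) = 4 * Nat.card (cv (S : Subgroup G) P₂) ∧
          Nat.card (zc (S : Subgroup G)) = 2 * Nat.card (cv (S : Subgroup G) P₂)

/-! ### The inputs -/

section inputs

variable (K : Cls.{u})

/-- `m = m' = 2`, `n` not 2-central, `V₀ ≠ 1`. (#15257 (3)-(6), #16767; (5), (6): helper849; (O1): helper333, 79,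
816) -/
def F4NC : Prop :=
  ∀ (G : Type u) [Group G] [Finite G], Ctx G → ∀ (S : Sylow 2 G), Full (S : Subgroup G) →
    AllIn (S : Subgroup G) → AllTyped (S : Subgroup G) → NoWr (S : Subgroup G) →
    ∀ (P₁ P₂ : Subgroup G) (y : G) (A : Subgroup G) (ε : (Fin (2 ^ 2 + 1) → ZMod 2) → G)
      (A₂ : Subgroup G) (ε₂ : (Fin (2 ^ 2 + 1) → ZMod 2) → G),
      LabTwoZ S P₁ P₂ y 2 2 A ε A₂ ε₂ →
        cv (S : Subgroup G) P₁ ≠ ⊥ → cv (S : Subgroup G) P₂ ≠ ⊥ →
        ¬ Cen (zl (S : Subgroup G) P₁) (cj y (zl (S : Subgroup G) P₂)) → False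

/-- `m = m' = 2`, `n` 2-central, `V₀ ≠ 1`. ((O2): exit into II.0h1, helper252) -/
def F4Cen : Prop :=
  ∀ (G : Type u) [Group G] [Finite G], Ctx G → K G → ∀ (S : Sylow 2 G), Full (S : Subgroup G) →
    AllIn (S : Subgroup G) → AllTyped (S : Subgroup G) → NoWr (S : Subgroup G) →
    ∀ (P₁ P₂ : Subgroup G) (y : G) (A : Subgroup G) (ε : (Fin (2 ^ 2 + 1) → ZMod 2) → G)
      (A₂ : Subgroup G) (ε₂ : (Fin (2 ^ 2 + 1) → ZMod 2) → G),
      LabTwoZ S P₁ P₂ y 2 2 A ε A₂ ε₂ →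
        cv (S : Subgroup G) P₁ ≠ ⊥ → cv (S : Subgroup G) P₂ ≠ ⊥ →
        Cen (zl (S : Subgroup G) P₁) (cj y (zl (S : Subgroup G) P₂)) → IsKnownSimple' G

/-- `m = 2`, natural partner (`q = 2`), `V₀ ≠ 1`. ((O3): exit into II.0h1, helper252) -/
def F4Nat : Prop :=
  ∀ (G : Type u) [Group G] [Finite G], Ctx G → K G → ∀ (S : Sylow 2 G), Full (S : Subgroup G) →
    AllIn (S : Subgroup G) → AllTyped (S : Subgroup G) → NoWr (S : Subgroup G) →
    ∀ (P₁ P₂ : Subgroup G) (y : G) (A : Subgroup G) (ε : (Fin (2 ^ 2 + 1) → ZMod 2) → G),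
      LabZ S P₁ P₂ y 2 A ε → IsNat (S : Subgroup G) P₂ 1 →
        Nat.card (zl (S : Subgroup G) P₂) = 4 * Nat.card (cv (S : Subgroup G) P₂) →
        cv (S : Subgroup G) P₁ ≠ ⊥ → cv (S : Subgroup G) P₂ ≠ ⊥ → IsKnownSimple' G

/-- `m ≥ 3`, natural partner (`q = 2`), `V₀ ≠ 1`. ((O4): helper904, 300, 888, 871) -/
def F4NatBig : Prop :=
  ∀ (G : Type u) [Group G] [Finite G], Ctx G → K G → ∀ (S : Sylow 2 G), Full (S : Subgroup G) →
    AllIn (S : Subgroup G) → AllTyped (S : Subgroup G) → NoWr (S : Subgroup G) →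
    ∀ (P₁ P₂ : Subgroup G) (y : G) (m : ℕ) (A : Subgroup G) (ε : (Fin (2 ^ m + 1) → ZMod 2) → G), 3 ≤ m →
      LabZ S P₁ P₂ y m A ε → IsNat (S : Subgroup G) P₂ 1 →
        Nat.card (zl (S : Subgroup G) P₂) = 4 * Nat.card (cv (S : Subgroup G) P₂) →
        cv (S : Subgroup G) P₁ ≠ ⊥ → cv (S : Subgroup G) P₂ ≠ ⊥ → IsKnownSimple' G

/-- `S_{2^m+1}` against `S_{2^m'+1}`, `m ≥ 3` or `m' ≥ 3`, `V₀ ≠ 1`. ((O4): helper904, 300, 888, 871) -/
def F4SymBig : Prop :=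
  ∀ (G : Type u) [Group G] [Finite G], Ctx G → K G → ∀ (S : Sylow 2 G), Full (S : Subgroup G) →
    AllIn (S : Subgroup G) → AllTyped (S : Subgroup G) → NoWr (S : Subgroup G) →
    ∀ (P₁ P₂ : Subgroup G) (y : G) (m m' : ℕ) (A : Subgroup G) (ε : (Fin (2 ^ m + 1) → ZMod 2) → G)
      (A₂ : Subgroup G) (ε₂ : (Fin (2 ^ m' + 1) → ZMod 2) → G), 2 ≤ m → 2 ≤ m' → 3 ≤ m ∨ 3 ≤ m' →
        LabTwoZ S P₁ P₂ y m m' A ε A₂ ε₂ →
        cv (S : Subgroup G) P₁ ≠ ⊥ → cv (S : Subgroup G) P₂ ≠ ⊥ → IsKnownSimple' G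

end inputs

/-! ### The leaf -/

section leaf

variable {G : Type u} [Group G] [Finite G]

theorem labZ {S : Sylow 2 G} {P₁ P₂ : Subgroup G} {y : G} (h : Pos S P₁ P₂ y) {m : ℕ} {A : Subgroup G}
    {ε : (Fin (2 ^ m + 1) → ZMod 2) → G} (h1 : Split (S : Subgroup G) P₁ m A ε) : LabZ S P₁ P₂ y m A ε :=
  ⟨h, h1, h1.side _ h.le h.off₁⟩

theorem labTwoZ {S : Sylow 2 G} {P₁ P₂ : Subgroup G} {y : G} (h : Pos S P₁ P₂ y) {m m' : ℕ} {A A₂ : Subgroup G}
    {ε : (Fin (2 ^ m + 1) → ZMod 2) → G} {ε₂ : (Fin (2 ^ m' + 1) → ZMod 2) → G}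
    (h1 : Split (S : Subgroup G) P₁ m A ε) (h2 : Split (S : Subgroup G) P₂ m' A₂ ε₂) :
    LabTwoZ S P₁ P₂ y m m' A ε A₂ ε₂ := by
  have h5 := off_cj h.off₂ y⁻¹
  rw [cj_inv_cj] at h5
  have h6 : cj y⁻¹ (zl (S : Subgroup G) P₁) ≤ (S : Subgroup G) := by
    rw [cj_le_iff, inv_inv]
    exact h.ge
  have h7 := (h2.side _ h6 h5).conj y
  rw [cj_cj_inv] at h7
  exact ⟨labZ h h1, h2, h7⟩

theorem ne_bot_of_card {H : Subgroup G} (h : Nat.card H ≠ 1) : H ≠ ⊥ := by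
  rintro rfl
  exact h Subgroup.card_bot

theorem ne_bot_iff {H : Subgroup G} : H ≠ ⊥ ↔ Nat.card H ≠ 1 :=
  ⟨fun h h1 => h (Subgroup.card_eq_one.mp h1), ne_bot_of_card⟩

end leaf

/-- **LeafF4 from its inputs.** -/
theorem leafF4_of {K : Cls.{u}} (hSp : SplitStep.{u}) (hNs : NatStep.{u}) (h1 : F4NC.{u}) (h2 : F4Cen K)
    (h3 : F4Nat K) (h4 : F4NatBig K) (h5 : F4SymBig K) : LeafF4 K := by
  intro G _ _ hG hcl S hF hI hT hW P₁ P₂ x hm hnf m hm2 hS hc
  obtain ⟨y, hp⟩ := exists_pos hG.char2 S hT hm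
  obtain ⟨A, ε, hs⟩ := hSp G hG.char2 S P₁ m hm2 hp.pair.star₁ hS
  have c1 := hs.card_zc hG.char2 hp.pair.star₁ (by omega)
  rcases hc with hN | ⟨m', hm2', hS'⟩
  · have hl := labZ hp hs
    obtain ⟨e4, c2⟩ := hNs G hG.char2 S P₁ P₂ y m A ε hm2 hl hN
    have hne : cv (S : Subgroup G) P₁ ≠ ⊥ ∧ cv (S : Subgroup G) P₂ ≠ ⊥ := by
      rw [ne_bot_iff, ne_bot_iff]
      have e : Nat.card (cv (S : Subgroup G) P₁) = Nat.card (cv (S : Subgroup G) P₂) := by omega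
      rw [e, and_self]
      intro h0
      apply hnf
      exact ⟨Subgroup.card_eq_one.mp (e.trans h0), Subgroup.card_eq_one.mp h0⟩
    by_cases hm3 : m = 2
    · subst hm3
      exact h3 G hG hcl S hF hI hT hW P₁ P₂ y A ε hl hN e4 hne.1 hne.2
    · exact h4 G hG hcl S hF hI hT hW P₁ P₂ y m A ε (by omega) hl hN e4 hne.1 hne.2
  · obtain ⟨A₂, ε₂, hs₂⟩ := hSp G hG.char2 S P₂ m' hm2' hp.pair.star₂ hS'
    have c2 := hs₂.card_zc hG.char2 hp.pair.star₂ (by omega)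
    have hne : cv (S : Subgroup G) P₁ ≠ ⊥ ∧ cv (S : Subgroup G) P₂ ≠ ⊥ := by
      rw [ne_bot_iff, ne_bot_iff]
      have e : Nat.card (cv (S : Subgroup G) P₁) = Nat.card (cv (S : Subgroup G) P₂) := by omega
      rw [e, and_self]
      intro h0
      apply hnf
      exact ⟨Subgroup.card_eq_one.mp (e.trans h0), Subgroup.card_eq_one.mp h0⟩
    have hl := labTwoZ hp hs hs₂
    by_cases hbig : 3 ≤ m ∨ 3 ≤ m'
    · exact h5 G hG hcl S hF hI hT hW P₁ P₂ y m m' A ε A₂ ε₂ hm2 hm2' hbig hl hne.1 hne.2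
    · obtain rfl : m = 2 := by omega
      obtain rfl : m' = 2 := by omega
      by_cases hC : Cen (zl (S : Subgroup G) P₁) (cj y (zl (S : Subgroup G) P₂))
      · exact h2 G hG hcl S hF hI hT hW P₁ P₂ y A ε A₂ ε₂ hl hne.1 hne.2 hC
      · exact (h1 G hG S hF hI hT hW P₁ P₂ y A ε A₂ ε₂ hl hne.1 hne.2 hC).elim

end Cfsg.Agent.Omega.F4Leaf.Main

end
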